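import Cfsg.Agent.Lib.FS.Real

/-!
# Extension of real representations along a subgroup of odd index (`ExtStmt`)
-/

set_option autoImplicit false
set_option linter.style.haveILetI false

namespace Cfsg.Agent.FS

open Cfsg Cfsg.Agent.Char Cfsg.Agent.Ind Module

universe u

/-- A projective extension which is linear on a subgroup of index `m` can be made linear when
`m`-th roots of scalars exist uniquely. -/
theorem ext_abstract {G E A : Type*} [Group G] [Finite G] [Group E] [CommGroup A]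
    (N M : Subgroup G) [hN : N.Normal] (h : N ≤ M) (Z : A →* E) (hZ : Function.Injective Z)
    (hcen : ∀ c T, Z c * T = T * Z c) (hroot : Function.Bijective (fun c : A => c ^ M.index))
    (R0 : M →* E)
    (hex : ∀ g : G, ∃ T : E, ∀ n (hn : n ∈ N),
      T * R0 ⟨n, h hn⟩ * T⁻¹ = R0 ⟨g * n * g⁻¹, h (hN.conj_mem n hn g)⟩)
    (hschur : ∀ T : E, (∀ n (hn : n ∈ N), T * R0 ⟨n, h hn⟩ * T⁻¹ = R0 ⟨n, h hn⟩) →
      ∃ c, Z c = T) :
    ∃ R : G →* E, ∀ n (hn : n ∈ N), R n = R0 ⟨n, h hn⟩ := by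
  classical
  let Γ : Subgroup (G × E) :=
    { carrier := {p | ∀ n (hn : n ∈ N),
        p.2 * R0 ⟨n, h hn⟩ * p.2⁻¹ = R0 ⟨p.1 * n * p.1⁻¹, h (hN.conj_mem n hn p.1)⟩}
      one_mem' := fun n hn => by simp
      mul_mem' := fun {a b} ha hb n hn => by
        have h1 := ha _ (hN.conj_mem n hn b.1)
        rw [← hb n hn] at h1
        simp only [Prod.snd_mul, Prod.fst_mul, mul_inv_rev, mul_assoc] at h1 ⊢
        exact h1
      inv_mem' := fun {a} ha n hn => by
        have h1 := ha _ (hN.conj_mem n hn a.1⁻¹)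
        simp only [Prod.snd_inv, Prod.fst_inv, inv_inv, mul_assoc, mul_inv_cancel_left,
          mul_inv_cancel, mul_one] at h1 ⊢
        rw [← h1]
        simp [mul_assoc] }
  have hΓ : ∀ p : G × E, p ∈ Γ ↔ ∀ n (hn : n ∈ N),
      p.2 * R0 ⟨n, h hn⟩ * p.2⁻¹ = R0 ⟨p.1 * n * p.1⁻¹, h (hN.conj_mem n hn p.1)⟩ :=
    fun _ => Iff.rfl
  have hM : ∀ x : M, ((x : G), R0 x) ∈ Γ := fun x n hn => by
    rw [← map_inv, ← map_mul, ← map_mul]
    rfl
  have hZΓ : ∀ c, ((1 : G), Z c) ∈ Γ := fun c n hn => by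
    simp [hcen]
  have huniq : ∀ g T T', (g, T) ∈ Γ → (g, T') ∈ Γ → ∃ c, T' = Z c * T := by
    intro g T T' h1 h2
    have h3 := Γ.mul_mem h2 (Γ.inv_mem h1)
    obtain ⟨c, hc⟩ := hschur (T' * T⁻¹) fun n hn => by simpa using h3 n hn
    exact ⟨c, by rw [hc]; simp⟩
  let π : Γ →* G := (MonoidHom.fst G E).comp Γ.subtype
  have hπ : Function.Surjective π := fun g => by
    obtain ⟨T, hT⟩ := hex g
    exact ⟨⟨(g, T), hT⟩, rfl⟩
  let Γ0 : Subgroup Γ := M.comap π
  have hidx : Γ0.index = M.index := M.index_comap_of_surjective hπ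
  haveI : Γ0.FiniteIndex := ⟨by rw [hidx]; exact Subgroup.FiniteIndex.index_ne_zero⟩
  have hφ : ∀ p : Γ0, ∃ c, p.1.1.2 = Z c * R0 ⟨p.1.1.1, p.2⟩ := fun p =>
    huniq _ _ _ (hM ⟨p.1.1.1, p.2⟩) p.1.2
  choose φ hφ using hφ
  have hφ' : ∀ (p : Γ0) c, p.1.1.2 = Z c * R0 ⟨p.1.1.1, p.2⟩ → φ p = c := fun p c hc =>
    hZ (mul_right_cancel ((hφ p).symm.trans hc))
  let φ0 : Γ0 →* A := MonoidHom.mk' φ fun p p' => hφ' _ _ (by
    have h1 : R0 ⟨(p * p').1.1.1, (p * p').2⟩ = R0 ⟨p.1.1.1, p.2⟩ * R0 ⟨p'.1.1.1, p'.2⟩ := by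
      rw [← map_mul]; rfl
    rw [h1, map_mul]
    show p.1.1.2 * p'.1.1.2 = _
    rw [hφ p, hφ p', mul_assoc, mul_assoc, ← mul_assoc (R0 _), ← hcen, mul_assoc])
  let τ : Γ →* A := MonoidHom.transfer φ0
  have hτZ : ∀ c, τ ⟨_, hZΓ c⟩ = c ^ M.index := by
    intro c
    have h1 : ∀ k : ℕ, (⟨_, hZΓ c⟩ : Γ) ^ k = ⟨_, hZΓ (c ^ k)⟩ := fun k =>
      Subtype.ext (by simp)
    rw [MonoidHom.transfer_eq_pow φ0 _ fun k g₀ _ => by
      rw [h1, mul_assoc, inv_mul_eq_iff_eq_mul]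
      exact Subtype.ext (Prod.ext (by simp) (hcen _ _))]
    refine hφ' _ _ ?_
    simp only [h1, hidx]
    rw [show (⟨1, _⟩ : M) = 1 from rfl, map_one, mul_one]
  have hτN : ∀ n (hn : n ∈ N), τ ⟨_, hM ⟨n, h hn⟩⟩ = 1 := by
    intro n hn
    haveI := Γ0.fintypeQuotientOfFiniteIndex
    haveI : Fintype (Quotient (MulAction.orbitRel
      (Subgroup.zpowers (⟨_, hM ⟨n, h hn⟩⟩ : Γ)) (Γ ⧸ Γ0))) := Fintype.ofFinite _
    rw [MonoidHom.transfer_eq_prod_quotient_orbitRel_zpowers_quot]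
    refine Finset.prod_eq_one fun q _ => hφ' _ _ ?_
    generalize_proofs
    generalize q.out.out = g₀ at *
    generalize Function.minimalPeriod _ _ = k at *
    have h1 := (hΓ _).1 (g₀⁻¹).2 _ (N.pow_mem hn k)
    have h2 : R0 ⟨n ^ k, h (N.pow_mem hn k)⟩ = R0 ⟨n, h hn⟩ ^ k := by
      rw [← map_pow]; rfl
    rw [h2] at h1
    simpa using h1
  have hex' : ∀ g : G, ∃ T : E, ∃ hT : (g, T) ∈ Γ, τ ⟨_, hT⟩ = 1 := by
    intro g
    obtain ⟨T, hT⟩ := hex g
    obtain ⟨c, hc⟩ : ∃ c : A, c ^ M.index = _ := hroot.2 (τ ⟨(g, T), hT⟩)⁻¹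
    have h1 := Γ.mul_mem (hZΓ c) ((hΓ (g, T)).2 hT)
    have h2 : τ ⟨_, h1⟩ = 1 := by
      rw [← inv_mul_cancel (τ ⟨(g, T), hT⟩), ← hc, ← hτZ, ← map_mul]
      rfl
    simp only [Prod.mk_mul_mk, one_mul] at h1 h2
    exact ⟨_, h1, h2⟩
  choose R hR hRτ using hex'
  have hRu : ∀ g T (hT : (g, T) ∈ Γ), τ ⟨_, hT⟩ = 1 → R g = T := by
    intro g T hT h1
    obtain ⟨c, hc⟩ := huniq _ _ _ hT (hR g)
    have h2 : (⟨_, hR g⟩ : Γ) = ⟨_, hZΓ c⟩ * ⟨_, hT⟩ := Subtype.ext (Prod.ext (by simp) hc)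
    have h3 := hRτ g
    rw [h2, map_mul, h1, mul_one, hτZ] at h3
    have h4 : c = 1 := hroot.1 (by simpa using h3)
    rw [hc, h4, map_one, one_mul]
  refine ⟨MonoidHom.mk' R fun a b => hRu _ _ (Γ.mul_mem (hR a) (hR b)) ?_,
    fun n hn => hRu _ _ (hM ⟨n, h hn⟩) (hτN n hn)⟩
  have h1 := map_mul τ ⟨_, hR a⟩ ⟨_, hR b⟩
  rw [hRτ, hRτ, mul_one] at h1
  exact h1

theorem odd_pow_bij {m : ℕ} (hm : Odd m) : Function.Bijective (fun c : ℝˣ => c ^ m) := by
  refine ⟨fun a b e => Units.ext (hm.pow_injective (by simpa using congrArg Units.val e)),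
    fun d => ?_⟩
  have h1 : ∀ x : ℝ, 0 ≤ x → ∃ y : ℝ, y ^ m = x := fun x hx =>
    ⟨x ^ (m⁻¹ : ℝ), Real.rpow_inv_natCast_pow hx hm.pos.ne'⟩
  obtain ⟨y, hy⟩ : ∃ y : ℝ, y ^ m = d := by
    rcases le_total 0 (d : ℝ) with hd | hd
    · exact h1 _ hd
    · obtain ⟨y, hy⟩ := h1 (-d) (neg_nonneg.2 hd)
      exact ⟨-y, by rw [hm.neg_pow, hy, neg_neg]⟩
  have hy0 : y ≠ 0 := by
    rintro rfl
    rw [zero_pow hm.pos.ne'] at hy
    exact d.ne_zero hy.symm
  exact ⟨Units.mk0 y hy0, Units.ext (by simpa using hy)⟩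

section schur

variable {N V : Type*} [Group N] [Finite N] [AddCommGroup V] [Module ℝ V] [FiniteDimensional ℝ V]

theorem finrank_intertwining (ρ σ : Representation ℝ N V) (hσ : σ.character = ρ.character)
    (hρ : IsIrrCharacter N (fun n => ((ρ.character n : ℝ) : ℂ))) :
    finrank ℝ (Representation.IntertwiningMap ρ σ) = 1 := by
  haveI := Fintype.ofFinite N
  haveI := invertibleOfNonzero (Nat.cast_ne_zero.mpr (Nat.card_pos (α := N)).ne' :
    (Nat.card N : ℝ) ≠ 0)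
  have h1 := congrArg Complex.ofRealHom
    (Representation.card_inv_mul_sum_char_mul_char_eq_finrank ρ σ)
  simp only [map_mul, map_inv₀, map_natCast, map_sum, hσ] at h1
  have h2 := inner_self_of_isIrr hρ
  rw [classInner] at h2
  have h3 : ((finrank ℝ (Representation.IntertwiningMap ρ σ) : ℕ) : ℂ) = 1 := by
    rw [← h1, ← h2]
    congr 1
    refine Finset.sum_congr rfl fun g _ => ?_
    rw [← apply_inv_of_isChar (isChar_of_isIrr hρ)]
    rfl
  exact_mod_cast h3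

theorem schur_real (ρ : Representation ℝ N V)
    (hρ : IsIrrCharacter N (fun n => ((ρ.character n : ℝ) : ℂ))) (T : Module.End ℝ V)
    (hT : ∀ n, T * ρ n = ρ n * T) : ∃ c : ℝ, c • (1 : Module.End ℝ V) = T := by
  rcases subsingleton_or_nontrivial V with h0 | h0
  · exact ⟨0, Subsingleton.elim _ _⟩
  have h1 : Representation.IntertwiningMap.id ρ ≠ 0 := fun e => by
    obtain ⟨v, hv⟩ := exists_ne (0 : V)
    exact hv (DFunLike.congr_fun e v)
  obtain ⟨c, hc⟩ := (finrank_eq_one_iff_of_nonzero' _ h1).1 (finrank_intertwining ρ ρ rfl hρ)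
    ⟨T, hT⟩
  exact ⟨c, congrArg Representation.IntertwiningMap.toLinearMap hc⟩

theorem exists_intertwiner (ρ σ : Representation ℝ N V) (hσ : σ.character = ρ.character)
    (hρ : IsIrrCharacter N (fun n => ((ρ.character n : ℝ) : ℂ))) :
    ∃ T : Module.End ℝ V, IsUnit T ∧ ∀ n, T * ρ n = σ n * T := by
  rcases subsingleton_or_nontrivial V with h0 | h0
  · exact ⟨1, isUnit_one, fun _ => Subsingleton.elim _ _⟩
  haveI : NeZero (Nat.card N : ℝ) := ⟨Nat.cast_ne_zero.mpr Nat.card_pos.ne'⟩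
  have hirr : ρ.IsIrreducible := by
    by_contra hirr
    obtain ⟨U, W, hU, hW, hc⟩ := exists_split_of_not_isIrreducible ρ hirr
    obtain ⟨c, hc'⟩ := schur_real ρ hρ (Submodule.projection _ _ hc) fun n =>
      LinearMap.ext fun v => by
        obtain ⟨a, ha, b, hb, rfl⟩ := Submodule.mem_sup.1
          (hc.sup_eq_top ▸ Submodule.mem_top (x := v))
        simp only [Module.End.mul_apply, map_add]
        rw [Submodule.projection_apply_of_mem_left hc ha,
          Submodule.projection_apply_of_mem_left hc (U.apply_mem_toSubmodule n ha),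
          Submodule.projection_apply_of_mem_right hc hb,
          Submodule.projection_apply_of_mem_right hc (W.apply_mem_toSubmodule n hb), map_zero]
    obtain ⟨a, ha, ha0⟩ := Submodule.exists_mem_ne_zero_of_ne_bot hU
    obtain ⟨b, hb, hb0⟩ := Submodule.exists_mem_ne_zero_of_ne_bot hW
    have h1 := LinearMap.congr_fun hc' a
    have h2 := LinearMap.congr_fun hc' b
    rw [Submodule.projection_apply_of_mem_left hc ha] at h1
    rw [Submodule.projection_apply_of_mem_right hc hb] at h2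
    have h3 : c = 0 := by simpa [hb0] using h2
    exact ha0 (by simpa [h3] using h1.symm)
  have h1 := finrank_intertwining ρ σ hσ hρ
  haveI : Nontrivial (Representation.IntertwiningMap ρ σ) :=
    Module.nontrivial_of_finrank_pos (R := ℝ) (by omega)
  obtain ⟨T, hT⟩ := exists_ne (0 : Representation.IntertwiningMap ρ σ)
  have h2 := (Representation.IsIrreducible.injective_or_eq_zero T).resolve_right hT
  exact ⟨T.toLinearMap, (Module.End.isUnit_iff _).2 ⟨h2, LinearMap.injective_iff_surjective.1 h2⟩,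
    T.isIntertwining'⟩

end schur

theorem ext : ExtStmt.{u} := by
  intro G _ _ N M hN h θ hodd hθ hirr hinv
  obtain ⟨d, ρ, rfl⟩ := hθ
  let ρN : Representation ℝ N (Fin d → ℝ) := ρ.comp (Subgroup.inclusion h)
  have hirr' : IsIrrCharacter N (fun n => ((ρN.character n : ℝ) : ℂ)) := hirr
  have hnt : Nontrivial (Fin d → ℝ) := by
    have h1 := apply_one_ne_zero_of_isIrr hirr'
    rw [Representation.char_one] at h1
    exact Module.nontrivial_of_finrank_pos (R := ℝ) (Nat.pos_of_ne_zero fun e => h1 (by simp [e]))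
  let Z : ℝˣ →* (Module.End ℝ (Fin d → ℝ))ˣ :=
    Units.map (algebraMap ℝ (Module.End ℝ (Fin d → ℝ))).toMonoidHom
  obtain ⟨R, hR⟩ := ext_abstract N M h Z
    (Units.map_injective (algebraMap ℝ (Module.End ℝ (Fin d → ℝ))).injective)
    (fun c T => Units.ext (Algebra.commutes _ _)) (odd_pow_bij hodd) ρ.asGroupHom
    (fun g => by
      obtain ⟨T, hT, hT'⟩ := exists_intertwiner ρN
        (ρN.comp (MulAut.conjNormal g : MulAut N).toMonoidHom)
        (funext fun n => Complex.ofReal_injective (congrFun (hinv g) n)) hirr'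
      refine ⟨hT.unit, fun n hn => ?_⟩
      rw [mul_inv_eq_iff_eq_mul]
      exact Units.ext (hT' ⟨n, hn⟩))
    (fun T hT => by
      obtain ⟨c, hc⟩ := schur_real ρN hirr' T fun n =>
        congrArg Units.val (mul_inv_eq_iff_eq_mul.1 (hT n n.2))
      have hc0 : c ≠ 0 := by
        rintro rfl
        exact T.ne_zero (by rw [← hc, zero_smul])
      exact ⟨Units.mk0 c hc0, Units.ext (by rw [← hc]; exact Algebra.algebraMap_eq_smul_one c)⟩)
  refine ⟨_, ro_rep ((Units.coeHom _).comp R), fun n => ?_⟩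
  show ((LinearMap.trace ℝ _ (R n : Module.End ℝ (Fin d → ℝ)) : ℝ) : ℂ) = _
  rw [hR n n.2]
  rfl

end Cfsg.Agent.FS
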