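import Cfsg.Agent.Lib.FS.Real2
import Cfsg.Agent.Lib.FS.Ext
import Cfsg.Agent.Lib.Ind.Monomial

/-!
# Clifford theory for real characters (`Cliff RR`, `Cliff Re`, `Cliff Re2`, `HeisStmt`)
-/

set_option autoImplicit false
set_option linter.style.haveILetI false
set_option linter.unusedSectionVars false

namespace Cfsg.Agent.FS

open Cfsg Cfsg.Agent.Char Cfsg.Agent.Ind Module
open scoped ComplexConjugate

universe u

section struct

variable {G : Type*} [Group G] [Fintype G] (N : Subgroup G) [hN : N.Normal] [Fintype N]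

/-- Gallagher's theorem -/
theorem gallagher {ψ Θ : G → ℂ} (hψ : IsIrrCharacter G ψ) (hΘ : IsCharacter G Θ)
    (hθ : IsIrrCharacter N (fun n : N => Θ n))
    (h1 : classInner (fun n : N => ψ n) (fun n : N => Θ n) ≠ 0) :
    ∃ β : G ⧸ N → ℂ, IsIrrCharacter (G ⧸ N) β ∧ ψ = (fun g : G => β g * Θ g) ∧
      ((∀ g, (ψ g).im = 0) → (∀ g, (Θ g).im = 0) → ∀ q, (β q).im = 0) := by
  classical
  have hc : ∀ β : IrrCharacter (G ⧸ N),
      IsCharacter G (fun g : G => (β : G ⧸ N → ℂ) g * Θ g) := fun β =>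
    isChar_mul (isChar_comp (isChar_irr β) (QuotientGroup.mk' N)) hΘ
  choose m hm using fun β => exists_nat_inner (hc β) (isChar_of_isIrr hψ)
  obtain ⟨e, he⟩ := exists_nat_inner (isChar_restrict (isChar_of_isIrr hψ) N) (isChar_of_isIrr hθ)
  obtain ⟨d, hd0, hd⟩ := exists_pos_nat_of_isIrr hθ
  have hd' : Θ 1 = d := hd
  have he0 : e ≠ 0 := fun h => h1 (by rw [he, h, Nat.cast_zero])
  have h2 : ψ 1 = (e * d : ℕ) := by
    have h3 := congrFun (clifford_inv N hψ hθ h1 (cjf_res N (cf_of_isCharacter hΘ))) 1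
    rw [he] at h3
    simpa [hd'] using h3
  have h3 : ∑ β, deg β * m β = e := by
    have h4 := inner_res_eq_sum N Θ ψ
    rw [inner_comm_of_isChar (isChar_of_isIrr hθ) (isChar_restrict (isChar_of_isIrr hψ) N),
      he] at h4
    simp only [hm, deg_spec] at h4
    exact_mod_cast h4.symm
  have h4 : ∀ β, m β ≠ 0 → e ≤ deg β := fun β hβ =>
    Nat.le_of_mul_le_mul_right (deg_le_of_inner_ne_zero (hc β) hψ
      (by rw [hm]; exact_mod_cast hβ) (a := deg β * d) (by simp [deg_spec, hd']) h2) hd0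
  obtain ⟨β, -, hβ⟩ := Finset.exists_ne_zero_of_sum_ne_zero (h3 ▸ he0)
  have hβ0 : m β ≠ 0 := right_ne_zero_of_mul hβ
  have h5 : deg β * m β ≤ e :=
    h3 ▸ Finset.single_le_sum (f := fun β => deg β * m β) (fun _ _ => Nat.zero_le _)
      (Finset.mem_univ β)
  have h6 : deg β = e := le_antisymm
    ((Nat.le_mul_of_pos_right _ (Nat.pos_of_ne_zero hβ0)).trans h5) (h4 β hβ0)
  have h7 := eq_of_inner_ne_zero_of_deg (hc β) hψ (by rw [hm]; exact_mod_cast hβ0)
    (by simp [deg_spec, hd', h2, h6])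
  refine ⟨β, β.2, h7.symm, fun hψr hΘr => ?_⟩
  have h8 : m (irrConj β) ≠ 0 := by
    have h9 : (fun g : G => (irrConj β : G ⧸ N → ℂ) g * Θ g) = ψ := by
      ext g
      rw [← Complex.conj_eq_iff_im.2 (hψr g), ← h7, map_mul, Complex.conj_eq_iff_im.2 (hΘr g)]
      rfl
    have h10 := hm (irrConj β)
    rw [h9, inner_self_of_isIrr hψ] at h10
    intro h
    simp [h] at h10
  have h9 : irrConj β = β := by
    by_contra hne
    have h10 := Finset.add_le_sum (f := fun β => deg β * m β) (fun _ _ => Nat.zero_le _)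
      (Finset.mem_univ (irrConj β)) (Finset.mem_univ β) hne
    have h11 := (h4 _ h8).trans (Nat.le_mul_of_pos_right _ (Nat.pos_of_ne_zero h8))
    have h12 := (h4 _ hβ0).trans (Nat.le_mul_of_pos_right _ (Nat.pos_of_ne_zero hβ0))
    simp only [h3] at h10
    omega
  exact fun q => Complex.conj_eq_iff_im.1 (congrFun (congrArg Subtype.val h9) q)

/-- the Clifford correspondent of a real character over a real character is real -/
theorem real_of_indFun {θ : N → ℂ} (hθ : IsIrrCharacter N θ) (hθr : ∀ n, (θ n).im = 0)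
    {ψ : inertia N θ → ℂ} (hψ : IsIrrCharacter (inertia N θ) ψ)
    (h1 : classInner (fun n : N => ψ ⟨n, le_inertia N (cf_of_isIrr hθ) n.2⟩) θ ≠ 0)
    (hr : ∀ g, (indFun (inertia N θ) ψ g).im = 0) (g : inertia N θ) : (ψ g).im = 0 := by
  haveI := Fintype.ofFinite (inertia N θ)
  have hle := le_inertia N (cf_of_isIrr hθ)
  have hχ := isIrr_indFun_inertia N hθ hψ h1
  set χ := indFun (inertia N θ) ψ with hχdef
  by_contra hne
  have hne' : ψ ≠ fun g => conj (ψ g) := fun e =>
    hne (Complex.conj_eq_iff_im.1 (congrFun e g).symm)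
  have hψ' := isIrr_conj hψ
  have h2 : classInner (fun h : inertia N θ => χ h) ψ = 1 := by
    rw [← frobenius' _ _ (cf_of_isIrr hχ), inner_self_of_isIrr hχ]
  have h3 : classInner (fun h : inertia N θ => χ h) (fun g => conj (ψ g)) = 1 := by
    rw [← frobenius' _ _ (cf_of_isIrr hχ), indFun_star]
    simp only [← hχdef, Complex.conj_eq_iff_im.2 (hr _)]
    exact inner_self_of_isIrr hχ
  have h4 := isChar_sub_of_inner_ne_zero (isChar_restrict (isChar_of_isIrr hχ) _) hψ
    (by rw [h2]; exact one_ne_zero)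
  have h5 := isChar_sub_of_inner_ne_zero h4 hψ' (by
    rw [Ind.inner_sub_left, h3, inner_eq_zero_of_isIrr hψ hψ' hne']; simp)
  obtain ⟨c, hc⟩ := exists_nat_inner (isChar_comp h5 (Subgroup.inclusion hle)) (isChar_of_isIrr hθ)
  have hψN := isChar_comp (isChar_of_isIrr hψ) (Subgroup.inclusion hle)
  obtain ⟨e, he⟩ := exists_nat_inner hψN (isChar_of_isIrr hθ)
  have he' : classInner (fun n : N => conj (ψ (Subgroup.inclusion hle n))) θ = e := by
    have h6 := inner_conj_conj (fun n : N => ψ (Subgroup.inclusion hle n)) θ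
    simp only [Complex.conj_eq_iff_im.2 (hθr _)] at h6
    rw [h6, inner_comm_of_isChar (isChar_of_isIrr hθ) hψN, he]
  have h6 : classInner (fun n : N => χ n) θ = e + e + c := by
    rw [← hc]
    nth_rewrite 1 [← he]
    rw [← he', ← Ind.inner_add_left, ← Ind.inner_add_left]
    congr 1
    ext n
    simp
  have he0 : (e : ℂ) ≠ 0 := he ▸ h1
  have h7 := clifford_deg N hχ hθ (by
    rw [h6]
    have : e ≠ 0 := by exact_mod_cast he0
    exact_mod_cast (by omega : e + e + c ≠ 0))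
  have h8 := congrFun (clifford_inv_sub N _ hle hψ hθ h1 le_rfl) 1
  have h9 : classInner (fun n : N => ψ ⟨n, hle n.2⟩) θ = e := he
  rw [h9] at h8
  have h10 : ψ 1 = e * θ 1 := h8
  rw [h6, hχdef, indFun_one, h10] at h7
  have h11 : ((inertia N θ).index : ℂ) ≠ 0 :=
    Nat.cast_ne_zero.2 Subgroup.FiniteIndex.index_ne_zero
  have h12 := apply_one_ne_zero_of_isIrr hθ
  have h13 : ((e + c : ℕ) : ℂ) = 0 := by
    have : ((e + c : ℕ) : ℂ) * ((inertia N θ).index * θ 1) = 0 := by
      push_cast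
      linear_combination -h7
    exact (mul_eq_zero.1 this).resolve_right (mul_ne_zero h11 h12)
  have h14 : e + c = 0 := by exact_mod_cast h13
  exact he0 (by exact_mod_cast (by omega : e = 0))

/-- the structure of a character over an extendible character -/
theorem cliff_struct {χ : G → ℂ} (hχ : IsIrrCharacter G χ) {θ : N → ℂ} (hθ : IsIrrCharacter N θ)
    (h1 : classInner (fun n : N => χ n) θ ≠ 0) {Θ : inertia N θ → ℂ}
    (hΘ : IsCharacter (inertia N θ) Θ)
    (hres : ∀ n : N, Θ ⟨n, le_inertia N (cf_of_isIrr hθ) n.2⟩ = θ n) :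
    ∃ β : inertia N θ ⧸ N.subgroupOf (inertia N θ) → ℂ, IsIrrCharacter _ β ∧
      χ = indFun (inertia N θ) (fun g => β g * Θ g) ∧
      ((∀ g, (χ g).im = 0) → (∀ g, (Θ g).im = 0) → ∀ q, (β q).im = 0) := by
  haveI := Fintype.ofFinite (inertia N θ)
  haveI := Fintype.ofFinite (N.subgroupOf (inertia N θ))
  have hle := le_inertia N (cf_of_isIrr hθ)
  obtain ⟨ψ, hψ, h2, rfl⟩ := exists_indFun_inertia N hχ hθ h1
  have h3 : (fun n : N.subgroupOf (inertia N θ) => Θ n) =
      fun n => θ (Subgroup.subgroupOfEquivOfLe hle n) := funext fun n => hres ⟨n, n.2⟩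
  obtain ⟨β, hβ, h4, h5⟩ := gallagher (N.subgroupOf (inertia N θ)) hψ hΘ
    (h3 ▸ isIrr_comp_equiv hθ _) (by
      rw [h3]
      exact (Ind.inner_comp_equiv (Subgroup.subgroupOfEquivOfLe hle)
        (fun n : N => ψ ⟨n, hle n.2⟩) θ).trans_ne h2)
  exact ⟨β, hβ, congrArg _ h4, fun hr hΘr => h5
    (real_of_indFun N hθ (fun n => by rw [← hres]; exact hΘr _) hψ h2 hr) hΘr⟩

end struct

section semi

open SemidirectProduct

variable {N L : Type u} [Group N] [Finite N] [Group L] [Finite L] {φ : L →* MulAut N}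

instance : Finite (N ⋊[φ] L) := Finite.of_equiv _ SemidirectProduct.equivProd.symm

theorem semi_struct [Fintype N] [Fintype (N ⋊[φ] L)] {χ : N ⋊[φ] L → ℂ}
    (hχ : IsIrrCharacter _ χ) (lam : N →* ℂˣ)
    (h1 : classInner (fun n : N => χ (inl n)) (fun n => (lam n : ℂ)) ≠ 0) (L' : Subgroup L)
    (hL' : ∀ l, l ∈ L' ↔ ∀ n, lam (φ l n) = lam n) :
    ∃ (I : Subgroup (N ⋊[φ] L)) (Q : Type u) (_ : Group Q) (π : I →* Q) (f : L' →* Q)
      (Θ : I →* ℂˣ) (β : Q → ℂ), Function.Surjective f ∧ IsIrrCharacter Q β ∧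
      (∀ x : I, Θ x = lam x.1.left) ∧ χ = indFun I (fun g => β (π g) * Θ g) ∧
      ((∀ g, (χ g).im = 0) → (∀ n, (lam n : ℂ).im = 0) → ∀ q, (β q).im = 0) := by
  let N' : Subgroup (N ⋊[φ] L) := (rightHom : N ⋊[φ] L →* L).ker
  haveI := Fintype.ofFinite N'
  let e : N ≃* N' := (MonoidHom.ofInjective inl_injective).trans
    (MulEquiv.subgroupCongr range_inl_eq_ker_rightHom)
  have he : ∀ n, (e n : N ⋊[φ] L) = inl n := fun _ => rfl
  let θ : N' → ℂ := fun n => lam n.1.left
  have hθe : θ = fun n => ((lam.comp e.symm.toMonoidHom) n : ℂ) := by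
    ext n
    obtain ⟨n, rfl⟩ := e.surjective n
    simp [θ, he]
  have hθ : IsIrrCharacter N' θ := hθe ▸ isIrr_unitsHom _
  have hI : ∀ g, g ∈ inertia N' θ ↔ g.right ∈ L' := by
    intro g
    have h2 : ∀ n, cjf N' g θ (e n) = lam (φ g.right n) := fun n => by
      simp [cjf, θ, he]
    rw [mem_inertia, hL', funext_iff, e.surjective.forall]
    refine forall_congr' fun n => ?_
    rw [h2]
    exact Units.val_inj
  let Θ : inertia N' θ →* ℂˣ := MonoidHom.mk' (fun g => lam g.1.left) fun a b => by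
    rw [Subgroup.coe_mul, mul_left, map_mul, (hL' _).1 ((hI _).1 a.2)]
  obtain ⟨β, hβ, h2, h3⟩ := cliff_struct N' hχ hθ (by
    rw [← Ind.inner_comp_equiv e]
    exact h1) (isChar_of_isIrr (isIrr_unitsHom Θ)) (fun _ => rfl)
  let f : L' →* inertia N' θ := (inr.comp L'.subtype).codRestrict _ fun l => (hI _).2 l.2
  refine ⟨_, _, inferInstance, QuotientGroup.mk' _, (QuotientGroup.mk' _).comp f, Θ, β, ?_, hβ,
    fun _ => rfl, h2, fun hr hl => h3 hr fun _ => hl _⟩
  intro q
  obtain ⟨g, rfl⟩ := QuotientGroup.mk_surjective q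
  refine ⟨⟨g.1.right, (hI _).1 g.2⟩, QuotientGroup.eq.2 ?_⟩
  rw [Subgroup.mem_subgroupOf, MonoidHom.mem_ker]
  simp [f]

theorem exists_semi {G : Type*} [Group G] (ι : N →* G) (s : L →* G) (act : L → N → N)
    (hι : Function.Injective ι) (hact : ∀ l n, s l * ι n * (s l)⁻¹ = ι (act l n))
    (hG : ∀ g, ∃ n l, g = ι n * s l) :
    ∃ (φ : L →* MulAut N) (F : N ⋊[φ] L →* G), (∀ l n, φ l n = act l n) ∧
      Function.Surjective F ∧ ∀ n, F (inl n) = ι n := by
  have h1 : ∀ a b n, act (a * b) n = act a (act b n) := fun a b n => hι (by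
    rw [← hact, ← hact, ← hact, map_mul]; group)
  have h2 : ∀ n, act 1 n = n := fun n => hι (by rw [← hact]; simp)
  let φ : L →* MulAut N := MonoidHom.mk' (fun l =>
    { toFun := act l
      invFun := act l⁻¹
      left_inv := fun n => by rw [← h1, inv_mul_cancel, h2]
      right_inv := fun n => by rw [← h1, mul_inv_cancel, h2]
      map_mul' := fun a b => hι (by rw [map_mul, ← hact, ← hact, ← hact, map_mul]; group) })
    fun a b => MulEquiv.ext fun n => h1 a b n
  refine ⟨φ, lift ι s fun l => MonoidHom.ext fun n => (hact l n).symm, fun _ _ => rfl,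
    fun g => ?_, fun n => lift_inl _ _ _ n⟩
  obtain ⟨n, l, rfl⟩ := hG g
  exact ⟨inl n * inr l, by simp⟩

theorem im_of_sq {z : ℂˣ} (h : z * z = 1) : (z : ℂ).im = 0 := by
  have h1 : (z : ℂ) * z = 1 := by simpa using congrArg Units.val h
  rcases mul_self_eq_one_iff.1 h1 with h2 | h2 <;> simp [h2]

theorem exists_stab (φ : L →* MulAut N) (lam : N →* ℂˣ) :
    ∃ L' : Subgroup L, ∀ l, l ∈ L' ↔ ∀ n, lam (φ l n) = lam n :=
  ⟨{ carrier := {l | ∀ n, lam (φ l n) = lam n}
     one_mem' := fun n => by simp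
     mul_mem' := fun {a b} ha hb n => by rw [map_mul, MulAut.mul_apply, ha, hb]
     inv_mem' := fun {a} ha n => by rw [← ha, map_inv, MulAut.apply_inv_self] },
    fun _ => Iff.rfl⟩

/-- a real character over a real linear character whose stabilizer is `RR` -/
theorem ro_of_linear {G : Type u} [Group G] [Finite G] [Fintype N] (ι : N →* G) (s : L →* G)
    (act : L → N → N) (hι : Function.Injective ι)
    (hact : ∀ l n, s l * ι n * (s l)⁻¹ = ι (act l n)) (hG : ∀ g, ∃ n l, g = ι n * s l)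
    {χ : G → ℂ} (hχ : IsIrrCharacter G χ) (hr : ∀ g, (χ g).im = 0) (lam : N →* ℂˣ)
    (hl : ∀ n, lam n * lam n = 1)
    (h1 : classInner (fun n : N => χ (ι n)) (fun n => (lam n : ℂ)) ≠ 0)
    (hL : ∀ L' : Subgroup L, (∀ l, l ∈ L' ↔ ∀ n, lam (act l n) = lam n) → RR L') : RO χ := by
  obtain ⟨φ, F, hφ, hF, hFι⟩ := exists_semi ι s act hι hact hG
  haveI := Fintype.ofFinite (N ⋊[φ] L)
  obtain ⟨L', hL'⟩ := exists_stab φ lam
  obtain ⟨I, Q, _, π, f, Θ, β, hf, hβ, hΘ, h2, h3⟩ :=
    semi_struct (isIrr_comp_of_surjective hχ F hF) lam (by simpa only [hFι] using h1) L' hL'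
  refine RO.descend F hF ?_
  rw [h2]
  have h4 := rr_surj f hf (hL L' (by simpa only [hφ] using hL')) β hβ
    (h3 (fun _ => hr _) fun n => im_of_sq (hl n))
  exact RealOver.ind _ I ((h4.comp π).mul (ro_sign Θ fun g => by rw [hΘ, hl]))

end semi

theorem exists_linear_constituent {N : Type*} [Group N] [Fintype N] (hN : ∀ a b : N, a * b = b * a)
    {χ : N → ℂ} (hχ : IsCharacter N χ) (h1 : χ 1 ≠ 0) :
    ∃ lam : N →* ℂˣ, classInner χ (fun n => (lam n : ℂ)) ≠ 0 := by
  obtain ⟨θ, hθ, h2⟩ := exists_constituent (cf_of_isCharacter hχ) h1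
  obtain ⟨lam, rfl⟩ := exists_unitsHom_of_apply_one (isChar_of_isIrr hθ)
    (apply_one_eq_one_of_comm hθ hN)
  exact ⟨lam, h2⟩

theorem cliff_rr : Cliff.{u} RR := by
  intro G N L _ _ _ _ _ _ ι s act hN hι hact hG hL χ hχ hr
  haveI := Fintype.ofFinite N
  obtain ⟨lam, h1⟩ := exists_linear_constituent mul_comm (isChar_comp (isChar_of_isIrr hχ) ι)
    (by simpa using apply_one_ne_zero_of_isIrr hχ)
  exact ro_of_linear ι s act hι hact hG hχ hr lam (fun n => by rw [← map_mul, hN, map_one]) h1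
    (hL lam)

theorem re2_surj {G H : Type*} [Group G] [Group H] [Finite G] (f : G →* H)
    (hf : Function.Surjective f) (h : Re2 G) : Re2 H := by
  rintro x ⟨k, hk⟩
  obtain ⟨g, rfl⟩ := hf x
  obtain ⟨j, m, hm, ho⟩ := Nat.exists_eq_two_pow_mul_odd (orderOf_pos g).ne'
  obtain ⟨c, hc⟩ := exists_pow_eq_self_of_coprime (x := f g) (n := m)
    (((Nat.coprime_two_right.2 hm).pow_right k).coprime_dvd_right (orderOf_dvd_of_pow_eq_one hk))
  have h1 := f.map_isConj (h ((g ^ m) ^ c) ⟨j, by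
    rw [← pow_mul, ← pow_mul, mul_comm c, ← mul_assoc, mul_comm m, ← ho, pow_mul,
      pow_orderOf_eq_one, one_pow]⟩)
  rwa [map_inv, map_pow, map_pow, hc] at h1

open SemidirectProduct in
theorem cliff_of_elt (p : ∀ {G : Type u} [Group G], G → Prop)
    (hp : ∀ {G H : Type u} [Group G] [Group H] (f : G →* H) (g : G), p g → p (f g))
    (hp' : ∀ {G : Type u} [Group G] (H : Subgroup G) (g : H), p (g : G) → p g)
    (hs : ∀ {G H : Type u} [Group G] [Group H] [Finite G] (f : G →* H), Function.Surjective f →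
      (∀ g : G, p g → IsConj g g⁻¹) → ∀ g : H, p g → IsConj g g⁻¹) :
    Cliff.{u} (fun G _ => ∀ g : G, p g → IsConj g g⁻¹) := by
  intro G N L _ _ _ _ _ _ ι s act hN hι hact hG hL
  obtain ⟨φ, F, hφ, hF, hFι⟩ := exists_semi ι s act hι hact hG
  refine hs F hF fun g hg => isConj_inv_of_im fun χ hχ => ?_
  haveI := Fintype.ofFinite N
  haveI := Fintype.ofFinite (N ⋊[φ] L)
  obtain ⟨lam, h1⟩ := exists_linear_constituent mul_comm (isChar_comp (isChar_of_isIrr hχ) inl)
    (by simpa using apply_one_ne_zero_of_isIrr hχ)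
  obtain ⟨L', hL'⟩ := exists_stab φ lam
  obtain ⟨I, Q, _, π, f, Θ, β, hf, hβ, hΘ, rfl, -⟩ := semi_struct hχ lam h1 L' hL'
  haveI : Finite Q := Finite.of_surjective f hf
  have h2 := hs f hf (hL lam L' (by simpa only [hφ] using hL'))
  rw [← Complex.conj_eq_iff_im, indFun_apply, map_mul, map_sum, map_inv₀, map_natCast]
  congr 1
  refine Finset.sum_congr rfl fun y _ => ?_
  by_cases hy : y⁻¹ * g * y ∈ I
  · have h3 : p (π ⟨_, hy⟩) := hp π _ (hp' I _ (by
      simpa using hp (MulAut.conj y⁻¹).toMonoidHom g hg))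
    rw [ebz_of_mem _ _ hy, map_mul, ← apply_inv_of_isChar (isChar_of_isIrr hβ),
      ← cf_isConj (cf_of_isIrr hβ) (h2 _ h3), hΘ,
      Complex.conj_eq_iff_im.2 (im_of_sq (by rw [← map_mul, hN, map_one]))]
  · rw [ebz_of_not_mem _ _ hy, map_zero]

theorem cliff_re : Cliff.{u} Re := by
  have h := cliff_of_elt.{u} (fun _ => True) (fun _ _ _ => trivial) (fun _ _ _ => trivial)
    fun f hf h g _ => re_surj f hf (fun g => h g trivial) g
  intro G N L _ _ _ _ _ _ ι s act hN hι hact hG hL g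
  exact h G N L ι s act hN hι hact hG (fun lam L' hL' g _ => hL lam L' hL' g) g trivial

theorem cliff_re2 : Cliff.{u} Re2 :=
  cliff_of_elt.{u} (fun g => ∃ k : ℕ, g ^ 2 ^ k = 1)
    (fun f g ⟨k, hk⟩ => ⟨k, by rw [← map_pow, hk, map_one]⟩)
    (fun H g ⟨k, hk⟩ => ⟨k, Subtype.ext hk⟩) fun f hf h => re2_surj f hf h

theorem exists_central_char {G Z : Type*} [Group G] [Group Z] (f : Z →* G)
    (hf : ∀ z g, g * f z = f z * g) {χ : G → ℂ} (hχ : IsIrrCharacter G χ) :
    ∃ lam : Z →* ℂˣ, ∀ z, χ (f z) = lam z * χ 1 := by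
  have h0 := apply_one_ne_zero_of_isIrr hχ
  obtain ⟨n, ρ, hρ, rfl⟩ := hχ
  have h1 : ∀ z, ∃ c : ℂ, ρ (f z) = c • (1 : Module.End ℂ (Fin n → ℂ)) := fun z =>
    exists_eq_smul_of_comm ρ _ fun g => by rw [← map_mul, ← map_mul, hf]
  choose c hc using h1
  have h2 : ∀ z, ρ.character (f z) = c z * ρ.character 1 := fun z => by
    rw [Representation.character, hc, map_smul, Representation.character, map_one ρ, smul_eq_mul]
  let lam : Z →* ℂ :=
    { toFun := c
      map_one' := mul_right_cancel₀ h0 (by rw [← h2, map_one, one_mul])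
      map_mul' := fun a b => mul_right_cancel₀ h0 (by
        rw [← h2, Representation.character, map_mul, map_mul, hc, hc, smul_mul_smul_comm, one_mul,
          map_smul, Representation.character, map_one ρ, smul_eq_mul]) }
  exact ⟨lam.toHomUnits, h2⟩

theorem character_ofMulAction_real {G X : Type*} [Group G] [MulAction G X] [Finite X] (g : G) :
    (Representation.ofMulAction ℝ G X).character g = Nat.card (MulAction.fixedBy X g) := by
  classical
  have := Fintype.ofFinite X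
  rw [Representation.character, LinearMap.trace_eq_matrix_trace ℝ (MonoidAlgebra.basis X ℝ),
    Matrix.trace]
  simp only [Matrix.diag_apply, LinearMap.toMatrix_apply]
  have h1 : ∀ x : X, (MonoidAlgebra.basis X ℝ).repr
      (Representation.ofMulAction ℝ G X g (MonoidAlgebra.basis X ℝ x)) x =
      if g • x = x then 1 else 0 := by
    intro x
    rw [MonoidAlgebra.basis_apply, Representation.ofMulAction_single, ← MonoidAlgebra.basis_apply,
      Basis.repr_self, Finsupp.single_apply]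
  simp only [h1, Finset.sum_boole]
  rw [Nat.card_eq_fintype_card, Fintype.card_subtype]
  simp [MulAction.mem_fixedBy]

/-- the `lam`-part of a permutation character -/
theorem ro_central_part {M Z : Type u} [Group M] [Group Z] [Fintype Z] (f : Z →* M)
    (hf : ∀ z g, g * f z = f z * g) (lam : Z →* ℂˣ) (hl : ∀ z, lam z * lam z = 1) (X : Type u)
    [Finite X] [MulAction M X] :
    RO (fun m : M => (Nat.card Z : ℂ)⁻¹ *
      ∑ z : Z, (lam z : ℂ) * Nat.card (MulAction.fixedBy X (f z * m))) := by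
  haveI := Module.Finite.of_basis (MonoidAlgebra.basis X ℝ)
  let ρ := Representation.ofMulAction ℝ M X
  let c : Z → ℝ := fun z => (lam z : ℂ).re
  have hc : ∀ z, (c z : ℂ) = lam z := fun z => Complex.ext rfl (by simp [im_of_sq (hl z)])
  have hcm : ∀ a b, c (a * b) = c a * c b := fun a b => Complex.ofReal_injective (by
    push_cast; simp [hc])
  have hZ : (Nat.card Z : ℝ) ≠ 0 := Nat.cast_ne_zero.2 Nat.card_pos.ne'
  have h1 := ro_trace_idem ρ ((Nat.card Z : ℝ)⁻¹ • ∑ z : Z, c z • ρ (f z)) (by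
    rw [smul_mul_smul_comm, Finset.sum_mul_sum]
    have h2 : ∀ a : Z, ∑ b : Z, c a • ρ (f a) * c b • ρ (f b) = ∑ z : Z, c z • ρ (f z) := fun a =>
      Fintype.sum_equiv (Equiv.mulLeft a) _ _ fun b => by
        rw [smul_mul_smul_comm, Equiv.coe_mulLeft, hcm, map_mul, map_mul]
    simp only [h2, Finset.sum_const, Finset.card_univ]
    rw [← Nat.cast_smul_eq_nsmul ℝ, smul_smul, ← Nat.card_eq_fintype_card,
      inv_mul_cancel_right₀ hZ]) fun g => by
    simp only [smul_mul_assoc, mul_smul_comm, Finset.sum_mul, Finset.mul_sum, ← map_mul, hf]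
  convert h1 using 2 with m
  simp only [smul_mul_assoc, Finset.sum_mul, map_smul, map_sum, smul_eq_mul, ← map_mul]
  push_cast
  congr 1
  refine Finset.sum_congr rfl fun z _ => ?_
  rw [hc, ← Representation.character, character_ofMulAction_real]
  simp

theorem heis : HeisStmt.{u} := by
  intro G N L _ _ _ _ _ _ ι s act Z hι hact hG hZ hsq hZ2 hL h1 h2 χ hχ hr
  classical
  haveI := Fintype.ofFinite N
  haveI := Fintype.ofFinite G
  obtain ⟨lam, hlam⟩ := exists_central_char (ι.comp Z.subtype) (fun z g => hZ z z.2 g) hχ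
  have hχ0 := apply_one_ne_zero_of_isIrr hχ
  have hZc : ∀ z ∈ Z, ∀ n, n * z = z * n := fun z hz n => hι (by rw [map_mul, map_mul, hZ z hz])
  haveI : Z.Normal := ⟨fun z hz n => by rwa [hZc z hz, mul_inv_cancel_right]⟩
  by_cases hl1 : lam = 1
  · obtain ⟨χ', hχ', h3⟩ := exists_char_quotient (isChar_comp (isChar_of_isIrr hχ) ι) Z
      fun z hz => by simpa [hl1] using hlam ⟨z, hz⟩
    haveI := Fintype.ofFinite (N ⧸ Z)
    have h4 : ∀ q : N ⧸ Z, q * q = 1 := fun q => by
      obtain ⟨n, rfl⟩ := QuotientGroup.mk_surjective q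
      exact (QuotientGroup.eq_one_iff _).2 (hsq n)
    obtain ⟨mu, h5⟩ := exists_linear_constituent (fun a b => by
      have h5 : ∀ q : N ⧸ Z, q⁻¹ = q := fun q => inv_eq_of_mul_eq_one_right (h4 q)
      rw [← h5 (a * b), mul_inv_rev, h5, h5]) hχ' (by
      have := congrFun h3 1
      simp only [map_one, QuotientGroup.mk_one] at this
      rwa [← this])
    refine ro_of_linear ι s act hι hact hG hχ hr (mu.comp (QuotientGroup.mk' Z))
      (fun n => by rw [MonoidHom.comp_apply, ← map_mul, h4, map_one]) ?_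
      fun L' => h1 _ L' fun z hz => by simp [(QuotientGroup.eq_one_iff z).2 hz]
    rw [h3]
    exact (inner_comp_surj _ (QuotientGroup.mk'_surjective Z) χ' fun q => (mu q : ℂ)).trans_ne h5
  obtain ⟨M, hM, X, _, _, hodd, hX, hfree, hvan⟩ := h2 lam hl1
  haveI := Fintype.ofFinite Z
  have hl : ∀ z, lam z * lam z = 1 := fun z => by
    rw [← map_mul, show z * z = 1 from Subtype.ext (hZ2 z z.2), map_one]
  let f : Z →* M := (ι.comp Z.subtype).codRestrict M fun z => hM z
  have hΘ0 := ro_central_part f (fun z g => Subtype.ext (hZ z z.2 g)) lam hl X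
  set Θ0 : M → ℂ := fun m => (Nat.card Z : ℂ)⁻¹ *
    ∑ z : Z, (lam z : ℂ) * Nat.card (MulAction.fixedBy X (f z * m)) with hΘ0def
  have h3 : ∀ n, n ∉ Z → Θ0 ⟨ι n, hM n⟩ = 0 := fun n hn => by
    have h4 := hvan n hn
    rw [finsum_eq_sum_of_fintype] at h4
    simp only [map_mul] at h4
    exact mul_eq_zero_of_right _ h4
  have h4 : ∀ z : Z, Θ0 ⟨ι z, hM z⟩ = (Nat.card Z : ℂ)⁻¹ * Nat.card X * lam z := fun z => by
    have h5 : z * z = 1 := Subtype.ext (hZ2 z z.2)
    show _ * ∑ z' : Z, (lam z' : ℂ) * Nat.card (MulAction.fixedBy X (f z' * f z)) = _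
    rw [Finset.sum_eq_single z, ← map_mul, h5, map_one, MulAction.fixedBy_one_eq_univ,
      Nat.card_univ]
    · ring
    · intro z' _ hz'
      have h6 : z' * z ≠ 1 := fun e => hz' (mul_right_cancel (e.trans h5.symm))
      haveI : IsEmpty (MulAction.fixedBy X (f z' * f z)) := ⟨fun ⟨x, hx⟩ =>
        hfree _ (z' * z).2 (fun e => h6 (Subtype.ext e)) x (by
          rw [← map_mul] at hx
          exact hx)⟩
      simp
    · simp
  have hsum : ∀ φ : N → ℂ, classInner φ (fun n => Θ0 ⟨ι n, hM n⟩) =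
      (Nat.card N : ℂ)⁻¹ * ((Nat.card Z : ℂ)⁻¹ * Nat.card X * ∑ z : Z, φ z * lam z) := by
    intro φ
    rw [classInner, ← Finset.sum_subset (Finset.subset_univ (Finset.univ.filter (· ∈ Z)))
      (fun n _ hn => by rw [h3 n (by simpa using hn)]; simp),
      Finset.sum_subtype (p := (· ∈ Z)) _ (by simp)]
    congr 1
    rw [Finset.mul_sum]
    refine Finset.sum_congr rfl fun z _ => ?_
    rw [h4, map_mul, Complex.conj_eq_iff_im.2 (im_of_sq (hl z))]
    simp
    ring
  have hll : ∀ z, (lam z : ℂ) * lam z = 1 := fun z => by simpa using congrArg Units.val (hl z)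
  have hZ0 := card_ne_zero' Z
  have hN0 := card_ne_zero' N
  have hX' : (Nat.card X : ℂ) ^ 2 = Nat.card N * Nat.card Z := by exact_mod_cast hX
  have hX0 : (Nat.card X : ℂ) ≠ 0 := fun e => mul_ne_zero hN0 hZ0 (by rw [← hX', e]; ring)
  let N' := ι.range
  haveI hN' : N'.Normal := ⟨by
    rintro _ ⟨n, rfl⟩ g
    obtain ⟨m, l, rfl⟩ := hG g
    refine ⟨m * act l n * m⁻¹, ?_⟩
    rw [map_mul, map_mul, ← hact, map_inv]
    group⟩
  haveI := Fintype.ofFinite N'
  let e : N ≃* N' := MonoidHom.ofInjective hι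
  have hNM : N' ≤ M := by rintro _ ⟨n, rfl⟩; exact hM n
  have hθ : IsIrrCharacter N' (fun n : N' => Θ0 ⟨n, hNM n.2⟩) := by
    refine isIrr_of_isChar_of_inner_self (isChar_comp hΘ0.isChar (Subgroup.inclusion hNM)) ?_
    rw [← Ind.inner_comp_equiv e]
    refine (hsum _).trans ?_
    have h5 : ∀ z : Z, Θ0 ⟨e z, hNM (e z).2⟩ * lam z = (Nat.card Z : ℂ)⁻¹ * Nat.card X :=
      fun z => by
        rw [show Θ0 ⟨e z, hNM (e z).2⟩ = _ from h4 z, mul_assoc, hll, mul_one]
    simp only [h5, Finset.sum_const, Finset.card_univ, nsmul_eq_mul, ← Nat.card_eq_fintype_card]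
    field_simp
    rw [hX']
  have hinv : ∀ g : G, cjf N' g (fun n : N' => Θ0 ⟨n, hNM n.2⟩) =
      fun n : N' => Θ0 ⟨n, hNM n.2⟩ := by
    intro g
    ext ⟨_, n, rfl⟩
    by_cases hn : n ∈ Z
    · simp only [cjf, hZ n hn g, mul_inv_cancel_right]
    · obtain ⟨n', hn'⟩ := hN'.conj_mem _ ⟨n, rfl⟩ g
      have h5 : n' ∉ Z := fun h => hn (by
        have h6 : ι n = ι n' := by
          rw [← mul_inv_cancel_right (ι n') g⁻¹, ← hZ n' h, hn']
          group
        rwa [hι h6])
      simp only [cjf, ← hn', h3 n hn, h3 n' h5]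
  obtain ⟨Θ, hΘ, hΘN⟩ := ext G N' M hNM Θ0 hodd hΘ0 hθ hinv
  have hθ' : (fun n : N' => Θ n) = fun n : N' => Θ0 ⟨n, hNM n.2⟩ := funext hΘN
  obtain ⟨β, hβ, h5, h6⟩ := gallagher N' hχ hΘ.isChar (hθ' ▸ hθ) (by
    rw [hθ', ← Ind.inner_comp_equiv e]
    refine (hsum _).trans_ne ?_
    have h5 : ∀ z : Z, χ (e z) * lam z = χ 1 := fun z => by
      rw [show χ (e z) = _ from hlam z, mul_right_comm, hll, one_mul]
    simp only [h5, Finset.sum_const, Finset.card_univ, nsmul_eq_mul, ← Nat.card_eq_fintype_card]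
    simp [hN0, hZ0, hX0, hχ0])
  have h7 := rr_surj ((QuotientGroup.mk' N').comp s) (fun q => by
    obtain ⟨g, rfl⟩ := QuotientGroup.mk_surjective q
    obtain ⟨n, l, rfl⟩ := hG g
    exact ⟨l, by simp [(QuotientGroup.eq_one_iff (N := N') (ι n)).2 ⟨n, rfl⟩]⟩) hL β hβ
    (h6 hr hΘ.im)
  rw [h5]
  exact (h7.comp (QuotientGroup.mk' N')).mul hΘ

end Cfsg.Agent.FS
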