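import Cfsg.Agent.Lib.FS.Geo

/-!
# Elements without eigenvalue one on an indecomposable quadratic space (`CycStmt`)
-/

set_option autoImplicit false
set_option linter.unusedSectionVars false

namespace Cfsg.Agent.FS

open Module Polynomial

universe u

theorem commute_aeval {F A : Type*} [CommSemiring F] [Semiring A] [Algebra F A] {c d : A}
    (h : Commute d c) (p : F[X]) : Commute d (aeval c p) := by
  induction p using Polynomial.induction_on' with
  | add p r hp hr => rw [map_add]; exact hp.add_right hr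
  | monomial n a =>
    rw [aeval_monomial]
    exact (Algebra.commute_algebraMap_right a d).mul_right (h.pow_right n)

/-- the socle of `F[b]` when every polynomial in `b` is nilpotent or injective -/
theorem exists_socle {F V : Type*} [Field F] [AddCommGroup V] [Module F V] [Nontrivial V]
    [Module.Finite F V] (b : Module.End F V)
    (h : ∀ p : F[X], Function.Injective (aeval b p) ∨ ∃ n, aeval b p ^ n = 0) :
    ∃ ν : F[X], aeval b ν ≠ 0 ∧ ∀ p : F[X], aeval b p ≠ 0 → ∃ r, aeval b (r * p) = aeval b ν := by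
  classical
  have hi : IsIntegral F b := Algebra.IsIntegral.isIntegral b
  obtain ⟨π, hπ, ν, hν⟩ := WfDvdMonoid.exists_irreducible_factor (minpoly.not_isUnit F b)
    (minpoly.ne_zero hi)
  have hν0 : ν ≠ 0 := by
    rintro rfl
    exact minpoly.ne_zero hi (by simpa using hν)
  have hN : aeval b ν ≠ 0 := fun e => by
    have h1 : π * ν ∣ 1 * ν := by rw [← hν, one_mul]; exact minpoly.dvd F b e
    exact hπ.not_isUnit (isUnit_of_dvd_one ((mul_dvd_mul_iff_right hν0).1 h1))
  have h0 : aeval b π * aeval b ν = 0 := by rw [← map_mul, ← hν, minpoly.aeval]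
  obtain ⟨n, hn⟩ : ∃ n, aeval b π ^ n = 0 := (h π).resolve_left fun hinj =>
    hN (LinearMap.ext fun x => hinj (by simpa using LinearMap.congr_fun h0 x))
  have hμ : minpoly F b ∣ π ^ n := minpoly.dvd F b (by rw [map_pow, hn])
  refine ⟨ν, hN, fun p hp => ?_⟩
  obtain ⟨e, he⟩ := EuclideanDomain.gcd_dvd_right p (minpoly F b)
  have hb := EuclideanDomain.gcd_eq_gcd_ab p (minpoly F b)
  have hπe : π ∣ e := by
    by_contra hne
    have hc : IsCoprime e (π ^ n) :=
      ((hπ.coprime_iff_not_dvd).2 hne).symm.pow_right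
    have hu : IsUnit e := hc.isUnit_of_dvd ((Dvd.intro_left _ he.symm).trans hμ)
    have : minpoly F b ∣ p := by
      have h2 : minpoly F b ∣ EuclideanDomain.gcd p (minpoly F b) := by
        conv_lhs => rw [he]
        exact (hu.mul_right_dvd).2 dvd_rfl
      exact h2.trans (EuclideanDomain.gcd_dvd_left _ _)
    obtain ⟨r, rfl⟩ := this
    exact hp (by rw [map_mul, minpoly.aeval, zero_mul])
  obtain ⟨e', rfl⟩ := hπe
  have h3 : ν = EuclideanDomain.gcd p (minpoly F b) * e' :=
    mul_left_cancel₀ hπ.ne_zero (by linear_combination he - hν)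
  refine ⟨e' * EuclideanDomain.gcdA p (minpoly F b), ?_⟩
  have h4 : ν = e' * EuclideanDomain.gcdA p (minpoly F b) * p +
      minpoly F b * (EuclideanDomain.gcdB p (minpoly F b) * e') := by
    conv_lhs => rw [h3, hb]
    ring
  conv_rhs => rw [h4, map_add, map_mul _ (minpoly F b), minpoly.aeval, zero_mul, add_zero]

namespace QS

variable {F V : Type*} [Field F] [CharP F 2] [AddCommGroup V] [Module F V] {q : QS F V}

theorem pow_adj {c : Module.End F V} (hc : ∀ x y, q.B (c x) y = q.B x (c y)) (k : ℕ) :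
    ∀ x y, q.B ((c ^ k) x) y = q.B x ((c ^ k) y) := by
  induction k with
  | zero => simp
  | succ k ih =>
    intro x y
    conv_lhs => rw [pow_succ]
    rw [pow_succ', Module.End.mul_apply, Module.End.mul_apply, ih, hc]

theorem aeval_adj {c : Module.End F V} (hc : ∀ x y, q.B (c x) y = q.B x (c y)) (p : F[X])
    (x y : V) : q.B (aeval c p x) y = q.B x (aeval c p y) := by
  induction p using Polynomial.induction_on' with
  | add p r hp hr => simp [hp, hr]
  | monomial n a => simp [aeval_monomial, pow_adj hc]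

variable [Finite V]

theorem bb_pow_self (g : q.O) (k : ℕ) : ∀ v, q.B ((bb g ^ k) v) v = 0 := by
  induction k using Nat.twoStepInduction with
  | zero => simp
  | one =>
    intro v
    rw [pow_one, bb_apply, map_add, LinearMap.add_apply, B_left g⁻¹, inv_inv, q.symm v,
      CharTwo.add_self_eq_zero]
  | more k ih _ =>
    intro v
    rw [pow_succ', pow_succ, Module.End.mul_apply, Module.End.mul_apply, bb_adj, ih]

theorem bb_aeval_self (g : q.O) (p : F[X]) (v : V) : q.B (aeval (bb g) p v) v = 0 := by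
  induction p using Polynomial.induction_on' with
  | add p r hp hr => simp [hp, hr]
  | monomial n a => simp [aeval_monomial, bb_pow_self]

theorem bb_aeval_adj (g : q.O) (p : F[X]) (x y : V) :
    q.B (aeval (bb g) p x) y = q.B x (aeval (bb g) p y) := aeval_adj (bb_adj g) p x y

theorem aeval_bb_comm {a b : q.O} (h : b * a * b⁻¹ = a ∨ b * a * b⁻¹ = a⁻¹) (p : F[X]) (x : V) :
    b (aeval (bb a) p x) = aeval (bb a) p (b x) :=
  LinearMap.congr_fun (commute_aeval (bb_comm h) p).eq x

theorem aeval_bb_self (g : q.O) (p : F[X]) (x : V) :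
    g (aeval (bb g) p x) = aeval (bb g) p (g x) := aeval_bb_comm (Or.inl (by simp)) p x

theorem aeval_bb_inv (g : q.O) (p : F[X]) (x : V) :
    g⁻¹ (aeval (bb g) p x) = aeval (bb g) p (g⁻¹ x) := aeval_bb_comm (Or.inl (by simp)) p x

theorem aeval_mul_apply (c : Module.End F V) (p r : F[X]) (x : V) :
    aeval c (p * r) x = aeval c p (aeval c r x) := by rw [map_mul]; rfl

theorem sq_apply (g : q.O) (x : V) : g (g x) = bb g (g x) + x := by
  rw [bb_apply, inv_apply, add_assoc, vadd_self F, add_zero]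

theorem inv_sq_apply (g : q.O) (x : V) : g⁻¹ (g⁻¹ x) = bb g (g⁻¹ x) + x := by
  rw [bb_apply, apply_inv, add_comm x, add_assoc, vadd_self F, add_zero]

end QS

open QS in
theorem cyc : CycStmt.{u} := by
  intro F V _ _ _ _ _ _ q g hind hg
  have hnt : Nontrivial V := by
    rcases subsingleton_or_nontrivial V with h0 | h0
    · exact absurd (O_ext fun x => Subsingleton.elim _ _) (hg 0)
    · exact h0
  have h1 : ∀ p : F[X], Function.Injective (aeval (bb g) p) ∨ ∃ n, aeval (bb g) p ^ n = 0 := by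
    intro p
    obtain ⟨n, hn, hnd⟩ := fitting (aeval (bb g) p) (bb_aeval_adj g p)
    rcases hind _ (fun x hx => by
      rw [LinearMap.mem_ker, ← map_pow] at hx ⊢
      rw [← aeval_bb_self, hx, map_zero]) hnd with h | h
    · exact Or.inl (Module.End.injective_of_iterate_injective hn (LinearMap.ker_eq_bot.1 h))
    · exact Or.inr ⟨n, LinearMap.ker_eq_top.1 h⟩
  have hb : Function.Injective (bb g) := by
    rcases h1 X with h | ⟨n, h⟩
    · simpa using h
    · rw [aeval_X] at h
      obtain ⟨k, hk⟩ := two_of_bb h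
      exact absurd hk (hg k)
  obtain ⟨ν, hν, hsoc⟩ := exists_socle (bb g) h1
  obtain ⟨v, hv⟩ : ∃ v, q.B (aeval (bb g) ν (g v)) v ≠ 0 := by
    by_contra h
    push Not at h
    refine hν (LinearMap.ext fun x => hb (q.ext_B fun y => ?_))
    have h2 := h (x + y)
    simp only [map_add, LinearMap.add_apply, h, zero_add, add_zero] at h2
    rw [bb_aeval_adj g ν (g y), B_left g y, q.symm y, ← aeval_bb_self] at h2
    rw [bb_apply, map_add, LinearMap.add_apply, add_comm, h2]
    simp
  -- the two presentations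
  let L : V → F[X] →ₗ[F] V := fun w => (LinearMap.applyₗ w).comp (aeval (bb g)).toLinearMap
  have hL : ∀ w p, L w p = aeval (bb g) p w := fun _ _ => rfl
  let Φ : F[X] × F[X] →ₗ[F] V := (L v).coprod (L (g v))
  let Φ' : F[X] × F[X] →ₗ[F] V := (L v).coprod (L (g⁻¹ v))
  have hΦ : ∀ p r, Φ (p, r) = aeval (bb g) p v + aeval (bb g) r (g v) := fun _ _ => rfl
  have hΦ' : ∀ p r, Φ' (p, r) = aeval (bb g) p v + aeval (bb g) r (g⁻¹ v) := fun _ _ => rfl
  have hgΦ : ∀ p r, g (Φ (p, r)) = Φ (r, p + r * X) := by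
    intro p r
    rw [hΦ, hΦ, map_add, aeval_bb_self, aeval_bb_self, sq_apply, map_add, map_add,
      LinearMap.add_apply, aeval_mul_apply, aeval_X]
    abel
  have hrad : ∀ p r, (∀ y ∈ LinearMap.range Φ, q.B (Φ (p, r)) y = 0) →
      aeval (bb g) p = 0 ∧ aeval (bb g) r = 0 := by
    intro p r h
    constructor
    · by_contra hp
      obtain ⟨s, hs⟩ := hsoc p hp
      have h2 := h _ ⟨(0, s), rfl⟩
      rw [hΦ, hΦ, map_zero, LinearMap.zero_apply, zero_add, map_add, LinearMap.add_apply,
        ← bb_aeval_adj, ← bb_aeval_adj, ← aeval_mul_apply, ← aeval_mul_apply, bb_aeval_self,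
        add_zero, hs, bb_aeval_adj, q.symm] at h2
      exact hv h2
    · by_contra hr
      obtain ⟨s, hs⟩ := hsoc r hr
      have h2 := h _ ⟨(s, 0), rfl⟩
      rw [hΦ, hΦ, map_zero, LinearMap.zero_apply, add_zero, map_add, LinearMap.add_apply,
        ← bb_aeval_adj, ← bb_aeval_adj, ← aeval_mul_apply, ← aeval_mul_apply, bb_aeval_self,
        zero_add, hs] at h2
      exact hv h2
  have hker : ∀ p r, Φ (p, r) = 0 → aeval (bb g) p = 0 ∧ aeval (bb g) r = 0 := fun p r h =>
    hrad p r fun y _ => by rw [h]; simp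
  have hsurj : LinearMap.range Φ = ⊤ := by
    refine (hind _ ?_ ?_).resolve_left fun h => ?_
    · rintro _ ⟨⟨p, r⟩, rfl⟩
      exact ⟨_, (hgΦ p r).symm⟩
    · rintro _ ⟨⟨p, r⟩, rfl⟩ h
      obtain ⟨h2, h3⟩ := hrad p r h
      rw [hΦ, h2, h3]
      simp
    · have h2 : Φ (1, 0) = 0 := by
        rw [← Submodule.mem_bot F, ← h]
        exact ⟨_, rfl⟩
      have h3 := (hker _ _ h2).1
      rw [map_one] at h3
      exact one_ne_zero h3
  obtain ⟨τ, hτ⟩ := Φ.exists_rightInverse_of_surjective hsurj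
  have hsΦ : ∀ z, (Φ' ∘ₗ τ) (Φ z) = Φ' z := by
    intro z
    have h2 : Φ (τ (Φ z) - z) = 0 := by
      rw [map_sub, ← LinearMap.comp_apply Φ τ, hτ]
      simp
    obtain ⟨h3, h4⟩ := hker (τ (Φ z) - z).1 (τ (Φ z) - z).2 h2
    have h5 : Φ' (τ (Φ z) - z) = 0 := by
      rw [← Prod.mk.eta (p := τ (Φ z) - z), hΦ', h3, h4]
      simp
    rwa [map_sub, sub_eq_zero] at h5
  have hall : ∀ x, ∃ p r, x = Φ (p, r) := fun x => by
    obtain ⟨⟨p, r⟩, rfl⟩ := LinearMap.range_eq_top.1 hsurj x
    exact ⟨p, r, rfl⟩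
  have hQ : ∀ x, q.Q ((Φ' ∘ₗ τ) x) = q.Q x := by
    intro x
    obtain ⟨p, r, rfl⟩ := hall x
    have h2 := bb_aeval_self g (p * (r * X)) v
    rw [aeval_mul_apply, bb_aeval_adj, q.symm, aeval_mul_apply, aeval_X, bb_apply, map_add,
      map_add] at h2
    rw [hsΦ, hΦ, hΦ', q.add, q.add, ← aeval_bb_self, ← aeval_bb_inv, isoQ, isoQ, aeval_bb_self,
      aeval_bb_inv, veq_of_add F h2]
  refine ⟨mkO _ hQ, ?_, ?_⟩
  · rw [mul_inv_eq_iff_eq_mul]
    refine O_ext fun x => ?_
    obtain ⟨p, r, rfl⟩ := hall x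
    rw [mul_apply, mul_apply, mkO_apply, mkO_apply, hgΦ, hsΦ, hsΦ, hΦ', hΦ', map_add, map_add,
      aeval_bb_inv, aeval_bb_inv, inv_sq_apply, map_add, LinearMap.add_apply, aeval_mul_apply,
      aeval_X]
    abel
  · have hU : LinearMap.range (q.act (mkO _ hQ) - 1) = (LinearMap.range (L v)).map (bb g) := by
      have h2 : ∀ p r, (q.act (mkO _ hQ) - 1) (Φ (p, r)) = bb g (L v r) := by
        intro p r
        rw [LinearMap.sub_apply, act_apply, mkO_apply, hsΦ, Module.End.one_apply, hΦ, hΦ', hL,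
          bb_apply, aeval_bb_self, aeval_bb_inv, add_sub_add_left_eq_sub, vsub F, add_comm]
      ext x
      constructor
      · rintro ⟨y, rfl⟩
        obtain ⟨p, r, rfl⟩ := hall y
        exact ⟨_, ⟨r, rfl⟩, (h2 p r).symm⟩
      · rintro ⟨_, ⟨r, rfl⟩, rfl⟩
        exact ⟨_, h2 0 r⟩
    have hc : IsCompl (LinearMap.range (L v)) ((LinearMap.range (L v)).map (q.act g)) := by
      constructor
      · rw [Submodule.disjoint_def]
        rintro _ ⟨p, rfl⟩ ⟨_, ⟨r, rfl⟩, h⟩
        have h2 : Φ (p, r) = 0 := by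
          rw [hΦ, ← aeval_bb_self, ← hL v p, ← h]
          exact vadd_self F _
        rw [hL, (hker _ _ h2).1]
        rfl
      · rw [codisjoint_iff, eq_top_iff]
        intro x _
        obtain ⟨p, r, rfl⟩ := hall x
        rw [hΦ, ← aeval_bb_self]
        exact Submodule.add_mem_sup ⟨p, rfl⟩ ⟨_, ⟨r, rfl⟩, rfl⟩
    have h3 := Submodule.finrank_add_eq_of_isCompl hc
    rw [← (Submodule.equivMapOfInjective (q.act g) (g : V ≃ₗ[F] V).injective _).finrank_eq] at h3
    rw [dk, hU, ← (Submodule.equivMapOfInjective _ hb _).finrank_eq]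
    omega

end Cfsg.Agent.FS
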