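import Cfsg.Agent.Lib.Ind.Splitting
import Cfsg.Agent.Lib.Ind.CycExt
import Cfsg.Prelude.Def_Classical

/-!
# Frobenius-Schur indicators of orthogonal and symplectic groups in characteristic 2: definitions

See `docs/FS_PLAN.md`.
-/

set_option autoImplicit false

namespace Cfsg.Agent.FS

open Cfsg Cfsg.Agent.Char Cfsg.Agent.Ind Module

universe u

/-! ## Characters -/

/-- `χ` is afforded by a real representation. -/
abbrev RO {G : Type u} [Group G] (χ : G → ℂ) : Prop := RealOver Complex.ofRealHom χ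

/-- every real valued irreducible character is afforded by a real representation -/
def RR (G : Type u) [Group G] : Prop :=
  ∀ χ : G → ℂ, IsIrrCharacter G χ → (∀ g, (χ g).im = 0) → RO χ

/-- every element is real -/
def Re (G : Type u) [Group G] : Prop := ∀ g : G, IsConj g g⁻¹

/-- every `2`-element is real -/
def Re2 (G : Type u) [Group G] : Prop := ∀ g : G, (∃ k : ℕ, g ^ 2 ^ k = 1) → IsConj g g⁻¹

/-- Clifford theory over an elementary abelian normal `2`-subgroup `ι N` with supplement `s L`. -/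
def Cliff (P : ∀ (G : Type u) [Group G], Prop) : Prop :=
  ∀ (G N L : Type u) [Group G] [Finite G] [CommGroup N] [Finite N] [Group L] [Finite L]
    (ι : N →* G) (s : L →* G) (act : L → N → N), (∀ n : N, n * n = 1) → Function.Injective ι →
    (∀ l n, s l * ι n * (s l)⁻¹ = ι (act l n)) → (∀ g, ∃ n l, g = ι n * s l) →
    (∀ (lam : N →* ℂˣ) (L' : Subgroup L), (∀ l, l ∈ L' ↔ ∀ n, lam (act l n) = lam n) → P L') →
    P G

/-- The closure properties shared by `RR` and `Re`. -/
structure Good (P : ∀ (G : Type u) [Group G], Prop) : Prop where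
  one : ∀ (G : Type u) [Group G] [Subsingleton G], P G
  surj : ∀ {G H : Type u} [Group G] [Group H] [Finite G] (f : G →* H),
    Function.Surjective f → P G → P H
  prod : ∀ {G H : Type u} [Group G] [Group H] [Finite G] [Finite H], P G → P H → P (G × H)
  cliff : Cliff P
  red : ∀ {G : Type u} [Group G] [Finite G],
    (∀ B : Subgroup G, IsPGroup 2 B → ∃ M : Subgroup G, P M ∧ B ≤ M) →
    (∀ (a : G) (B : Subgroup G), (∀ k : ℕ, a ^ 2 ^ k ≠ 1) →
      (∀ b ∈ B, b * a * b⁻¹ = a ∨ b * a * b⁻¹ = a⁻¹) → ∃ M : Subgroup G, P M ∧ a ∈ M ∧ B ≤ M) →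
    P G

/-- Witt-Berman / Brauer-Witt reduction. -/
def WBStmt : Prop :=
  ∀ (G : Type u) [Group G] [Finite G],
    (∀ B : Subgroup G, IsPGroup 2 B → ∃ M : Subgroup G, RR M ∧ B ≤ M) →
    (∀ (a : G) (B : Subgroup G), Odd (orderOf a) → a ≠ 1 → IsPGroup 2 B →
      (∀ b ∈ B, b * a * b⁻¹ = a ∨ b * a * b⁻¹ = a⁻¹) → (∃ b ∈ B, b * a * b⁻¹ = a⁻¹) →
      ∃ M : Subgroup G, RR M ∧ a ∈ M ∧ B ≤ M) → RR G

/-- A real extension to a subgroup of odd index gives a real extension. -/
def ExtStmt : Prop :=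
  ∀ (G : Type u) [Group G] [Finite G] (N M : Subgroup G) [N.Normal] (h : N ≤ M) (θ : M → ℂ),
    Odd M.index → RO θ → IsIrrCharacter N (fun n : N => θ ⟨n, h n.2⟩) →
    (∀ g : G, cjf N g (fun n : N => θ ⟨n, h n.2⟩) = fun n : N => θ ⟨n, h n.2⟩) →
    ∃ Θ : G → ℂ, RO Θ ∧ ∀ n : N, Θ n = θ ⟨n, h n.2⟩

/-- Clifford theory over a normal `2`-subgroup of Heisenberg type. -/
def HeisStmt : Prop :=
  ∀ (G N L : Type u) [Group G] [Finite G] [Group N] [Finite N] [Group L] [Finite L]
    (ι : N →* G) (s : L →* G) (act : L → N → N) (Z : Subgroup N), Function.Injective ι →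
    (∀ l n, s l * ι n * (s l)⁻¹ = ι (act l n)) → (∀ g, ∃ n l, g = ι n * s l) →
    (∀ z ∈ Z, ∀ g, g * ι z = ι z * g) → (∀ n : N, n * n ∈ Z) → (∀ z ∈ Z, z * z = 1) →
    RR L →
    (∀ (lam : N →* ℂˣ) (L' : Subgroup L), (∀ z ∈ Z, lam z = 1) →
      (∀ l, l ∈ L' ↔ ∀ n, lam (act l n) = lam n) → RR L') →
    (∀ lam : Z →* ℂˣ, lam ≠ 1 → ∃ (M : Subgroup G) (h : ∀ n, ι n ∈ M) (X : Type u)
      (_ : Finite X) (_ : MulAction M X), Odd M.index ∧
      Nat.card X ^ 2 = Nat.card N * Nat.card Z ∧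
      (∀ z ∈ Z, z ≠ 1 → ∀ x : X, (⟨ι z, h z⟩ : M) • x ≠ x) ∧
      ∀ n : N, n ∉ Z → ∑ᶠ z : Z, (lam z : ℂ) *
        Nat.card (MulAction.fixedBy X (⟨ι (z * n), h _⟩ : M)) = 0) →
    RR G

/-- groups of order not divisible by four -/
def FourStmt : Prop := ∀ (G : Type u) [Group G] [Finite G], ¬ 4 ∣ Nat.card G → RR G

/-- subgroups of index at most two in totally orthogonal groups -/
def IdxStmt : Prop :=
  ∀ (G : Type u) [Group G] [Finite G] (H : Subgroup G), H.index ∣ 2 → RR G → Re G → RR H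

/-- the indicator -/
def FsStmt : Prop :=
  ∀ (G : Type u) [Group G] [Finite G], RR G → Re G → ∀ χ : IrrCharacter G,
    ∑ᶠ g : G, (χ : G → ℂ) (g * g) = (Nat.card G : ℂ)

/-! ## Quadratic spaces -/

/-- A quadratic form with nondegenerate polar form. -/
structure QS (F V : Type*) [Field F] [AddCommGroup V] [Module F V] where
  Q : V → F
  B : V →ₗ[F] V →ₗ[F] F
  add : ∀ x y, Q (x + y) = Q x + Q y + B x y
  smul : ∀ (c : F) x, Q (c • x) = c ^ 2 * Q x
  nd : ∀ x, (∀ y, B x y = 0) → x = 0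

namespace QS

variable {F V : Type*} [Field F] [AddCommGroup V] [Module F V] (q : QS F V)

/-- the orthogonal group -/
def O : Subgroup (V ≃ₗ[F] V) where
  carrier := {g | ∀ x, q.Q (g x) = q.Q x}
  one_mem' _ := rfl
  mul_mem' {a b} ha hb x := (ha _).trans (hb x)
  inv_mem' {a} ha x := by
    have := ha (a⁻¹ x)
    rw [← this]
    exact congrArg q.Q (a.apply_symm_apply x).symm ▸ rfl

instance [Finite V] : Finite (V ≃ₗ[F] V) :=
  Finite.of_injective (fun g : V ≃ₗ[F] V => (g : V → V)) DFunLike.coe_injective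

/-- the action of an element of the orthogonal group, as an endomorphism -/
def act (g : q.O) : Module.End F V := (g : V ≃ₗ[F] V)

instance : CoeFun q.O (fun _ => V → V) := ⟨fun g => (g : V ≃ₗ[F] V)⟩

/-- the form is nondegenerate on `W` -/
def NDeg (W : Submodule F V) : Prop := ∀ x ∈ W, (∀ y ∈ W, q.B x y = 0) → x = 0

/-- the orthogonal complement -/
def perp (W : Submodule F V) : Submodule F V where
  carrier := {y | ∀ x ∈ W, q.B x y = 0}
  zero_mem' x _ := by simp
  add_mem' ha hb x hx := by simp [ha x hx, hb x hx]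
  smul_mem' c y hy x hx := by simp [hy x hx]

/-- restriction to a nondegenerate subspace -/
def res (W : Submodule F V) (h : q.NDeg W) : QS F W where
  Q x := q.Q x
  B := q.B.domRestrict₁₂ W W
  add x y := q.add x y
  smul c x := q.smul c x
  nd x hx := Subtype.ext (h x x.2 fun y hy => hx ⟨y, hy⟩)

/-- vector stabilizer -/
def stab (y : V) : Subgroup q.O where
  carrier := {g | g y = y}
  one_mem' := rfl
  mul_mem' {a b} ha hb := (congrArg a hb).trans ha
  inv_mem' {a} ha := (a : V ≃ₗ[F] V).symm_apply_eq.2 (Eq.symm ha)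

/-- the rank of `g - 1`; its parity is the Dickson invariant -/
noncomputable def dk (g : q.O) : ℕ := finrank F (LinearMap.range (q.act g - 1))

end QS

section stmts

/-- an element without eigenvalue 1 on an indecomposable space is inverted by an involution -/
def CycStmt : Prop :=
  ∀ (F V : Type u) [Field F] [Finite F] [CharP F 2] [AddCommGroup V] [Module F V] [Finite V]
    (q : QS F V) (g : q.O),
    (∀ W : Submodule F V, (∀ x ∈ W, g x ∈ W) → q.NDeg W → W = ⊥ ∨ W = ⊤) →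
    (∀ k : ℕ, g ^ 2 ^ k ≠ 1) → ∃ s : q.O, s * g * s⁻¹ = g⁻¹ ∧ 2 * q.dk s = finrank F V

/-- field extension -/
def FEStmt : Prop :=
  ∀ (F V : Type u) [Field F] [Finite F] [CharP F 2] [AddCommGroup V] [Module F V] [Finite V]
    (q : QS F V) (a : q.O) (B : Subgroup q.O), Odd (orderOf a) → a ≠ 1 →
    (∀ b ∈ B, b * a * b⁻¹ = a ∨ b * a * b⁻¹ = a⁻¹) →
    (∀ W : Submodule F V, (∀ x ∈ W, a x ∈ W) → (∀ b ∈ B, ∀ x ∈ W, b x ∈ W) → q.NDeg W →
      W = ⊥ ∨ W = ⊤) →
    (∃ t : F, t ≠ 0 ∧ ∀ x, a (a x) = t • a x + x) ∨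
    ∃ (K : Type u) (_ : Field K) (_ : Finite K) (_ : CharP K 2) (_ : Module K V) (q' : QS K V)
      (f : q'.O →* q.O), finrank K V < finrank F V ∧ a ∈ f.range ∧ B ≤ f.range

/-- the main theorem on orthogonal groups and stabilizers of nonsingular vectors -/
def MainStmt : Prop :=
  ∀ (F V : Type u) [Field F] [Finite F] [CharP F 2] [AddCommGroup V] [Module F V] [Finite V]
    (q : QS F V), RR q.O ∧ Re q.O ∧ ∀ x, q.Q x ≠ 0 → RR (q.stab x) ∧ Re (q.stab x)

/-- the symplectic group is a quotient of the stabilizer of a nonsingular vector -/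
def SpStmt : Prop :=
  ∀ (F : Type u) [Field F] [Finite F] [CharP F 2] (n : ℕ),
    ∃ (q : QS F (((Fin n ⊕ Fin n) → F) × F × F)) (x : ((Fin n ⊕ Fin n) → F) × F × F)
      (f : q.stab x →* Matrix.symplecticGroup (Fin n) F), q.Q x ≠ 0 ∧ Function.Surjective f

/-- the matrix groups of the statements -/
def IsoStmt : Prop :=
  ∀ (F : Type u) [Field F] [Finite F] [CharP F 2],
    (∀ n : ℕ, ∃ q : QS F (Fin n ⊕ Fin n → F),
      Nonempty (q.O ≃* isometryGroup F (quadFormPlus n F))) ∧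
    ∀ (n : ℕ) (a b : F), (∀ z₁ z₂ : F, z₁ ^ 2 + a * z₁ * z₂ + b * z₂ ^ 2 = 0 → z₁ = 0 ∧ z₂ = 0) →
      ∃ q : QS F ((Fin n ⊕ Fin n) ⊕ Fin 2 → F),
        Nonempty (q.O ≃* isometryGroup F (quadFormMinus n F a b))

/-- the Dickson invariant is a homomorphism -/
def DkStmt : Prop :=
  ∀ (F V : Type u) [Field F] [Finite F] [CharP F 2] [AddCommGroup V] [Module F V] [Finite V]
    (q : QS F V) (g h : q.O), q.dk (g * h) ≡ q.dk g + q.dk h [MOD 2]

/-- the commutator subgroup is the kernel of the Dickson invariant -/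
def ComStmt : Prop :=
  ∀ (F V : Type u) [Field F] [Finite F] [CharP F 2] [AddCommGroup V] [Module F V] [Finite V]
    (q : QS F V), 6 ≤ finrank F V → (commutator q.O).index ∣ 2 ∧
      ∀ g : q.O, g ∈ commutator q.O ↔ Even (q.dk g)

/-- unipotent classes do not split in dimension `2 mod 4` -/
def NSStmt : Prop :=
  ∀ (F V : Type u) [Field F] [Finite F] [CharP F 2] [AddCommGroup V] [Module F V] [Finite V]
    (q : QS F V) (g : q.O), finrank F V % 4 = 2 → (∃ k : ℕ, g ^ 2 ^ k = 1) →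
    ∃ c : q.O, c * g = g * c ∧ Odd (q.dk c)

/-- unipotent elements of even Dickson invariant are inverted by such an element -/
def UniStmt : Prop :=
  ∀ (F V : Type u) [Field F] [Finite F] [CharP F 2] [AddCommGroup V] [Module F V] [Finite V]
    (q : QS F V) (g : q.O), Even (q.dk g) → (∃ k : ℕ, g ^ 2 ^ k = 1) →
    ∃ s : q.O, s * g * s⁻¹ = g⁻¹ ∧ Even (q.dk s)

end stmts

end Cfsg.Agent.FS
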