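import Cfsg.Agent.Lib.FS.Hyp

/-!
# Reflections, the Dickson invariant and the commutator subgroup (`DkStmt`, `ComStmt`)
-/

set_option autoImplicit false
set_option linter.unusedSectionVars false

namespace Cfsg.Agent.FS

open Module QS

universe u

namespace DK

variable {F V : Type*} [Field F] [CharP F 2] [AddCommGroup V] [Module F V] [Finite V]
  {q : QS F V}

theorem nondeg (q : QS F V) : LinearMap.BilinForm.Nondegenerate q.B := ⟨q.nd, q.nd'⟩

theorem finrank_perp (W : Submodule F V) : finrank F W + finrank F (q.perp W) = finrank F V := by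
  have h1 : finrank F (q.perp W) = _ := LinearMap.BilinForm.finrank_orthogonal (nondeg q) W
  have h2 := Submodule.finrank_le W
  omega

theorem perp_perp (W : Submodule F V) : q.perp (q.perp W) = W :=
  LinearMap.BilinForm.orthogonal_orthogonal (nondeg q) (fun x y h => by rw [q.symm, h]) W

theorem exists_B_ne {W : Submodule F V} {v : V} (hv : v ∉ W) : ∃ x ∈ q.perp W, q.B x v ≠ 0 := by
  by_contra h
  push Not at h
  exact hv (perp_perp (q := q) W ▸ h)

theorem two_mul_finrank_le {W : Submodule F V} (h : ∀ x ∈ W, ∀ y ∈ W, q.B x y = 0) :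
    2 * finrank F W ≤ finrank F V := by
  have h1 := finrank_perp (q := q) W
  have h2 := Submodule.finrank_mono (show W ≤ q.perp W from fun y hy x hx => h x hx y hy)
  omega

theorem exists_Q_ne {W : Submodule F V} (h : finrank F V < 2 * finrank F W) (u : V) :
    ∃ p ∈ W, q.Q (u + p) ≠ 0 := by
  by_contra hc
  push Not at hc
  refine h.not_ge (two_mul_finrank_le (q := q) fun x hx y hy => ?_)
  have h0 := hc 0 W.zero_mem
  have h1 := hc x hx
  have h2 := hc y hy
  have h3 := hc _ (W.add_mem hx hy)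
  rw [← add_assoc, q.add, map_add, LinearMap.add_apply] at h3
  rw [q.add] at h2
  rw [add_zero] at h0
  linear_combination h3 - h1 - h2 + h0

theorem finrank_perp_pair (x y : V) :
    finrank F V ≤ finrank F (q.perp (Submodule.span F {x, y})) + 2 := by
  classical
  have h1 := finrank_perp (q := q) (Submodule.span F {x, y})
  have h2 : finrank F (Submodule.span F {x, y}) ≤ 2 := by
    have := finrank_span_finset_le_card (R := F) ({x, y} : Finset V)
    rw [Finset.coe_pair] at this
    exact this.trans Finset.card_le_two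
  omega

theorem mem_perp_pair {x y z : V} :
    z ∈ q.perp (Submodule.span F {x, y}) ↔ q.B x z = 0 ∧ q.B y z = 0 := by
  refine ⟨fun h => ⟨h x (Submodule.subset_span (by simp)), h y (Submodule.subset_span (by simp))⟩,
    fun h w hw => ?_⟩
  obtain ⟨a, b, rfl⟩ := Submodule.mem_span_pair.1 hw
  simp [h.1, h.2]

/-- the reflection in a nonsingular vector -/
noncomputable def rf (v : V) (hv : q.Q v ≠ 0) : q.O :=
  mkO (LinearMap.id + ((q.Q v)⁻¹ • q.B v).smulRight v) fun x => by
    simp only [LinearMap.add_apply, LinearMap.id_apply, LinearMap.smulRight_apply,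
      LinearMap.smul_apply, smul_eq_mul, q.add, q.smul, map_smul, q.symm x v]
    field_simp
    linear_combination (q.B v x) ^ 2 * (two_zero (F := F))

theorem rf_apply {v : V} (hv : q.Q v ≠ 0) (x : V) :
    rf v hv x = x + ((q.Q v)⁻¹ * q.B v x) • v := rfl

theorem rf_of_perp {v x : V} (hv : q.Q v ≠ 0) (h : q.B v x = 0) : rf v hv x = x := by
  simp [rf_apply, h]

theorem rf_mul_self {v : V} (hv : q.Q v ≠ 0) : rf v hv * rf v hv = 1 := O_ext fun x => by
  rw [mul_apply, rf_apply, rf_apply, map_add, map_smul, q.self, smul_zero, add_zero, add_assoc,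
    vadd_self F, add_zero, one_apply]

theorem rf_rf {v : V} (hv : q.Q v ≠ 0) (g : q.O) : rf v hv * (rf v hv * g) = g := by
  rw [← mul_assoc, rf_mul_self, one_mul]

theorem rf_conj {v : V} (hv : q.Q v ≠ 0) (g : q.O) (hv' : q.Q (g v) ≠ 0) :
    rf (g v) hv' = g * rf v hv * g⁻¹ := O_ext fun x => by
  simp [rf_apply, B_left g v]

theorem rf_smul {v : V} (hv : q.Q v ≠ 0) (c : F) (hv' : q.Q (c • v) ≠ 0) :
    rf (c • v) hv' = rf v hv := O_ext fun x => by
  have hc : c ≠ 0 := by
    rintro rfl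
    simp at hv'
  rw [rf_apply, rf_apply, q.smul, map_smul, LinearMap.smul_apply, smul_smul, smul_eq_mul]
  congr 2
  field_simp

theorem rf_swap {x y : V} (h : q.Q x = q.Q y) (hv : q.Q (x + y) ≠ 0) : rf (x + y) hv x = y := by
  have h1 : q.Q (x + y) = q.B (x + y) x := by
    rw [q.add, h, CharTwo.add_self_eq_zero, map_add, LinearMap.add_apply, q.self, q.symm]
  rw [rf_apply, ← h1, inv_mul_cancel₀ hv, one_smul, ← add_assoc, vadd_self F, zero_add]

/-- the fixed space -/
def fix (g : q.O) : Submodule F V := LinearMap.ker (q.act g - 1)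

theorem mem_fix {g : q.O} {x : V} : x ∈ fix g ↔ g x = x := sub_eq_zero

theorem dk_add_fix (g : q.O) : q.dk g + finrank F (fix g) = finrank F V :=
  LinearMap.finrank_range_add_finrank_ker _

theorem mem_range {g : q.O} {v : V} : v ∈ LinearMap.range (q.act g - 1) ↔ ∃ y, g y + y = v := by
  simp [vsub F]

theorem B_fix {g : q.O} {x : V} (hx : g x = x) (y : V) : q.B (g y + y) x = 0 := by
  rw [map_add, LinearMap.add_apply]
  nth_rewrite 1 [← hx]
  rw [isoB, CharTwo.add_self_eq_zero]

theorem perp_range (g : q.O) : q.perp (LinearMap.range (q.act g - 1)) = fix g := by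
  refine (Submodule.eq_of_le_of_finrank_eq (fun x hx v hv => ?_) ?_).symm
  · obtain ⟨y, rfl⟩ := mem_range.1 hv
    exact B_fix (mem_fix.1 hx) y
  · have h1 := finrank_perp (q := q) (LinearMap.range (q.act g - 1))
    have h2 := dk_add_fix g
    rw [dk] at h2
    omega

theorem dk_eq_zero {g : q.O} (h : q.dk g = 0) : g = 1 := O_ext fun x => by
  have h1 := Submodule.finrank_eq_zero.1 h
  rw [LinearMap.range_eq_bot] at h1
  exact sub_eq_zero.1 (LinearMap.congr_fun h1 x)

theorem dk_one : q.dk 1 = 0 := by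
  have : q.act 1 - 1 = 0 := sub_self _
  rw [dk, this, LinearMap.range_zero, finrank_bot]

theorem dk_rf_in (g : q.O) (y : V) (hv : q.Q (g y + y) ≠ 0) :
    q.dk (rf _ hv * g) + 1 = q.dk g := by
  have h0 : y ∉ fix g := fun h => hv (by rw [mem_fix.1 h, vadd_self F, q.Q_zero])
  have h1 : fix (rf _ hv * g) = fix g ⊔ Submodule.span F {y} := by
    refine le_antisymm (fun x hx => ?_) (sup_le (fun x hx => ?_) ?_)
    · rw [mem_fix, mul_apply, rf_apply] at hx
      generalize (q.Q (g y + y))⁻¹ * q.B (g y + y) (g x) = c at hx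
      refine Submodule.mem_sup.2 ⟨x + c • y, mem_fix.2 ?_, c • y,
        Submodule.smul_mem _ _ (Submodule.mem_span_singleton_self y), ?_⟩
      · rw [map_add, map_smul]
        nth_rewrite 2 [← hx]
        rw [smul_add, add_assoc, add_assoc, vadd_self F, add_zero]
      · rw [add_assoc, vadd_self F, add_zero]
    · rw [mem_fix] at hx ⊢
      rw [mul_apply, hx, rf_of_perp hv (B_fix hx y)]
    · rw [Submodule.span_singleton_le_iff_mem, mem_fix, mul_apply, rf_swap (isoQ g y)]
  have h2 := dk_add_fix (rf _ hv * g)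
  have h3 := dk_add_fix g
  rw [h1, Submodule.finrank_sup_span_singleton h0] at h2
  omega

theorem dk_rf {v : V} (hv : q.Q v ≠ 0) (g : q.O) :
    q.dk (rf v hv * g) + 1 = q.dk g ∨ q.dk (rf v hv * g) = q.dk g + 1 := by
  by_cases h : v ∈ LinearMap.range (q.act g - 1)
  · obtain ⟨y, rfl⟩ := mem_range.1 h
    exact Or.inl (dk_rf_in g y hv)
  · obtain ⟨x, hx, hx'⟩ := exists_B_ne (q := q) h
    rw [perp_range, mem_fix] at hx
    rw [q.symm] at hx'
    obtain ⟨y, hy⟩ : ∃ y, (rf v hv * g) y + y = v := by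
      refine ⟨(q.Q v * (q.B v x)⁻¹) • x, ?_⟩
      rw [map_smul, ← smul_add, mul_apply, hx, rf_apply, add_right_comm, vadd_self F, zero_add,
        smul_smul]
      field_simp
      exact one_smul _ _
    have h1 := dk_rf_in (rf v hv * g) y (hy.symm ▸ hv)
    simp only [hy, rf_rf] at h1
    exact Or.inr h1.symm

theorem dk_rf_mod {v : V} (hv : q.Q v ≠ 0) (g : q.O) :
    q.dk (rf v hv * g) ≡ q.dk g + 1 [MOD 2] := by
  unfold Nat.ModEq
  rcases dk_rf hv g with h | h <;> omega

theorem dk_rf_one {v : V} (hv : q.Q v ≠ 0) : q.dk (rf v hv) = 1 := by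
  have := dk_rf hv 1
  rw [mul_one, dk_one] at this
  omega

/-- in dimension at least five the orthogonal group is generated by reflections -/
theorem rf_induction (h5 : 5 ≤ finrank F V) {P : q.O → Prop} (h1 : P 1)
    (hr : ∀ v hv g, P g → P (rf v hv * g)) (g : q.O) : P g := by
  induction hn : q.dk g using Nat.strong_induction_on generalizing g with
  | _ n ih =>
  subst hn
  by_cases hc : ∃ y, q.Q (g y + y) ≠ 0
  · obtain ⟨y, hy⟩ := hc
    rw [← rf_rf hy g]
    exact hr _ _ _ (ih _ (by have := dk_rf_in g y hy; omega) _ rfl)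
  push Not at hc
  by_cases hg : g = 1
  · exact hg ▸ h1
  obtain ⟨y, hy⟩ : ∃ y, g y + y ≠ 0 := by
    by_contra h
    push Not at h
    exact hg (O_ext fun x => veq_of_add F (h x))
  have h2 : ∀ x, q.B (g x) x = 0 := fun x => by
    have := hc x
    rwa [q.add, isoQ, CharTwo.add_self_eq_zero, zero_add] at this
  have h3 : ∀ x z, q.B (g x + x) z = q.B x (g z + z) := fun x z => by
    have := h2 (x + z)
    simp only [map_add, LinearMap.add_apply, h2, zero_add, add_zero] at this ⊢
    rw [← veq_of_add F this, q.symm]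
  obtain ⟨z, hz⟩ := q.exists_B_one hy
  obtain ⟨u, hu⟩ : ∃ u, u = g y + y := ⟨_, rfl⟩
  obtain ⟨v, hv⟩ : ∃ v, v = g z + z := ⟨_, rfl⟩
  have hQu : q.Q u = 0 := hu ▸ hc y
  have hQv : q.Q v = 0 := hv ▸ hc z
  have huv : q.B u v = 0 := by
    have := hc (y + z)
    rwa [map_add, add_add_add_comm, ← hu, ← hv, q.add, hQu, hQv, zero_add, zero_add] at this
  obtain ⟨w, hw, hw0⟩ := exists_Q_ne (q := q) (W := q.perp (Submodule.span F {u, v}))
    (by have := finrank_perp_pair (q := q) u v; omega) 0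
  rw [zero_add] at hw0
  obtain ⟨huw, hvw⟩ := mem_perp_pair.1 hw
  have hwu : q.B w u = 0 := by rw [q.symm, huw]
  have hwv : q.B w v = 0 := by rw [q.symm, hvw]
  have hvu : q.B v u = 0 := by rw [q.symm, huv]
  have e2 : q.Q (w + q.Q w • u) = q.Q w := by simp [q.add, q.smul, hQu, hwu]
  have e3 : q.Q (w + v) = q.Q w := by simp [q.add, hQv, hwv]
  have e4 : q.Q (w + v + q.Q w • u) = q.Q w := by simp [q.add, q.smul, hQu, hQv, hwu, hwv, hvu]
  have n2 : q.Q (w + q.Q w • u) ≠ 0 := e2.trans_ne hw0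
  have n3 : q.Q (w + v) ≠ 0 := e3.trans_ne hw0
  have n4 : q.Q (w + v + q.Q w • u) ≠ 0 := e4.trans_ne hw0
  have hρ : ∀ x, rf _ n4 (rf _ n3 (rf _ n2 (rf w hw0 x))) =
      x + q.B v x • u + q.B u x • v := fun x => by
    simp only [rf_apply, e2, e3, e4, map_add, map_smul, LinearMap.add_apply, LinearMap.smul_apply,
      q.self, huv, hvu, huw, hwu, hvw, hwv, smul_zero, add_zero, smul_eq_mul, mul_zero]
    have h2 : (2 : F) = 0 := two_zero
    match_scalars <;> field_simp <;> grind
  rw [← rf_rf hw0 g, ← rf_rf n2 (rf w hw0 * g),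
    ← rf_rf n3 (rf _ n2 * (rf w hw0 * g)),
    ← rf_rf n4 (rf _ n3 * (rf _ n2 * (rf w hw0 * g)))]
  refine hr _ _ _ (hr _ _ _ (hr _ _ _ (hr _ _ _ (ih _ ?_ _ rfl))))
  have h4 : fix g < fix (rf _ n4 * (rf _ n3 * (rf _ n2 *
      (rf w hw0 * g)))) := by
    refine SetLike.lt_iff_le_and_exists.2 ⟨fun x hx => ?_, y, ?_, fun h => ?_⟩
    · rw [mem_fix] at hx ⊢
      simp only [mul_apply, hρ, hx]
      rw [hu, hv, B_fix hx, B_fix hx]
      simp
    · have h5 : g y = y + u := by rw [hu, add_comm (g y), ← add_assoc, vadd_self F, zero_add]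
      have h6 : q.B v y = 1 := by rw [hv, h3, q.symm, hz]
      have h7 : q.B u y = 0 := by rw [hu, map_add, LinearMap.add_apply, h2, q.self, add_zero]
      rw [mem_fix]
      simp only [mul_apply, hρ, h5, map_add, h6, h7, hvu, q.self, add_zero, one_smul, zero_smul]
      rw [add_assoc, vadd_self F, add_zero]
    · exact hy (by rw [mem_fix.1 h, vadd_self F])
  have h5 := Submodule.finrank_lt_finrank_of_lt h4
  have h6 := dk_add_fix g
  have h7 := dk_add_fix (rf _ n4 * (rf _ n3 * (rf _ n2 * (rf w hw0 * g))))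
  omega

theorem dk_mul_of_le (h5 : 5 ≤ finrank F V) (g h : q.O) :
    q.dk (g * h) ≡ q.dk g + q.dk h [MOD 2] := by
  induction g using rf_induction h5 with
  | h1 => rw [one_mul, dk_one, zero_add]
  | hr v hv g ih =>
    have h1 := dk_rf_mod hv (g * h)
    have h2 := dk_rf_mod hv g
    rw [mul_assoc]
    unfold Nat.ModEq at *
    omega

variable [Finite F]

theorem dk_lev (g : q.O) : q.hyp.dk (q.lev (1, g)) = q.dk g := by
  let j : V →ₗ[F] F × V × F := (LinearMap.inr F F (V × F)).comp (LinearMap.inl F V F)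
  have hj : Function.Injective j := LinearMap.inr_injective.comp LinearMap.inl_injective
  have h1 : LinearMap.range (q.hyp.act (q.lev (1, g)) - 1) =
      (LinearMap.range (q.act g - 1)).map j := by
    ext x
    constructor
    · rintro ⟨y, rfl⟩
      exact ⟨_, ⟨y.2.1, rfl⟩, by ext <;> simp [j]⟩
    · rintro ⟨_, ⟨y, rfl⟩, rfl⟩
      exact ⟨j y, by ext <;> simp [j]⟩
  rw [dk, h1, ← (Submodule.equivMapOfInjective j hj _).finrank_eq, dk]

theorem dk_mul (g h : q.O) : q.dk (g * h) ≡ q.dk g + q.dk h [MOD 2] := by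
  have h1 := dk_mul_of_le (q := q.hyp.hyp.hyp) (by simp; omega)
    (QS.lev _ (1, QS.lev _ (1, q.lev (1, g)))) (QS.lev _ (1, QS.lev _ (1, q.lev (1, h))))
  simpa only [← map_mul, Prod.mk_mul_mk, mul_one, dk_lev] using h1

theorem isConj_rf (h5 : 5 ≤ finrank F V) {v w : V} (hv : q.Q v ≠ 0) (hw : q.Q w ≠ 0) :
    IsConj (rf v hv) (rf w hw) := by
  have key : ∀ {v w : V} (hv : q.Q v ≠ 0) (hw : q.Q w ≠ 0), q.B v w ≠ 0 →
      IsConj (rf v hv) (rf w hw) := by
    intro v w hv hw h
    obtain ⟨c, hc⟩ := exists_sq (q.Q w / q.Q v)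
    have h1 : q.Q (c • v) = q.Q w := by rw [q.smul, hc, div_mul_cancel₀ _ hv]
    have hc0 : c ≠ 0 := by
      rintro rfl
      exact hw (by simpa using h1.symm)
    have h2 : q.Q (c • v + w) ≠ 0 := by
      rw [q.add, h1, CharTwo.add_self_eq_zero]
      simpa [hc0] using h
    have h3 := rf_conj (h1 ▸ hw) (rf _ h2) (by rw [isoQ, h1]; exact hw)
    simp only [rf_swap h1 h2] at h3
    rw [← rf_smul hv c (h1 ▸ hw)]
    exact isConj_iff.2 ⟨_, h3.symm⟩
  have hv0 : v ≠ 0 := by
    rintro rfl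
    exact hv q.Q_zero
  have hw0 : w ≠ 0 := by
    rintro rfl
    exact hw q.Q_zero
  obtain ⟨u, hu1, hu2⟩ : ∃ u, q.B v u ≠ 0 ∧ q.B w u ≠ 0 := by
    obtain ⟨a, ha⟩ := q.exists_B_one hv0
    obtain ⟨b, hb⟩ := q.exists_B_one hw0
    by_cases h1 : q.B w a = 0
    · by_cases h2 : q.B v b = 0
      · exact ⟨a + b, by simp [ha, h2], by simp [hb, h1]⟩
      · exact ⟨b, h2, by simp [hb]⟩
    · exact ⟨a, by simp [ha], h1⟩
  obtain ⟨p, hp, hp0⟩ := exists_Q_ne (q := q) (W := q.perp (Submodule.span F {v, w}))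
    (by have := finrank_perp_pair (q := q) v w; omega) u
  obtain ⟨h1, h2⟩ := mem_perp_pair.1 hp
  exact (key hv hp0 (by simpa [h1] using hu1)).trans (key hw hp0 (by simpa [h2] using hu2)).symm

variable (q) in
/-- the Dickson invariant -/
noncomputable def dkHom : q.O →* Multiplicative (ZMod 2) :=
  MonoidHom.mk' (fun g => Multiplicative.ofAdd (q.dk g : ZMod 2)) fun a b => by
    rw [← ofAdd_add, ← Nat.cast_add, (ZMod.natCast_eq_natCast_iff _ _ _).2 (dk_mul a b)]

theorem mem_ker_dkHom {g : q.O} : g ∈ (dkHom q).ker ↔ Even (q.dk g) :=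
  (ZMod.natCast_eq_zero_iff_even (n := q.dk g))

theorem commutator_eq (h5 : 5 ≤ finrank F V) : commutator q.O = (dkHom q).ker := by
  refine le_antisymm (Abelianization.commutator_subset_ker _) fun g hg => ?_
  obtain ⟨v, -, hv⟩ := exists_Q_ne (q := q) (W := ⊤) (by rw [finrank_top]; omega) 0
  rw [zero_add] at hv
  have h1 : Abelianization.of (rf v hv) ^ 2 = 1 := by
    rw [← map_pow, pow_two, rf_mul_self, map_one]
  have h2 : ∀ g : q.O, Abelianization.of g = Abelianization.of (rf v hv) ^ q.dk g := by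
    intro g
    induction g using rf_induction h5 with
    | h1 => rw [map_one, dk_one, pow_zero]
    | hr w hw g ih =>
      rw [map_mul, ih, isConj_iff_eq.1 (Abelianization.of.map_isConj (isConj_rf h5 hw hv)),
        ← pow_succ', pow_eq_pow_mod _ h1, ← dk_rf_mod hw g, ← pow_eq_pow_mod _ h1]
  obtain ⟨k, hk⟩ := mem_ker_dkHom.1 hg
  rw [← Abelianization.ker_of, MonoidHom.mem_ker, h2, hk, ← two_mul, pow_mul, h1, one_pow]

end DK

theorem dick : DkStmt.{u} := fun _ _ _ _ _ _ _ _ _ g h => DK.dk_mul g h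

theorem com : ComStmt.{u} := fun _ _ _ _ _ _ _ _ q h6 => by
  rw [DK.commutator_eq (by omega)]
  refine ⟨?_, fun g => DK.mem_ker_dkHom⟩
  rw [Subgroup.index_ker]
  simpa using (DK.dkHom q).range.card_subgroup_dvd_card

end Cfsg.Agent.FS
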