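import Cfsg.Agent.Lib.FS.Cyc

/-!
# Field extension subgroups of orthogonal groups (`FEStmt`)
-/

set_option autoImplicit false
set_option linter.unusedSectionVars false
set_option linter.style.haveILetI false

namespace Cfsg.Agent.FS

open Module Polynomial

universe u

section ext

variable {F K : Type*} [Field F] [Field K] [Algebra F K] [Module.Finite F K]

theorem tau_ext {τ : K →ₗ[F] F} (hτ : τ ≠ 0) {c c' : K} (h : ∀ k, τ (k * c) = τ (k * c')) :
    c = c' := by
  by_contra hne
  refine hτ (LinearMap.ext fun k => ?_)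
  have h1 := h (k * (c - c')⁻¹)
  rw [← sub_eq_zero, ← map_sub, ← mul_sub, mul_assoc, inv_mul_cancel₀ (sub_ne_zero.2 hne),
    mul_one] at h1
  exact h1

theorem tau_dual {τ : K →ₗ[F] F} (hτ : τ ≠ 0) (f : K →ₗ[F] F) : ∃ c, ∀ k, τ (k * c) = f k := by
  let E : K →ₗ[F] Module.Dual F K := (LinearMap.mul F K).flip.compr₂ τ
  have h1 : Function.Injective E := fun c c' h =>
    tau_ext hτ fun k => LinearMap.congr_fun h k
  obtain ⟨y, hy⟩ := (LinearMap.injective_iff_surjective_of_finrank_eq_finrank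
    (Subspace.dual_finrank_eq (K := F) (V := K)).symm).1 h1 f
  exact ⟨y, fun k => LinearMap.congr_fun hy k⟩

end ext

open QS in
theorem fe_core {F K V : Type*} [Field F] [CharP F 2] [Field K] [Algebra F K] [Module.Finite F K]
    [AddCommGroup V] [Module F V] [Module K V] [IsScalarTower F K V] [Finite V] (q : QS F V)
    (a : q.O) (β : K) (hβ0 : β ≠ 0) (hβ : ∀ x, β • x = bb a x)
    (hgen : ∀ k : K, ∃ p : F[X], ∀ x, k • x = aeval (bb a) p x) :
    ∃ (q' : QS K V) (f : q'.O →* q.O),
      ∀ b : q.O, (b * a * b⁻¹ = a ∨ b * a * b⁻¹ = a⁻¹) → b ∈ f.range := by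
  haveI : CharP K 2 := charP_of_injective_algebraMap (algebraMap F K).injective 2
  haveI : SMulCommClass K F V := ⟨fun k c x => by
    rw [← algebraMap_smul K c, ← algebraMap_smul K c, smul_comm]⟩
  obtain ⟨τ, hτ⟩ : ∃ τ : K →ₗ[F] F, τ ≠ 0 := by
    obtain ⟨τ, hτ⟩ := Module.Projective.exists_dual_ne_zero F (one_ne_zero (α := K))
    exact ⟨τ, fun e => hτ (by rw [e]; rfl)⟩
  have hadj : ∀ (k : K) x y, q.B (k • x) y = q.B x (k • y) := fun k x y => by
    obtain ⟨p, hp⟩ := hgen k
    rw [hp, hp, bb_aeval_adj]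
  have hlin : ∀ b : q.O, (b * a * b⁻¹ = a ∨ b * a * b⁻¹ = a⁻¹) → ∀ (k : K) x,
      b (k • x) = k • b x := fun b hb k x => by
    obtain ⟨p, hp⟩ := hgen k
    rw [hp, hp, aeval_bb_comm hb]
  have hex : ∀ x y : V, ∃ c : K, ∀ k, τ (k * c) = q.B (k • x) y := fun x y =>
    tau_dual hτ ((q.B.flip y).comp ((LinearMap.toSpanSingleton K V x).restrictScalars F))
  choose BK hBK using hex
  have hsymm : ∀ x y, BK x y = BK y x := fun x y => tau_ext hτ fun k => by
    rw [hBK, hBK, hadj, q.symm]
  have hadd : ∀ x x' y, BK (x + x') y = BK x y + BK x' y := fun x x' y => tau_ext hτ fun k => by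
    rw [mul_add, map_add, hBK, hBK, hBK, smul_add, map_add, LinearMap.add_apply]
  have hsmul : ∀ (c : K) x y, BK (c • x) y = c • BK x y := fun c x y => tau_ext hτ fun k => by
    rw [hBK, smul_eq_mul, ← mul_assoc, hBK, mul_smul]
  have hinv : ∀ b : q.O, (b * a * b⁻¹ = a ∨ b * a * b⁻¹ = a⁻¹) → ∀ x y,
      BK (b x) (b y) = BK x y := fun b hb x y => tau_ext hτ fun k => by
    rw [hBK, hBK, ← hlin b hb, isoB]
  have haa : a * a * a⁻¹ = a ∨ a * a * a⁻¹ = a⁻¹ := Or.inl (by simp)
  have hleft : ∀ x y, BK (a⁻¹ x) y = BK x (a y) := fun x y => by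
    rw [← hinv a haa, apply_inv]
  let q' : QS K V :=
    { Q := fun x => β⁻¹ * BK (a x) x
      B := LinearMap.mk₂ K BK hadd hsmul (fun x y y' => by rw [hsymm, hadd, hsymm y, hsymm y'])
        (fun c x y => by rw [hsymm, hsmul, hsymm y])
      add := fun x y => by
        have h1 : BK (a x) y + BK (a y) x = β * BK x y := by
          rw [← smul_eq_mul, ← hsmul, hβ, bb_apply, hadd, hleft, hsymm x]
        rw [LinearMap.mk₂_apply, map_add, hadd, hsymm _ (x + y), hsymm _ (x + y), hadd, hadd,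
          hsymm x, hsymm y, hsymm x, hsymm y]
        have h2 : BK x y = β⁻¹ * (BK (a x) y + BK (a y) x) := by
          rw [h1, inv_mul_cancel_left₀ hβ0]
        rw [h2]
        ring
      smul := fun c x => by
        rw [hlin a haa, hsmul, hsymm, hsmul, hsymm, smul_eq_mul, smul_eq_mul]
        ring
      nd := fun x hx => q.nd x fun y => by
        have h1 := hBK x y 1
        rw [one_smul, one_mul] at h1
        rw [← h1, show BK x y = 0 from hx y, map_zero] }
  have hQ : ∀ x, τ (q'.Q x) = q.Q x := by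
    intro x
    obtain ⟨y, rfl⟩ : ∃ y, x = a y + y := by
      refine ⟨β⁻¹ • (x + a⁻¹ x), ?_⟩
      rw [hlin a haa, ← smul_add, map_add, apply_inv, add_assoc, ← add_assoc x, vadd_self F,
        zero_add, ← bb_apply, ← hβ, inv_smul_smul₀ hβ0]
    have h1 : a (a y + y) = β • a y + (a y + y) := by
      rw [map_add, sq_apply, hβ]
      abel
    have h2 : ∀ z, q.B (β⁻¹ • z) z = 0 := fun z => by
      obtain ⟨p, hp⟩ := hgen β⁻¹
      rw [hp, bb_aeval_self]
    show τ (β⁻¹ * BK _ _) = _
    rw [hBK, h1, smul_add, inv_smul_smul₀ hβ0, map_add q.B, LinearMap.add_apply, h2, add_zero,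
      map_add, q.self, zero_add, q.add, isoQ, CharTwo.add_self_eq_zero, zero_add]
  let f : q'.O →* q.O :=
    { toFun := fun g => ⟨(g : V ≃ₗ[K] V).restrictScalars F, fun x => by
        rw [← hQ, ← hQ]
        exact congrArg τ (g.2 x)⟩
      map_one' := rfl
      map_mul' := fun _ _ => rfl }
  refine ⟨q', f, fun b hb => ?_⟩
  let b' : V →ₗ[K] V :=
    { toFun := fun x => b x
      map_add' := fun x y => map_add _ x y
      map_smul' := hlin b hb }
  have hb' : ∀ x, q'.Q (b' x) = q'.Q x := by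
    intro x
    show β⁻¹ * BK (a (b x)) (b x) = β⁻¹ * BK (a x) x
    congr 1
    rcases hb with hb | hb
    · have h1 : a * b = b * a := by
        conv_lhs => rw [← hb]
        simp
      rw [← mul_apply, h1, mul_apply, hinv b (Or.inl hb)]
    · have h1 : a * b = b * a⁻¹ := by
        conv_lhs => rw [← inv_inv a, ← hb]
        group
      rw [← mul_apply, h1, mul_apply, hinv b (Or.inr hb), hleft, hsymm]
  exact ⟨mkO b' hb', O_ext fun _ => rfl⟩

open QS in
theorem fe : FEStmt.{u} := by
  intro F V _ _ _ _ _ _ q a B hodd ha1 hB hind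
  have hnt : Nontrivial V := by
    rcases subsingleton_or_nontrivial V with h0 | h0
    · exact absurd (O_ext fun x => Subsingleton.elim _ _) ha1
    · exact h0
  have hss : (q.act a).IsSemisimple := by
    have h1 : (X ^ orderOf a - C 1 : F[X]).Separable := by
      refine separable_X_pow_sub_C _ ?_ one_ne_zero
      obtain ⟨k, hk⟩ := hodd
      rw [hk]
      simp [two_zero]
    refine Module.End.isSemisimple_of_squarefree_aeval_eq_zero h1.squarefree ?_
    rw [map_sub, map_pow, aeval_X, ← actHom_apply, ← map_pow, pow_orderOf_eq_one, map_one]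
    simp
  have hbb : bb a = aeval (q.act a) (X + X ^ (orderOf a - 1) : F[X]) := by
    have h1 : a⁻¹ = a ^ (orderOf a - 1) := by
      rw [inv_eq_iff_mul_eq_one, ← pow_succ', Nat.sub_add_cancel hodd.pos, pow_orderOf_eq_one]
    rw [bb, h1, map_add, map_pow, aeval_X, ← actHom_apply (a ^ _), map_pow, actHom_apply]
  have h1 : ∀ p : F[X], Function.Injective (aeval (bb a) p) ∨ aeval (bb a) p = 0 := by
    intro p
    obtain ⟨n, hn, hnd⟩ := fitting (aeval (bb a) p) (bb_aeval_adj a p)
    rcases hind _ (fun x hx => by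
      rw [LinearMap.mem_ker, ← map_pow] at hx ⊢
      rw [← aeval_bb_self, hx, map_zero]) (fun b hb x hx => by
      rw [LinearMap.mem_ker, ← map_pow] at hx ⊢
      rw [← aeval_bb_comm (hB b hb), hx, map_zero]) hnd with h | h
    · exact Or.inl (Module.End.injective_of_iterate_injective hn (LinearMap.ker_eq_bot.1 h))
    · refine Or.inr (Module.End.eq_zero_of_isNilpotent_isSemisimple
        ⟨n, LinearMap.ker_eq_top.1 h⟩ ?_)
      rw [hbb, ← aeval_comp]
      exact hss.aeval _
  have hb0 : bb a ≠ 0 := fun h => by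
    have h2 : a = a⁻¹ := act_injective (veq_of_add F h)
    have h3 : orderOf a ∣ 2 := orderOf_dvd_of_pow_eq_one (by
      rw [pow_two]; nth_rewrite 1 [h2]; simp)
    rcases (Nat.dvd_prime Nat.prime_two).1 h3 with h4 | h4
    · exact ha1 (orderOf_eq_one_iff.1 h4)
    · rw [h4] at hodd
      exact absurd hodd (by decide)
  let I : Ideal F[X] := RingHom.ker (aeval (bb a) : F[X] →ₐ[F] Module.End F V)
  let φ : (F[X] ⧸ I) →ₐ[F] Module.End F V := Ideal.kerLiftAlg _
  have hφ : Function.Injective φ := Ideal.kerLiftAlg_injective _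
  haveI : Finite (Module.End F V) :=
    Finite.of_injective (fun g : Module.End F V => (g : V → V)) DFunLike.coe_injective
  haveI : Finite (F[X] ⧸ I) := Finite.of_injective _ hφ
  haveI : I.IsPrime := ⟨fun h => by
      have h2 : (1 : F[X]) ∈ I := h ▸ Submodule.mem_top
      rw [RingHom.mem_ker, map_one] at h2
      exact one_ne_zero h2, fun {p r} h => by
    rw [RingHom.mem_ker, map_mul] at h
    rcases h1 p with h2 | h2
    · exact Or.inr (LinearMap.ext fun x => h2 (by simpa using LinearMap.congr_fun h x))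
    · exact Or.inl h2⟩
  haveI : I.IsMaximal := Ideal.Quotient.maximal_of_isField _ (Finite.isField_of_domain _)
  letI : Field (F[X] ⧸ I) := Ideal.Quotient.field I
  letI : Module (F[X] ⧸ I) V := Module.compHom V (φ : (F[X] ⧸ I) →+* Module.End F V)
  have hsm : ∀ (k : F[X] ⧸ I) (x : V), k • x = φ k x := fun _ _ => rfl
  haveI : IsScalarTower F (F[X] ⧸ I) V := ⟨fun c k x => by rw [hsm, hsm, map_smul]; rfl⟩
  have hβ : ∀ x : V, (Ideal.Quotient.mk I X) • x = bb a x := fun x => by
    rw [hsm, Ideal.kerLiftAlg_mk, aeval_X]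
  have hβ0 : Ideal.Quotient.mk I X ≠ 0 := fun h =>
    hb0 (LinearMap.ext fun x => by rw [← hβ, h, zero_smul]; rfl)
  by_cases hK : finrank F (F[X] ⧸ I) = 1
  · left
    obtain ⟨t, ht⟩ := (finrank_eq_one_iff_of_nonzero' (1 : F[X] ⧸ I) one_ne_zero).1 hK
      (Ideal.Quotient.mk I X)
    refine ⟨t, fun h => hβ0 (by rw [← ht, h, zero_smul]), fun x => ?_⟩
    rw [sq_apply, ← hβ, ← ht, smul_assoc, one_smul]
  · right
    obtain ⟨q', f, hf⟩ := fe_core q a _ hβ0 hβ fun k => by
      obtain ⟨p, rfl⟩ := Ideal.Quotient.mk_surjective k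
      exact ⟨p, fun x => by rw [hsm, Ideal.kerLiftAlg_mk]⟩
    refine ⟨F[X] ⧸ I, inferInstance, inferInstance,
      charP_of_injective_algebraMap (algebraMap F _).injective 2, inferInstance, q', f, ?_,
      hf a (Or.inl (by simp)), fun b hb => hf b (hB b hb)⟩
    have h2 := Module.finrank_mul_finrank F (F[X] ⧸ I) V
    have h3 : 0 < finrank F (F[X] ⧸ I) := Module.finrank_pos
    have h4 : 0 < finrank (F[X] ⧸ I) V := Module.finrank_pos
    rw [← h2]
    exact lt_mul_left h4 (by omega)

end Cfsg.Agent.FS
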