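import Cfsg.Agent.Lib.FS.Step1

/-!
# The inductive family
-/

set_option autoImplicit false
set_option linter.unusedSectionVars false
set_option linter.style.haveILetI false

namespace Cfsg.Agent.FS

open Module QS

universe u

section fix
variable {F V : Type*} [Field F] [CharP F 2] [AddCommGroup V] [Module F V] [Finite V]

theorem exists_fix_quot {D : Type*} [Group D] (hD : IsPGroup 2 D)
    (ψ : D →* Module.End F V) {A T : Submodule F V} (hA : ∀ d, ∀ v ∈ A, ψ d v ∈ A)
    (hT : ∀ d, ∀ v ∈ T, ψ d v ∈ T) (h0 : ¬ T ≤ A) :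
    ∃ v ∈ T, v ∉ A ∧ ∀ d, ψ d v - v ∈ A := by
  let ψ' : D →* Module.End F (V ⧸ A) :=
    { toFun := fun d => A.mapQ A (ψ d) (hA d)
      map_one' := A.linearMap_qext (LinearMap.ext fun v => by simp)
      map_mul' := fun a b => A.linearMap_qext (LinearMap.ext fun v => by simp) }
  haveI : Finite (V ⧸ A) := Finite.of_surjective _ A.mkQ_surjective
  have h1 : ∀ d, ∀ v ∈ T.map A.mkQ, ψ' d v ∈ T.map A.mkQ := by
    rintro d _ ⟨v, hv, rfl⟩
    exact ⟨ψ d v, hT d v hv, rfl⟩
  let ψ'' : D →* Module.End F (T.map A.mkQ) :=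
    { toFun := fun d => (ψ' d).restrict (h1 d)
      map_one' := by ext; simp
      map_mul' := fun a b => by ext; simp }
  haveI : Nontrivial (T.map A.mkQ) := Submodule.nontrivial_iff_ne_bot.2 fun e => h0 (by
    rwa [← LinearMap.le_ker_iff_map, Submodule.ker_mkQ] at e)
  obtain ⟨⟨_, v, hv, rfl⟩, hv0, hf⟩ := exists_fix hD ψ''
  refine ⟨v, hv, fun e => hv0 (Subtype.ext ((Submodule.Quotient.mk_eq_zero A).2 e)), fun d => ?_⟩
  exact (Submodule.Quotient.eq A).1 (congrArg Subtype.val (hf d))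

variable {q : QS F V}

variable (q) in
/-- setwise stabilizer -/
def QS.sstab (W : Submodule F V) : Subgroup q.O where
  carrier := {g | ∀ x ∈ W, g x ∈ W}
  one_mem' _ h := h
  mul_mem' ha hb x hx := ha _ (hb x hx)
  inv_mem' ha _ hx := inv_mem_of_mem ha hx

theorem QS.ker_inv {c : Module.End F V} {g : q.O} (h : Commute (q.act g) c) (n : ℕ) :
    g ∈ q.sstab (LinearMap.ker (c ^ n)) := fun x hx => by
  have := LinearMap.congr_fun (h.pow_right n).eq x
  simp only [Module.End.mul_apply, act_apply, LinearMap.mem_ker.1 hx, map_zero] at this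
  exact this.symm

theorem QS.eq_zero_of_Q {x y : V} {s : F} (hx : q.Q x ≠ 0) (hxy : q.B x y = 0) {g : q.O}
    (h : g y = y + s • x) : s = 0 := by
  have := isoQ g y
  rw [h, q.add, q.smul, map_smul, q.symm y, hxy] at this
  have h2 : s ^ 2 * q.Q x = 0 := by simpa using this
  simpa [hx] using h2

theorem QS.exists_sing [Finite F] {x : V} (hx : q.Q x ≠ 0) {y : V} (hxy : q.B x y = 0) :
    ∃ c : F, q.Q (y + c • x) = 0 := by
  obtain ⟨c, hc⟩ := exists_sq (q.Q y / q.Q x)
  refine ⟨c, ?_⟩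
  rw [q.add, q.smul, map_smul, q.symm y, hxy, hc, div_mul_cancel₀ _ hx]
  simp [CharTwo.add_self_eq_zero]

theorem QS.ndeg_pair {x y : V} (h : q.B x y ≠ 0) : q.NDeg (Submodule.span F {x, y}) := by
  intro z hz H
  obtain ⟨a, b, rfl⟩ := Submodule.mem_span_pair.1 hz
  have h1 := H x (Submodule.subset_span (by simp))
  have h2 := H y (Submodule.subset_span (by simp))
  have h3 : b = 0 := by simpa [q.symm y x, h] using h1
  have h4 : a = 0 := by simpa [h] using h2
  simp [h3, h4]

theorem QS.finrank_perp_lt {W : Submodule F V} (h : q.NDeg W) (h0 : W ≠ ⊥) :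
    finrank F (q.perp W) < finrank F V := by
  have h2 := finrank_add_perp h
  have h4 : finrank F W ≠ 0 := fun e => h0 (Submodule.finrank_eq_zero.1 e)
  omega

end fix

variable {P : ∀ (G : Type u) [Group G], Prop}

theorem Good.subgroupOf (hP : Good P) {G : Type u} [Group G] [Finite G] {K H : Subgroup G}
    (h : K ≤ H) (hK : P K) : P (K.subgroupOf H) :=
  hP.equiv (Subgroup.subgroupOfEquivOfLe h).symm hK

variable {F V : Type u} [Field F] [Finite F] [CharP F 2] [AddCommGroup V] [Module F V] [Finite V]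
  {q : QS F V}

theorem Good.split (hP : Good P) {W : Submodule F V} (hW : q.NDeg W) (E : Subgroup (q.res W hW).O)
    (K : Subgroup q.O) (h1 : ∀ e ∈ E, ∀ k, sumHom hW (e, k) ∈ K)
    (h2 : ∀ g ∈ K, ∃ hg : ∀ x ∈ W, g x ∈ W, resO hW g hg ∈ E) (hE : P E)
    (h : P (q.res _ (ndeg_perp hW)).O) : P K :=
  hP.range ((sumHom hW).comp (E.subtype.prodMap (MonoidHom.id _))) K (fun g => h1 _ g.1.2 _)
    (fun g hg => by
      obtain ⟨h3, h4⟩ := h2 g hg
      exact ⟨(⟨_, h4⟩, _), sumHom_resO hW g h3⟩) (hP.prod hE h)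

theorem Good.split_sstab (hP : Good P) {W : Submodule F V} (hW : q.NDeg W)
    (h : P (q.res W hW).O) (h' : P (q.res _ (ndeg_perp hW)).O) : P (q.sstab W) :=
  hP.split hW ⊤ _ (fun e _ k x hx => by rw [sumHom_left hW _ hx]; exact Subtype.mem _)
    (fun _ hg => ⟨hg, trivial⟩) (hP.top h) h'

variable (P q) in
/-- the family of groups attached to a quadratic space -/
structure Fam : Prop where
  o : P q.O
  st : ∀ y, P (q.stab y)
  g1 : ∀ (D : Type u) [Group D] [Finite D] (μ : D →* Fˣ) (y : V), (∀ D' : Subgroup D, P D') →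
    P (q.G1 μ y)
  g2 : ∀ S v x, q.Q v = 0 → v ≠ 0 → q.Q x ≠ 0 → q.B v x = 0 → P (q.G2 S v x)
  g2' : ∀ S x y, q.Q x ≠ 0 → P (q.G2 S x y)

variable (P) in
/-- the induction hypothesis -/
def IH (n : ℕ) : Prop :=
  ∀ (F V : Type u) [Field F] [Finite F] [CharP F 2] [AddCommGroup V] [Module F V] [Finite V]
    (q : QS F V), finrank F V < n → Fam P q

variable (hP : Good P) (ih : IH P (finrank F V))
include hP ih

theorem step_g2 (S : AddSubgroup F) {v x : V} (hv : q.Q v = 0) (hv0 : v ≠ 0) (hx : q.Q x ≠ 0)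
    (hvx : q.B v x = 0) : P (q.G2 S v x) := by
  obtain ⟨W, hW, e, he, h1, h2, hxW, hd⟩ := exists_split hv hvx (by
    rintro c rfl
    rw [q.smul] at hv
    exact hv0 (by simp [(pow_eq_zero_iff two_ne_zero).1 ((mul_eq_zero.1 hv).resolve_right hx)]))
  have := G2_congr e he hP S _ _ (step2_model (q.res W hW) hP S (x := ⟨x, hxW⟩)
    (fun e => hx (by rw [show x = 0 from congrArg Subtype.val e, Q_zero]))
    fun S' y => (ih F W _ (by omega)).g2' S' _ y hx)
  rwa [h1, h2] at this

theorem step_g1s {D : Type u} [Group D] [Finite D] (μ : D →* Fˣ) {y : V} (hy : q.Q y = 0)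
    (hy0 : y ≠ 0) (hD : ∀ D' : Subgroup D, P D') : P (q.G1 μ y) := by
  obtain ⟨W, hW, e, he, h1, -, -, hd⟩ := exists_split (x := 0) hy (by simp) (by simpa using hy0.symm)
  have := G1_congr e he hP μ _ (step1_model (q.res W hW) hP.cliff μ
    fun y => (ih F W _ (by omega)).g1 D μ y hD)
  rwa [h1] at this

theorem step_st {y : V} (hy0 : y ≠ 0) : P (q.stab y) := by
  by_cases hy : q.Q y = 0
  · exact hP.range ((MonoidHom.snd _ _).comp (q.G1 (1 : PUnit →* Fˣ) y).subtype) _
      (fun g => by simpa using (mem_G1 q).1 g.2) (fun g hg => ⟨⟨(1, g), by simpa using hg⟩, rfl⟩)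
      (step_g1s hP ih _ hy hy0 fun _ => hP.one _)
  by_cases hT : LinearMap.ker (q.B y) ≤ F ∙ y
  · refine hP.elem fun g => Subtype.ext (O_ext fun z => ?_)
    have h1 : g.1 z - z ∈ LinearMap.ker (q.B y) := by
      rw [LinearMap.mem_ker, map_sub, B_right, (q.stab y).inv_mem g.2, sub_self]
    obtain ⟨s, hs⟩ := Submodule.mem_span_singleton.1 (hT h1)
    rw [eq_sub_iff_add_eq] at hs
    show g.1 (g.1 z) = z
    rw [← hs, map_add, map_smul, g.2, ← hs, ← add_assoc, vadd_self F, zero_add]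
  refine hP.red (fun B hB => ?_) fun a B ha hB => ?_
  · obtain ⟨v, hv, hv', H⟩ := exists_fix_quot hB
      (q.actHom.comp ((q.stab y).subtype.comp B.subtype)) (A := F ∙ y)
      (T := LinearMap.ker (q.B y)) (fun d v hv => by
        obtain ⟨s, rfl⟩ := Submodule.mem_span_singleton.1 hv
        rw [map_smul]
        exact Submodule.smul_mem _ _ (Submodule.mem_span_singleton.2 ⟨1, by
          rw [one_smul]; exact d.1.2.symm⟩))
      (fun d v hv => by
        show q.B y (d.1.1 v) = 0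
        rw [B_right, (q.stab y).inv_mem d.1.2]
        exact hv) hT
    obtain ⟨c, hc⟩ := exists_sing hy (y := v) hv
    have h0 : v + c • y ≠ 0 := fun e => hv' (Submodule.mem_span_singleton.2 ⟨c, (veq_of_add F e).symm⟩)
    have h1 : q.G2 ⊥ (v + c • y) y ≤ q.stab y := by
      rintro g ⟨-, s, rfl, hg⟩
      simpa using hg
    refine ⟨_, hP.subgroupOf h1 (step_g2 hP ih ⊥ hc h0 hy (by
      simpa [q.symm v] using LinearMap.mem_ker.1 hv)), fun b hb => ?_⟩
    obtain ⟨s, hs⟩ := Submodule.mem_span_singleton.1 (H ⟨b, hb⟩)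
    rw [eq_sub_iff_add_eq, add_comm] at hs
    have h2 : s = 0 := eq_zero_of_Q hy hv (g := b.1) hs.symm
    have h3 : b.1 v = v := by simpa [h2] using hs.symm
    exact ⟨show b.1 _ = _ by rw [map_add, map_smul, h3, b.2], 0, rfl, by simpa using mem_stab.1 b.2⟩
  · obtain ⟨n, hn, hW⟩ := fitting (bb a.1) (bb_adj a.1)
    have hyW : y ∈ LinearMap.ker (bb a.1 ^ n) := by
      obtain ⟨m, rfl⟩ := Nat.exists_eq_succ_of_ne_zero hn
      rw [LinearMap.mem_ker, pow_succ, Module.End.mul_apply, bb_apply, a.2,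
        (q.stab y).inv_mem a.2, vadd_self F, map_zero]
    obtain ⟨d1, d2⟩ := finrank_lt_of_ne hW (fun e => hy0 (by simpa [e] using hyW)) fun e => by
      obtain ⟨k, hk⟩ := two_of_bb (LinearMap.ker_eq_top.1 e)
      exact ha k (Subtype.ext hk)
    refine ⟨_, hP.subgroupOf (K := q.stab y ⊓ q.sstab (LinearMap.ker (bb a.1 ^ n))) inf_le_left
      (hP.split hW ((q.res _ hW).stab ⟨y, hyW⟩) _ (fun e he k => ⟨?_, fun x hx => ?_⟩)
        (fun g hg => ⟨hg.2, Subtype.ext hg.1⟩) ((ih F _ _ d1).st _) (ih F _ _ d2).o),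
      ⟨a.2, ker_inv (bb_comm (Or.inl (by simp))) n⟩, fun b hb => ⟨b.2, ker_inv (bb_comm ?_) n⟩⟩
    · show sumHom hW (e, k) y = y
      rw [sumHom_left hW _ hyW]
      exact congrArg Subtype.val he
    · rw [sumHom_left hW _ hx]
      exact Subtype.mem _
    · exact (hB b hb).imp (congrArg Subtype.val) (congrArg Subtype.val)

theorem step_two (B : Subgroup q.O) (hB : IsPGroup 2 B) : ∃ M : Subgroup q.O, P M ∧ B ≤ M := by
  rcases subsingleton_or_nontrivial V with h | h
  · haveI : Subsingleton q.O := ⟨fun a b => O_ext fun x => Subsingleton.elim _ _⟩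
    exact ⟨⊤, hP.one _, le_top⟩
  · obtain ⟨v, h0, hv⟩ := exists_fix_O hB
    exact ⟨_, step_st hP ih h0, hv⟩

theorem step_fam (hO : P q.O) : Fam P q := by
  have hst : ∀ y, P (q.stab y) := fun y => by
    by_cases hy : y = 0
    · rw [show q.stab y = ⊤ from eq_top_iff.2 fun g _ => by simp [hy]]
      exact hP.top hO
    · exact step_st hP ih hy
  refine ⟨hO, hst, fun D _ _ μ y hD => ?_, fun S v x => step_g2 hP ih S, fun S x y hx => ?_⟩
  · by_cases hy0 : y = 0
    · rw [show q.G1 μ y = ⊤ from eq_top_iff.2 fun g _ => by simp [hy0]]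
      exact hP.top (hP.prod (hP.of_top (hD ⊤)) hO)
    by_cases hy : q.Q y = 0
    · exact step_g1s hP ih μ hy hy0 hD
    refine hP.range (μ.ker.subtype.prodMap (q.stab y).subtype) _ (fun g => ?_) (fun g hg => ?_)
      (hP.prod (hD _) (hst y))
    · show g.2.1 y = (μ g.1.1 : F) • y
      rw [g.2.2, g.1.2]; simp
    · have h1 := isoQ g.2 y
      rw [hg, q.smul] at h1
      have h2 : (μ g.1 : F) ^ 2 = 1 := mul_right_cancel₀ hy (by simpa using h1)
      have h3 : (μ g.1 : F) = 1 := by grind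
      exact ⟨(⟨g.1, Units.ext h3⟩, ⟨g.2, by simpa [h3] using hg⟩), rfl⟩
  by_cases hxy : q.B x y = 0
  · obtain ⟨c, hc⟩ := exists_sing hx hxy
    have key : ∀ g : q.O, g ∈ q.G2 S x y ↔ g x = x ∧ g (y + c • x) = y + c • x := fun g => by
      constructor
      · rintro ⟨h1, s, -, h2⟩
        have h3 := eq_zero_of_Q hx hxy h2
        exact ⟨h1, by simp [h1, h2, h3]⟩
      · rintro ⟨h1, h2⟩
        exact ⟨h1, 0, S.zero_mem, by simpa [h1] using h2⟩
    by_cases h0 : y + c • x = 0
    · rw [show q.G2 S x y = q.stab x from Subgroup.ext fun g => by simp [key, h0]]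
      exact hst x
    · rw [show q.G2 S x y = q.G2 ⊥ (y + c • x) x from Subgroup.ext fun g => by
        rw [key, mem_G2, and_comm]; simp]
      exact step_g2 hP ih ⊥ hc h0 hx (by simp [q.symm y, hxy])
  · have hW := ndeg_pair hxy
    have hxW : x ∈ Submodule.span F {x, y} := Submodule.subset_span (by simp)
    have hyW : y ∈ Submodule.span F {x, y} := Submodule.subset_span (by simp)
    refine hP.split hW ((q.res _ hW).G2 S ⟨x, hxW⟩ ⟨y, hyW⟩) _ ?_ ?_ (hP.elem ?_)
      (ih F _ _ (finrank_perp_lt hW fun e => hx (by simp [show x = 0 by simpa [e] using hxW]))).o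
    · rintro e ⟨h1, s, hs, h2⟩ k
      refine ⟨?_, s, hs, ?_⟩
      · rw [sumHom_left hW _ hxW]; exact congrArg Subtype.val h1
      · rw [sumHom_left hW _ hyW]; exact congrArg Subtype.val h2
    · rintro g ⟨h1, s, hs, h2⟩
      refine ⟨fun z hz => ?_, Subtype.ext h1, s, hs, Subtype.ext h2⟩
      obtain ⟨a, b, rfl⟩ := Submodule.mem_span_pair.1 hz
      rw [map_add, map_smul, map_smul, h1, h2]
      exact add_mem (Submodule.smul_mem _ _ hxW)
        (Submodule.smul_mem _ _ (add_mem hyW (Submodule.smul_mem _ _ hxW)))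
    · rintro ⟨g, h1, s, hs, h2⟩
      refine Subtype.ext (O_ext fun z => ?_)
      obtain ⟨a, b, hz⟩ := Submodule.mem_span_pair.1 z.2
      have : z = a • ⟨x, hxW⟩ + b • ⟨y, hyW⟩ := Subtype.ext hz.symm
      show g (g z) = z
      simp only [this, map_add, map_smul, h1, h2, add_assoc, vadd_self F, add_zero]

end Cfsg.Agent.FS
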