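import Cfsg.Agent.Lib.FS.Defs

/-! The matrix orthogonal groups as orthogonal groups of quadratic spaces. -/

set_option autoImplicit false

namespace Cfsg.Agent.FS

open Cfsg Module Matrix

universe u

variable {F : Type u} [Field F]

theorem iso_isometry {ι : Type} [Fintype ι] [DecidableEq ι] (q : QS F (ι → F)) :
    Nonempty (q.O ≃* isometryGroup F q.Q) := by
  let e := (GeneralLinearGroup.toLin (n := ι) (R := F)).trans
    (LinearMap.GeneralLinearGroup.generalLinearEquiv F (ι → F))
  refine ⟨((e.subgroupMap (isometryGroup F q.Q)).trans (MulEquiv.subgroupCongr ?_)).symm⟩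
  ext g
  obtain ⟨A, rfl⟩ := e.surjective g
  exact ⟨fun ⟨B, h, e'⟩ x => e.injective e' ▸ h x x, fun h => ⟨A, fun x _ => h x, rfl⟩⟩

theorem exists_sq_eq [Finite F] [CharP F 2] (b : F) : ∃ c : F, c ^ 2 = b :=
  (frobeniusEquiv F 2).surjective b

/-- the hyperbolic space -/
def qPlus (F : Type u) [Field F] (n : ℕ) : QS F (Fin n ⊕ Fin n → F) where
  Q := quadFormPlus n F
  B := LinearMap.mk₂ F (fun u v => ∑ i, (u (.inl i) * v (.inr i) + u (.inr i) * v (.inl i)))
    (fun _ _ _ => by simp [← Finset.sum_add_distrib]; exact Finset.sum_congr rfl fun _ _ => by ring)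
    (fun _ _ _ => by simp [Finset.mul_sum]; exact Finset.sum_congr rfl fun _ _ => by ring)
    (fun _ _ _ => by simp [← Finset.sum_add_distrib]; exact Finset.sum_congr rfl fun _ _ => by ring)
    (fun _ _ _ => by simp [Finset.mul_sum]; exact Finset.sum_congr rfl fun _ _ => by ring)
  add x y := by
    simp [quadFormPlus, ← Finset.sum_add_distrib]
    exact Finset.sum_congr rfl fun _ _ => by ring
  smul c x := by
    simp [quadFormPlus, Finset.mul_sum]
    exact Finset.sum_congr rfl fun _ _ => by ring
  nd x h := funext fun i => by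
    have := h (Pi.single i.swap 1)
    cases i <;> simpa [Pi.single_apply] using this

theorem iso : IsoStmt.{u} := fun F _ _ _ => by
  refine ⟨fun n => ⟨qPlus F n, iso_isometry _⟩, fun n a b h => ?_⟩
  have ha : a ≠ 0 := fun e => by
    obtain ⟨c, hc⟩ := exists_sq_eq b
    exact one_ne_zero (h c 1 (by rw [e, hc]; simp [CharTwo.add_self_eq_zero])).2
  have h2 : (2 : F) = 0 := CharTwo.two_eq_zero
  let r : ((Fin n ⊕ Fin n) ⊕ Fin 2 → F) →ₗ[F] (Fin n ⊕ Fin n → F) := LinearMap.funLeft F F .inl
  refine ⟨⟨quadFormMinus n F a b, (qPlus F n).B.compl₁₂ r r + LinearMap.mk₂ F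
    (fun u v => a * (u (.inr 0) * v (.inr 1) + u (.inr 1) * v (.inr 0)))
    (fun _ _ _ => by simp; ring) (fun _ _ _ => by simp; ring) (fun _ _ _ => by simp; ring)
    (fun _ _ _ => by simp; ring), fun x y => ?_, fun c x => ?_, fun x hx => ?_⟩, iso_isometry _⟩
  · have := (qPlus F n).add (r x) (r y)
    simp only [qPlus, quadFormPlus, quadFormMinus, r, LinearMap.funLeft_apply, Pi.add_apply,
      LinearMap.add_apply, LinearMap.compl₁₂_apply, LinearMap.mk₂_apply] at this ⊢
    linear_combination this + (x (.inr 0) * y (.inr 0) + b * x (.inr 1) * y (.inr 1)) * h2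
  · have := (qPlus F n).smul c (r x)
    simp only [qPlus, quadFormPlus, quadFormMinus, r, LinearMap.funLeft_apply, Pi.smul_apply,
      smul_eq_mul] at this ⊢
    linear_combination this
  · funext i
    rcases i with i | i
    · have := hx (Pi.single (.inl i.swap) 1)
      cases i <;> simpa [Pi.single_apply, qPlus, r] using this
    · have h₀ := hx (Pi.single (.inr 0) 1)
      have h₁ := hx (Pi.single (.inr 1) 1)
      fin_cases i
      · simpa [Pi.single_apply, qPlus, r, ha] using h₁
      · simpa [Pi.single_apply, qPlus, r, ha] using h₀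

end Cfsg.Agent.FS
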