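import Cfsg.Agent.Lib.FS.Iso

/-! The symplectic group as a quotient of the stabilizer of a nonsingular vector. -/

set_option autoImplicit false
set_option linter.style.haveILetI false

namespace Cfsg.Agent.FS

open Cfsg Module Matrix

universe u

namespace H2

variable {F V : Type*} [Field F] [AddCommGroup V] [Module F V] (q : QS F V)

theorem Q_zero : q.Q 0 = 0 := by simpa using q.smul 0 0

theorem B_symm (x y : V) : q.B x y = q.B y x :=
  add_left_cancel (a := q.Q x + q.Q y) (by rw [← q.add, add_comm x, q.add, add_comm (q.Q x)])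

theorem B_map (g : q.O) (x y : V) : q.B (g x) (g y) = q.B x y :=
  add_left_cancel (a := q.Q x + q.Q y) (by
    rw [← q.add, ← g.2 (x + y), map_add, q.add, g.2, g.2])

theorem B_self [CharP F 2] (x : V) : q.B x x = 0 := by
  have := q.add x x
  rw [← two_smul F x, CharTwo.two_eq_zero, zero_smul, Q_zero, CharTwo.add_self_eq_zero,
    zero_add] at this
  exact this.symm

theorem exists_B_eq [Module.Finite F V] (φ : V →ₗ[F] F) : ∃ w, ∀ v, q.B w v = φ v := by
  have h : Function.Injective q.B := (injective_iff_map_eq_zero _).2 fun x hx =>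
    q.nd x fun y => by rw [hx]; rfl
  obtain ⟨w, hw⟩ := (LinearMap.injective_iff_surjective_of_finrank_eq_finrank
    Subspace.dual_finrank_eq.symm).1 h φ
  exact ⟨w, fun v => by rw [hw]⟩

theorem arf [Finite F] [CharP F 2] [Finite V] (e : V ≃ V) {w : V}
    (h : ∀ v, q.Q (e v) = q.Q v + q.B w v ^ 2) : ∃ c : F, c ^ 2 + c = q.Q w := by
  classical
  haveI := Fintype.ofFinite V
  let P : F →+ F := AddMonoidHom.mk' (fun c => c ^ 2 + c) fun a b => by
    rw [CharTwo.add_sq]; ring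
  have h₁ : P.ker = AddSubgroup.zmultiples 1 := by
    refine le_antisymm (fun c hc => ?_) (AddSubgroup.zmultiples_le.2 (by
      simp [P, CharTwo.add_self_eq_zero]))
    have hc' : c ^ 2 + c = 0 := hc
    have : c * (c - 1) = 0 := by rw [CharTwo.sub_eq_add]; linear_combination hc'
    rcases mul_eq_zero.1 this with e | e
    · rw [e]; exact zero_mem _
    · rw [sub_eq_zero.1 e]; exact AddSubgroup.mem_zmultiples 1
  have h₂ : P.range.index = 2 := by
    rw [AddSubgroup.index_range, h₁, Nat.card_zmultiples]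
    exact addOrderOf_eq_prime (by simpa using CharTwo.two_eq_zero) one_ne_zero
  let ψ : F → ℤ := fun a => if a ∈ P.range then 1 else -1
  have h₃ : ∀ a b, ψ (a + b) = ψ a * ψ b := fun a b => by
    simp only [ψ, AddSubgroup.add_mem_iff_of_index_two h₂]
    split_ifs <;> simp_all
  have h₄ : ∀ a, ψ (a ^ 2) = ψ a := fun a => by
    have : ψ (a ^ 2 + a) = 1 := if_pos ⟨a, rfl⟩
    rw [← one_mul (ψ a), ← this, ← h₃, add_assoc, CharTwo.add_self_eq_zero, add_zero]
  obtain ⟨a, ha⟩ : ∃ a, ψ a = -1 := by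
    obtain ⟨a, -, ha⟩ := SetLike.exists_of_lt (lt_top_iff_ne_top.2 fun e : P.range = ⊤ => by
      simp [e] at h₂)
    exact ⟨a, if_neg ha⟩
  have h₅ : ∀ d, d ≠ 0 → ∑ v, ψ (q.B d v) = 0 := fun d hd => by
    obtain ⟨y, hy⟩ := not_forall.1 (mt (q.nd d) hd)
    have := Equiv.sum_comp (Equiv.addRight ((a / q.B d y) • y)) fun v => ψ (q.B d v)
    simp only [Equiv.coe_addRight, map_add, map_smul, smul_eq_mul, div_mul_cancel₀ a hy, h₃, ha,
      mul_neg, mul_one, Finset.sum_neg_distrib] at this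
    omega
  have h₆ : (∑ v, ψ (q.Q v)) * ∑ v, ψ (q.Q v) = Fintype.card V := by
    have k : ∀ v, ψ (q.Q v) * ∑ d, ψ (q.Q d) = ∑ d, ψ (q.Q d) * ψ (q.B d v) := fun v => by
      rw [← Equiv.sum_comp (Equiv.addRight v), Finset.mul_sum]
      refine Finset.sum_congr rfl fun d _ => ?_
      rw [Equiv.coe_addRight, q.add, ← h₃, ← h₃]
      congr 1
      linear_combination (CharTwo.add_self_eq_zero (q.Q v))
    rw [Finset.sum_mul, Finset.sum_congr rfl fun v _ => k v, Finset.sum_comm,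
      Finset.sum_eq_single 0 (fun d _ hd => by rw [← Finset.mul_sum, h₅ d hd, mul_zero]) (by simp)]
    simp [Q_zero, show ψ 0 = 1 from if_pos (zero_mem _)]
  have h₇ : ∑ v, ψ (q.Q v) = ψ (q.Q w) * ∑ v, ψ (q.Q v) := by
    conv_lhs => rw [← Equiv.sum_comp e]
    rw [← Equiv.sum_comp (Equiv.addLeft w) fun v => ψ (q.Q v), Finset.mul_sum]
    refine Finset.sum_congr rfl fun v _ => ?_
    rw [h, h₃, h₄, ← h₃, Equiv.coe_addLeft, q.add, ← h₃]
    congr 1
    linear_combination -(CharTwo.add_self_eq_zero (q.Q w))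
  by_contra e'
  rw [show ψ (q.Q w) = -1 from if_neg e'] at h₇
  rw [show ∑ v, ψ (q.Q v) = 0 by omega, mul_zero] at h₆
  exact Fintype.card_ne_zero (by exact_mod_cast h₆.symm)

/-- An isometry from a linear map preserving the form. -/
noncomputable def mkO [Module.Finite F V] (f : V →ₗ[F] V) (h : ∀ x, q.Q (f x) = q.Q x) : q.O :=
  ⟨LinearEquiv.ofBijective f (by
    have : Function.Injective f := (injective_iff_map_eq_zero _).2 fun x hx => q.nd x fun y =>
      add_left_cancel (a := q.Q x + q.Q y) (by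
        rw [← q.add, ← h (x + y), map_add, hx, zero_add, h, ← h x, hx, Q_zero, zero_add, add_zero])
    exact ⟨this, LinearMap.injective_iff_surjective.1 this⟩), h⟩

theorem mkO_apply [Module.Finite F V] (f : V →ₗ[F] V) (h : ∀ x, q.Q (f x) = q.Q x) (x : V) :
    mkO q f h x = f x := rfl

/-- The orthogonal sum with the plane `s² + s t`. -/
def pl [CharP F 2] : QS F (V × F × F) where
  Q v := q.Q v.1 + v.2.1 ^ 2 + v.2.1 * v.2.2
  B := LinearMap.mk₂ F (fun u v => q.B u.1 v.1 + u.2.1 * v.2.2 + u.2.2 * v.2.1)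
    (fun _ _ _ => by simp; ring) (fun _ _ _ => by simp; ring) (fun _ _ _ => by simp; ring)
    (fun _ _ _ => by simp; ring)
  add x y := by
    simp only [Prod.fst_add, Prod.snd_add, q.add, LinearMap.mk₂_apply, CharTwo.add_sq]; ring
  smul c x := by simp only [Prod.smul_fst, Prod.smul_snd, q.smul, smul_eq_mul]; ring
  nd x h := Prod.ext (q.nd _ fun y => by simpa using h (y, 0, 0))
    (Prod.ext (by simpa using h (0, 0, 1)) (by simpa using h (0, 1, 0)))

theorem mem_sp_iff {F : Type u} [Field F] [CharP F 2] {n : ℕ}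
    (A : Matrix (Fin n ⊕ Fin n) (Fin n ⊕ Fin n) F) :
    A ∈ symplecticGroup (Fin n) F ↔
      ∀ u v, (qPlus F n).B (A *ᵥ u) (A *ᵥ v) = (qPlus F n).B u v := by
  have h₁ : ∀ u v, (qPlus F n).B u v = u ⬝ᵥ J (Fin n) F *ᵥ v := fun u v => by
    simp [qPlus, J, dotProduct, fromBlocks_mulVec, Finset.sum_add_distrib, neg_mulVec,
      CharTwo.neg_eq]
  have h₂ : ∀ u v, (A *ᵥ u) ⬝ᵥ J (Fin n) F *ᵥ (A *ᵥ v) = u ⬝ᵥ (Aᵀ * J (Fin n) F * A) *ᵥ v :=
    fun u v => by simp [← mulVec_mulVec, dotProduct_mulVec, vecMul_transpose]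
  simp only [SymplecticGroup.mem_iff', h₁, h₂]
  exact ⟨fun e u v => by rw [e], fun e => Matrix.ext fun i j => by
    simpa using e (Pi.single i 1) (Pi.single j 1)⟩

end H2

open H2

theorem sp : SpStmt.{u} := fun F _ _ _ n => by
  let q := qPlus F n
  let T : (pl q).stab (0, 1, 0) → End F (Fin n ⊕ Fin n → F) := fun g =>
    LinearMap.fst F _ _ ∘ₗ (pl q).act g ∘ₗ LinearMap.inl F _ _
  have h₀ : ∀ (g : (pl q).stab (0, 1, 0)), g.1 (0, 1, 0) = (0, 1, 0) := fun g => g.2
  have h₁ : ∀ (g : (pl q).stab (0, 1, 0)) w, ∃ s : F, g.1 (w, 0) = (T g w, 0) + s • (0, 1, 0) :=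
    fun g w => by
      have := B_map _ g.1 (0, 1, 0) (w, 0)
      rw [h₀] at this
      exact ⟨(g.1 (w, 0)).2.1, Prod.ext (by simp; rfl)
        (Prod.ext (by simp) (by simpa [pl] using this))⟩
  have h₂ : ∀ g g', T (g * g') = T g * T g' := fun g g' => LinearMap.ext fun w => by
    obtain ⟨s, hs⟩ := h₁ g' w
    change (g.1 (g'.1 (w, 0))).1 = (g.1 (T g' w, 0)).1
    rw [hs, map_add, map_smul, h₀]
    simp
  have h₃ : ∀ g, LinearMap.toMatrix' (T g) ∈ symplecticGroup (Fin n) F := fun g =>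
    (mem_sp_iff _).2 fun u v => by
      obtain ⟨s, hs⟩ := h₁ g u
      obtain ⟨s', hs'⟩ := h₁ g v
      have := B_map _ g.1 (u, 0) (v, 0)
      rw [hs, hs'] at this
      simpa [pl, LinearMap.toMatrix'_mulVec] using this
  refine ⟨pl q, (0, 1, 0), ⟨⟨fun g => ⟨_, h₃ g⟩, Subtype.ext ?_⟩, fun g g' => Subtype.ext ?_⟩,
    by simp [pl, Q_zero], fun A => ?_⟩
  · exact LinearMap.toMatrix'_one
  · exact (congrArg _ (h₂ g g')).trans (LinearMap.toMatrix'_mul _ _)
  have k₁ : ∀ (C : symplecticGroup (Fin n) F) v, (C⁻¹).1 *ᵥ C.1 *ᵥ v = v := fun C v => by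
    rw [mulVec_mulVec, ← Submonoid.coe_mul, inv_mul_cancel, OneMemClass.coe_one, one_mulVec]
  have k₂ := (mem_sp_iff _).1 (A⁻¹).2
  choose r hr using exists_sq_eq (F := F)
  have k₃ : ∀ a b : F, a ^ 2 = b ^ 2 → a = b := fun a b e => frobenius_inj F 2 e
  obtain ⟨w, hw⟩ := exists_B_eq q
    { toFun := fun v => r (q.Q ((A⁻¹).1 *ᵥ v) + q.Q v)
      map_add' := fun u v => k₃ _ _ (by
        rw [CharTwo.add_sq, hr, hr, hr, mulVec_add, q.add, q.add, k₂]
        linear_combination CharTwo.add_self_eq_zero (q.B u v))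
      map_smul' := fun c v => k₃ _ _ (by
        rw [RingHom.id_apply, smul_eq_mul, mul_pow, hr, hr, mulVec_smul, q.smul, q.smul, mul_add]) }
  have k₄ : ∀ v, q.Q ((A⁻¹).1 *ᵥ v) = q.Q v + q.B w v ^ 2 := fun v => by
    rw [hw, LinearMap.coe_mk, AddHom.coe_mk, hr]
    linear_combination -CharTwo.add_self_eq_zero (q.Q v)
  obtain ⟨c, hc⟩ := arf q ⟨((A⁻¹).1 *ᵥ ·), (A.1 *ᵥ ·), fun v => by simpa using k₁ A⁻¹ v, k₁ A⟩ k₄
  let g : End F ((Fin n ⊕ Fin n → F) × F × F) :=
    { toFun := fun v => (A.1 *ᵥ v.1 + v.2.2 • w, v.2.1 + q.B w (A.1 *ᵥ v.1) + v.2.2 * c, v.2.2)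
      map_add' := fun u v => by
        simp only [Prod.fst_add, Prod.snd_add, mulVec_add, map_add, Prod.mk_add_mk, Prod.mk.injEq]
        exact ⟨by module, by ring, trivial⟩
      map_smul' := fun a v => by
        simp only [Prod.smul_fst, Prod.smul_snd, mulVec_smul, map_smul, Prod.smul_mk, smul_eq_mul,
          RingHom.id_apply, Prod.mk.injEq]
        exact ⟨by module, by ring, trivial⟩ }
  refine ⟨⟨mkO _ g fun v => ?_, ?_⟩, Subtype.ext ?_⟩
  · have := k₄ (A.1 *ᵥ v.1)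
    rw [k₁] at this
    simp only [pl, g, LinearMap.coe_mk, AddHom.coe_mk, q.add, q.smul, map_smul, smul_eq_mul,
      CharTwo.add_sq, this, ← hc, B_symm q _ w]
    linear_combination CharTwo.add_self_eq_zero (v.2.2 ^ 2 * c ^ 2 + v.2.2 ^ 2 * c +
      v.2.2 * q.B w (A.1 *ᵥ v.1))
  · change g (0, 1, 0) = _
    simp [g]
  · refine (congrArg _ (LinearMap.ext fun v => ?_)).trans (LinearMap.toMatrix'_toLin' A.1)
    change (g (v, 0)).1 = _
    simp [g]

end Cfsg.Agent.FS
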