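import Cfsg.Agent.Lib.FS.Real
import Cfsg.Agent.Lib.Char.Galois

/-!
# The Witt-Berman reduction for real Schur indices (`WBStmt`)
-/

set_option autoImplicit false
set_option linter.style.haveILetI false
set_option linter.unusedSectionVars false

namespace Cfsg.Agent.FS

open Cfsg Cfsg.Agent.Char Cfsg.Agent.Ind Module
open scoped ComplexConjugate

universe u

/-- the `2`-local version of Banaschewski's lemma -/
theorem odd_mem_of_local {S : Type*} [Finite S] (R : AddSubgroup (S → ℂ))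
    (hmul : ∀ f ∈ R, ∀ g ∈ R, f * g ∈ R)
    (h : ∀ x : S, ∃ f : S → ℤ, (fun y => (f y : ℂ)) ∈ R ∧ Odd (f x)) :
    ∃ m : ℤ, Odd m ∧ (fun _ => (m : ℂ)) ∈ R := by
  classical
  choose F hFR hF using h
  haveI := Fintype.ofFinite S
  let c : (S → ℤ) →+* (S → ℂ) := RingHom.compLeft (Int.castRingHom ℂ) S
  have hc : ∀ f : S → ℤ, c f = fun y => (f y : ℂ) := fun _ => rfl
  have key : ∀ T : Finset S, ∃ r, c r ∈ R ∧ ∏ x ∈ T, (1 - F x) = 1 - r := by
    intro T
    induction T using Finset.induction_on with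
    | empty => exact ⟨0, by rw [map_zero]; exact R.zero_mem, by simp⟩
    | insert a T ha ih =>
      obtain ⟨r, hr, e⟩ := ih
      refine ⟨r + F a - F a * r, ?_, ?_⟩
      · rw [map_sub, map_add, map_mul]
        exact R.sub_mem (R.add_mem hr (hFR a)) (hmul _ (hFR a) _ hr)
      · rw [Finset.prod_insert ha, e]
        ring
  obtain ⟨r, hr, e⟩ := key Finset.univ
  have hodd : ∀ y, Odd (r y) := fun y => by
    have h1 := congrFun e y
    rw [Finset.prod_apply] at h1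
    have h2 : Even (1 - r y) := by
      have h3 : (1 - F y) y ∣ ∏ x, (1 - F x) y := Finset.dvd_prod_of_mem _ (Finset.mem_univ y)
      rw [h1] at h3
      exact (odd_one.sub_odd (hF y)).trans_dvd h3
    rw [← sub_sub_cancel 1 (r y)]
    exact odd_one.sub_even h2
  have key2 : ∀ T : Finset S, ∃ j, c j ∈ R ∧ ∃ m : ℤ, Odd m ∧
      ∏ y ∈ T, (r - fun _ => r y) = j + fun _ => m := by
    intro T
    induction T using Finset.induction_on with
    | empty => exact ⟨0, by rw [map_zero]; exact R.zero_mem, 1, odd_one, by ext; simp⟩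
    | insert a T ha ih =>
      obtain ⟨j, hj, m, hm, e⟩ := ih
      refine ⟨r * j + m • r - r a • j, ?_, -r a * m, (hodd a).neg.mul hm, ?_⟩
      · rw [map_sub, map_add, map_mul, map_zsmul, map_zsmul]
        exact R.sub_mem (R.add_mem (hmul _ hr _ hj) (R.zsmul_mem hr _)) (R.zsmul_mem hj _)
      · rw [Finset.prod_insert ha, e]
        ext y
        simp
        ring
  obtain ⟨j, hj, m, hm, e2⟩ := key2 Finset.univ
  refine ⟨m, hm, ?_⟩
  have h0 : ∏ y : S, (r - fun _ => r y) = 0 := by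
    ext y
    rw [Finset.prod_apply]
    exact Finset.prod_eq_zero (Finset.mem_univ y) (by simp)
  rw [h0] at e2
  have h1 : (fun _ => m) = -j := by linear_combination -e2
  have h2 := R.neg_mem hj
  rw [← map_neg, ← h1] at h2
  exact h2

theorem exists_idem_exp (G : Type*) [Group G] [Finite G] :
    ∃ e : ℕ, e ≠ 0 ∧ ∀ g : G, (g ^ 2 ^ e) ^ 2 ^ e = g ^ 2 ^ e := by
  obtain ⟨k, m, hm, ho⟩ := Nat.exists_eq_two_pow_mul_odd (Nat.card_pos (α := G)).ne'
  have h0 : 0 < m.totient := Nat.totient_pos.2 hm.pos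
  have h1 : 2 ^ (m.totient * (k + 1)) ≡ 1 [MOD m] := by
    rw [pow_mul]
    simpa using (Nat.ModEq.pow_totient (Nat.coprime_two_left.2 hm)).pow (k + 1)
  refine ⟨m.totient * (k + 1), by positivity, fun g => ?_⟩
  obtain ⟨d, hd⟩ : 2 ^ k ∣ 2 ^ (m.totient * (k + 1)) := pow_dvd_pow _ (by nlinarith)
  rw [← pow_mul, pow_eq_pow_iff_modEq]
  refine Nat.ModEq.of_dvd (orderOf_dvd_natCard g) ?_
  have h2 := (h1.mul_left d).mul_left' (2 ^ k)
  rw [← mul_assoc, ← hd, mul_one, ← hd] at h2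
  rwa [ho]

section group

variable {G : Type u} [Group G]

theorem exists_hom_ker [Finite G] (a : G) (B : Subgroup G) (E : ℕ) (haE : a ^ E = a)
    (hB : ∀ b ∈ B, b ^ E = 1) (hc : ∀ b ∈ B, Commute a b) :
    ∃ (H : Subgroup G) (lam : H →* ℂˣ), a ∈ H ∧ B ≤ H ∧ H ≤ Subgroup.zpowers a ⊔ B ∧
      (∀ h : H, lam h = 1 ↔ (h : G) ∈ B) ∧
      ∀ t : G, t * a * t⁻¹ = a⁻¹ → (∀ b ∈ B, t * b * t⁻¹ ∈ B) →
        ∀ h : H, ∃ hh : t * h * t⁻¹ ∈ H, lam ⟨_, hh⟩ = (lam h)⁻¹ := by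
  let H : Subgroup G :=
    { carrier := {h | ∃ i : ℤ, ∃ b ∈ B, h = a ^ i * b}
      one_mem' := ⟨0, 1, B.one_mem, by simp⟩
      mul_mem' := by
        rintro _ _ ⟨i, b, hb, rfl⟩ ⟨j, c, hc', rfl⟩
        refine ⟨i + j, b * c, B.mul_mem hb hc', ?_⟩
        rw [zpow_add, mul_assoc, mul_assoc, ← mul_assoc b, ← ((hc b hb).zpow_left j).eq, mul_assoc]
      inv_mem' := by
        rintro _ ⟨i, b, hb, rfl⟩
        refine ⟨-i, b⁻¹, B.inv_mem hb, ?_⟩
        rw [mul_inv_rev, ← zpow_neg, ((hc b hb).inv_right.zpow_left _).eq] }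
  have hpow : ∀ (i : ℤ) (b : G), b ∈ B → (a ^ i * b) ^ E = a ^ i := fun i b hb => by
    rw [((hc b hb).zpow_left i).mul_pow, hB b hb, mul_one, ← zpow_natCast, ← zpow_mul, mul_comm,
      zpow_mul, zpow_natCast, haE]
  let π : H →* Subgroup.zpowers a := MonoidHom.mk' (fun h => ⟨h ^ E, by
      obtain ⟨_, i, b, hb, rfl⟩ := h
      exact ⟨i, (hpow i b hb).symm⟩⟩) (by
    rintro ⟨_, i, b, hb, rfl⟩ ⟨_, j, c, hc', rfl⟩
    refine Subtype.ext ?_
    show (a ^ i * b * (a ^ j * c)) ^ E = (a ^ i * b) ^ E * (a ^ j * c) ^ E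
    rw [mul_assoc, ← mul_assoc b, ← ((hc b hb).zpow_left j).eq, mul_assoc, ← mul_assoc,
      ← zpow_add, hpow _ _ (B.mul_mem hb hc'), hpow _ _ hb, hpow _ _ hc', zpow_add])
  haveI : NeZero (Nat.card (Subgroup.zpowers a)) := ⟨Nat.card_pos.ne'⟩
  let e : Subgroup.zpowers a ≃* rootsOfUnity (Nat.card (Subgroup.zpowers a)) ℂ :=
    mulEquivOfCyclicCardEq (Complex.card_rootsOfUnity _).symm
  refine ⟨H, ((rootsOfUnity _ ℂ).subtype.comp e.toMonoidHom).comp π,
    ⟨1, 1, B.one_mem, by simp⟩, fun b hb => ⟨0, b, hb, by simp⟩, ?_, ?_, ?_⟩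
  · rintro _ ⟨i, b, hb, rfl⟩
    exact Subgroup.mul_mem_sup ⟨i, rfl⟩ hb
  · rintro ⟨_, i, b, hb, rfl⟩
    simp only [MonoidHom.comp_apply, Subgroup.coe_subtype, OneMemClass.coe_eq_one,
      MulEquiv.coe_toMonoidHom, EmbeddingLike.map_eq_one_iff]
    rw [Subtype.ext_iff]
    show (a ^ i * b) ^ E = 1 ↔ _
    constructor
    · intro h
      rw [hpow i b hb] at h
      simpa [h] using hb
    · exact hB _
  · rintro t ht htB ⟨_, i, b, hb, rfl⟩
    have h1 : t * (a ^ i * b) * t⁻¹ = a ^ (-i) * (t * b * t⁻¹) := by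
      rw [zpow_neg, ← inv_zpow, ← ht, conj_zpow]
      group
    refine ⟨⟨-i, _, htB b hb, h1⟩, ?_⟩
    rw [MonoidHom.comp_apply, MonoidHom.comp_apply _ π, ← map_inv]
    congr 1
    refine Subtype.ext ?_
    show (t * (a ^ i * b) * t⁻¹) ^ E = ((a ^ i * b) ^ E)⁻¹
    rw [h1, hpow _ _ (htB b hb), hpow _ _ hb, zpow_neg]

variable [Fintype G]

theorem conj_indFun_of_inv (K : Subgroup G) (θ : K → ℂ) (t : G)
    (ht : ∀ z, extendByZero K θ (t * z * t⁻¹) = conj (extendByZero K θ z)) (g : G) :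
    (indFun K θ g).im = 0 := by
  rw [← Complex.conj_eq_iff_im, indFun_apply, map_mul, map_sum, map_inv₀, map_natCast]
  congr 1
  refine Fintype.sum_equiv (Equiv.mulRight t⁻¹) _ _ fun y => ?_
  rw [← ht]
  simp [mul_assoc]

/-- the number of conjugates in the coset `a B` -/
noncomputable def cnt (a : G) (B : Subgroup G) (g : G) : ℕ :=
  Nat.card {y : G // a⁻¹ * (y⁻¹ * g * y) ∈ B}

theorem card_dvd_cnt {a : G} {B : Subgroup G} (hc : ∀ b ∈ B, Commute a b) (g : G) :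
    Nat.card B ∣ cnt a B g := by
  let Y : Set G := {y | a⁻¹ * (y⁻¹ * g * y) ∈ B}
  have h1 : QuotientGroup.mk ⁻¹' ((QuotientGroup.mk : G → G ⧸ B) '' Y) = Y := by
    refine Set.Subset.antisymm ?_ (Set.subset_preimage_image _ _)
    rintro y ⟨z, hz, hzy⟩
    have hb := QuotientGroup.eq.1 hzy
    have h2 := B.mul_mem (B.mul_mem (B.inv_mem hb) hz) hb
    rw [← mul_assoc (z⁻¹ * y)⁻¹, ← (hc _ hb).inv_inv.eq] at h2
    simpa [Y, mul_assoc] using h2
  have h2 := QuotientGroup.card_preimage_mk B ((QuotientGroup.mk : G → G ⧸ B) '' Y)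
  rw [h1] at h2
  exact ⟨_, h2⟩

theorem sum_indFun_eq_cnt {a : G} {B H : Subgroup G} (lam : H →* ℂˣ) (ha : a ∈ H) (hBH : B ≤ H)
    (hker : ∀ h : H, lam h = 1 ↔ (h : G) ∈ B) (g : G) :
    (Nat.card B : ℂ) * (∑ k ∈ Finset.range lam.ker.index, (((lam ⟨a, ha⟩)⁻¹ ^ k : ℂˣ) : ℂ) •
      indFun H (fun h => ((lam ^ k) h : ℂ))) g = cnt a B g := by
  classical
  have h1 : Nat.card H = Nat.card B * lam.ker.index := by
    rw [← lam.ker.card_mul_index]
    congr 1
    have : lam.ker = B.subgroupOf H := Subgroup.ext fun h => hker h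
    rw [this, Nat.card_congr (Subgroup.subgroupOfEquivOfLe hBH).toEquiv]
  have hm0 : (lam.ker.index : ℂ) ≠ 0 := Nat.cast_ne_zero.2 Subgroup.FiniteIndex.index_ne_zero
  have h2 : ∀ z, extendByZero H (∑ k ∈ Finset.range lam.ker.index,
      (((lam ⟨a, ha⟩)⁻¹ ^ k : ℂˣ) : ℂ) • fun h => ((lam ^ k) h : ℂ)) z =
      if a⁻¹ * z ∈ B then (lam.ker.index : ℂ) else 0 := by
    intro z
    by_cases hz : z ∈ H
    · rw [ebz_of_mem H _ hz, Finset.sum_apply]
      have h3 : ∀ k, ((((lam ⟨a, ha⟩)⁻¹ ^ k : ℂˣ) : ℂ) • fun h => ((lam ^ k) h : ℂ)) ⟨z, hz⟩ =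
          (lam ((⟨a, ha⟩ : H)⁻¹ * ⟨z, hz⟩) : ℂ) ^ k := fun k => by
        simp [mul_pow]
      simp only [h3]
      have h4 : lam ((⟨a, ha⟩ : H)⁻¹ * ⟨z, hz⟩) = 1 ↔ a⁻¹ * z ∈ B := hker _
      generalize ((⟨a, ha⟩ : H)⁻¹ * ⟨z, hz⟩) = w at h4 ⊢
      split_ifs with h5
      · simp [h4.2 h5]
      · have h6 : (lam w : ℂ) ≠ 1 := fun e => h5 (h4.1 (Units.ext e))
        have h7 : (lam w : ℂ) ^ lam.ker.index = 1 := by
          rw [← Units.val_pow_eq_pow_val, ← map_pow, (MonoidHom.mem_ker).1 (lam.ker.pow_index_mem w),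
            Units.val_one]
        rw [geom_sum_eq h6, h7, sub_self, zero_div]
    · rw [ebz_of_not_mem H _ hz, if_neg fun h => hz (by simpa using H.mul_mem ha (hBH h))]
  simp only [← indFun_smul]
  rw [← indFun_sum, indFun_apply]
  simp only [h2]
  rw [← Finset.sum_filter, Finset.sum_const, nsmul_eq_mul, h1, cnt,
    Nat.card_eq_fintype_card (α := {y : G // a⁻¹ * (y⁻¹ * g * y) ∈ B}), Fintype.card_subtype]
  have hB0 := card_ne_zero' B
  push_cast
  field_simp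

omit [Fintype G] in
theorem pow_of_mem_coset {a z : G} {B : Subgroup G} {E : ℕ} (haE : a ^ E = a)
    (hB : ∀ b ∈ B, b ^ E = 1) (hc : ∀ b ∈ B, Commute a b) (h : a⁻¹ * z ∈ B) : z ^ E = a := by
  rw [← mul_inv_cancel_left a z, (hc _ h).mul_pow, haE, hB _ h, mul_one]

theorem cnt_self {x a : G} {e : ℕ} (ha : a = x ^ 2 ^ e) (haE : a ^ 2 ^ e = a) {C : Subgroup G}
    (hCdef : C = Subgroup.centralizer {a}) (P : Sylow 2 C)
    (hB : ∀ b ∈ (P : Subgroup C).map C.subtype, b ^ 2 ^ e = 1) :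
    ∃ n, Odd n ∧ cnt a ((P : Subgroup C).map C.subtype) x =
      Nat.card ((P : Subgroup C).map C.subtype) * n := by
  haveI : Fact (Nat.Prime 2) := ⟨Nat.prime_two⟩
  haveI := Fintype.ofFinite C
  have hC : ∀ {y}, y ∈ C ↔ Commute a y := fun {y} => by
    rw [hCdef, Subgroup.mem_centralizer_singleton_iff]
    exact ⟨fun h => h.symm, fun h => h.symm⟩
  have hax : Commute a x := ha ▸ (Commute.refl x).pow_left _
  let u : C := ⟨a⁻¹ * x, hC.2 ((Commute.refl a).inv_right.mul_right hax)⟩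
  have hu : u ^ 2 ^ e = 1 := Subtype.ext (by
    show (a⁻¹ * x) ^ 2 ^ e = 1
    rw [hax.inv_left.mul_pow, inv_pow, haE, ← ha, inv_mul_cancel])
  refine ⟨Nat.card (MulAction.fixedBy (C ⧸ (P : Subgroup C)) u), ?_, ?_⟩
  · have h1 := card_fixedBy_pow_modEq (X := C ⧸ (P : Subgroup C)) 2 e u
    rw [hu, MulAction.fixedBy_one_eq_univ, Nat.card_univ] at h1
    have h2 : ¬ 2 ∣ Nat.card (C ⧸ (P : Subgroup C)) := P.not_dvd_index
    rw [Nat.odd_iff]
    unfold Nat.ModEq at h1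
    omega
  · rw [Subgroup.card_map_of_injective C.subtype_injective, card_mul_card_fixedBy, cnt]
    have h1 : ∀ y ∈ C, a⁻¹ * (y⁻¹ * x * y) = y⁻¹ * (a⁻¹ * x) * y := fun y hy => by
      rw [← mul_assoc, ← mul_assoc, (hC.1 hy).inv_inv.eq]
      simp only [mul_assoc]
    have h2 : ∀ y, a⁻¹ * (y⁻¹ * x * y) ∈ (P : Subgroup C).map C.subtype → y ∈ C := fun y hy => by
      have h3 := pow_of_mem_coset haE hB (by rintro _ ⟨b, -, rfl⟩; exact hC.1 b.2) hy
      have h4 : (y⁻¹ * x * y) ^ 2 ^ e = y⁻¹ * a * y := by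
        simpa [ha] using conj_pow (a := y⁻¹) (b := x) (i := 2 ^ e)
      rw [h4, mul_assoc, inv_mul_eq_iff_eq_mul] at h3
      exact hC.2 h3
    refine Nat.card_congr
      { toFun := fun y => ⟨⟨y.1, h2 _ y.2⟩, ?_⟩
        invFun := fun y => ⟨y.1.1, ⟨_, y.2, (h1 _ y.1.2).symm⟩⟩
        left_inv := fun _ => rfl
        right_inv := fun _ => rfl }
    obtain ⟨b, hb, hb'⟩ := y.2
    rw [h1 _ (h2 _ y.2)] at hb'
    have h5 : b = (⟨y.1, h2 _ y.2⟩ : C)⁻¹ * u * ⟨y.1, h2 _ y.2⟩ := Subtype.ext hb'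
    exact h5 ▸ hb

/-- the subgroup of elements centralizing or inverting `a` -/
def pmN (a : G) : Subgroup G where
  carrier := {g | g * a * g⁻¹ = a ∨ g * a * g⁻¹ = a⁻¹}
  one_mem' := Or.inl (by simp)
  mul_mem' := by
    intro g h hg hh
    have h1 : g * h * a * (g * h)⁻¹ = g * (h * a * h⁻¹) * g⁻¹ := by group
    have h2 : g * a⁻¹ * g⁻¹ = (g * a * g⁻¹)⁻¹ := by group
    show _ ∨ _
    rw [h1]
    rcases hh with hh | hh <;> rcases hg with hg | hg <;> simp [hh, h2, hg]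
  inv_mem' := by
    rintro g (hg | hg)
    · left
      conv_lhs => rw [← hg]
      group
    · right
      have h2 : a = (g * a * g⁻¹)⁻¹ := by rw [hg, inv_inv]
      conv_lhs => rw [h2]
      group

theorem exists_sylow_pair (a : G) : ∃ (P : Sylow 2 (Subgroup.centralizer {a})) (B : Subgroup G),
    IsPGroup 2 B ∧ B ≤ pmN a ∧
    (∀ b, b ∈ (P : Subgroup _).map (Subgroup.centralizer {a}).subtype ↔ b ∈ B ∧ Commute a b) ∧
    ((∃ g : G, g * a * g⁻¹ = a⁻¹) → ∃ t ∈ B, t * a * t⁻¹ = a⁻¹) := by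
  haveI : Fact (Nat.Prime 2) := ⟨Nat.prime_two⟩
  set C := Subgroup.centralizer {a}
  have hC : ∀ {y}, y ∈ C ↔ y * a * y⁻¹ = a := fun {y} =>
    Subgroup.mem_centralizer_singleton_iff.trans mul_inv_eq_iff_eq_mul.symm
  have hCN : C ≤ pmN a := fun y hy => Or.inl (hC.1 hy)
  obtain ⟨P⟩ : Nonempty (Sylow 2 C) := inferInstance
  obtain ⟨S, hS⟩ := (P.isPGroup'.map (Subgroup.inclusion hCN)).exists_le_sylow
  have hB : IsPGroup 2 ((S : Subgroup (pmN a)).map (pmN a).subtype) := S.isPGroup'.map _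
  refine ⟨P, (S : Subgroup (pmN a)).map (pmN a).subtype, hB, Subgroup.map_subtype_le _, ?_, ?_⟩
  · have h1 : ((S : Subgroup (pmN a)).map (pmN a).subtype).subgroupOf C = P :=
      P.is_maximal' (hB.comap_of_injective _ C.subtype_injective) fun y hy =>
        ⟨_, hS ⟨y, hy, rfl⟩, rfl⟩
    intro b
    rw [← h1, Subgroup.subgroupOf_map_subtype, Subgroup.mem_inf,
      Subgroup.mem_centralizer_singleton_iff]
    exact and_congr_right fun _ => ⟨fun h => h.symm, fun h => h.symm⟩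
  · rintro ⟨g, hg⟩
    by_contra hcon
    push Not at hcon
    have hne : a ≠ a⁻¹ := by simpa using hcon 1 (one_mem _)
    have h1 : (C.subgroupOf (pmN a)).index = 2 := by
      refine Subgroup.index_eq_two_iff.2 ⟨⟨g, Or.inr hg⟩, fun b => ?_⟩
      have h2 : (b : G) * g * a * ((b : G) * g)⁻¹ = ((b : G) * a * (b : G)⁻¹)⁻¹ := by
        have h3 : (b : G) * g * a * ((b : G) * g)⁻¹ = b * (g * a * g⁻¹) * (b : G)⁻¹ := by group
        rw [h3, hg]
        group
      rw [Subgroup.mem_subgroupOf, Subgroup.mem_subgroupOf, hC, hC, Subgroup.coe_mul, h2]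
      rcases b.2 with h | h <;> simp [h, hne, hne.symm]
    have h2 : (S : Subgroup (pmN a)) ≤ C.subgroupOf (pmN a) := fun y hy =>
      hC.2 (y.2.resolve_right (hcon y ⟨y, hy, rfl⟩))
    exact S.not_dvd_index (h1.symm.dvd.trans (Subgroup.index_dvd_of_le h2))

end group

theorem wb : WBStmt.{u} := by
  intro G _ _ h1 h2 χ hχ hr
  classical
  haveI := Fintype.ofFinite G
  by_contra hno
  have hχc := cf_of_isIrr hχ
  let I : Set (G → ℂ) := {f | f ∈ RG G ∧ f * χ ∈ RG G}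
  let J : AddSubgroup (G → ℂ) :=
    AddSubgroup.closure {f | ∃ z : ℂ, IsIntegral ℤ z ∧ ∃ i ∈ I, f = z • i}
  have hJmul : ∀ f ∈ J, ∀ g ∈ J, f * g ∈ J := by
    intro f hf g hg
    induction hf, hg using AddSubgroup.closure_induction₂ with
    | mem f g hf hg =>
      obtain ⟨z, hz, i, hi, rfl⟩ := hf
      obtain ⟨w, hw, j, hj, rfl⟩ := hg
      refine AddSubgroup.subset_closure ⟨z * w, hz.mul hw, i * j, ⟨RG.mul hi.1 hj.1, ?_⟩, ?_⟩
      · rw [mul_assoc]
        exact RG.mul hi.1 hj.2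
      · rw [smul_mul_smul_comm]
    | zero_left => simp
    | zero_right => simp
    | add_left a b c _ _ _ h1 h2 => rw [add_mul]; exact add_mem h1 h2
    | add_right a b c _ _ _ h1 h2 => rw [mul_add]; exact add_mem h1 h2
    | neg_left a b _ _ h => rw [neg_mul]; exact neg_mem h
    | neg_right a b _ _ h => rw [mul_neg]; exact neg_mem h
  have hJ2 : ∀ f ∈ J, IsIntegral ℤ (classInner (f * χ) χ / 2) := by
    intro f hf
    induction hf using AddSubgroup.closure_induction with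
    | mem f hf =>
      obtain ⟨z, hz, i, hi, rfl⟩ := hf
      obtain ⟨n, hn⟩ := exists_int_inner (RG.isGen hi.2) (isGen_of_isIrr hχ)
      rcases Int.even_or_odd n with ⟨k, hk⟩ | ho
      · rw [smul_mul_assoc, Ind.inner_smul_left, hn, hk]
        have h3 : z * ((k + k : ℤ) : ℂ) / 2 = z * algebraMap ℤ ℂ k := by
          simp
          ring
        rw [h3]
        exact hz.mul isIntegral_algebraMap
      · exact absurd (ro_of_odd_inner hi.2 hχ hr ho hn) hno
    | zero => simpa [Ind.inner_zero_left] using isIntegral_zero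
    | add a b _ _ ha hb =>
      rw [add_mul, Ind.inner_add_left, add_div]
      exact ha.add hb
    | neg a _ ha =>
      rw [neg_mul, Ind.inner_neg_left, neg_div]
      exact ha.neg
  have hI1 : ∀ η : G → ℂ, IsGeneralizedCharacter G η → (fun g => η g + conj (η g)) ∈ I := by
    intro η hη
    refine ⟨rg_add_conj hη, ?_⟩
    convert rg_add_conj (isGen_mul hη (isGen_of_isIrr hχ)) using 1
    ext g
    simp [Complex.conj_eq_iff_im.2 (hr g), add_mul]
  have hI2 : ∀ M : Subgroup G, RR M → ∀ ψ : M → ℂ, IsGeneralizedCharacter M ψ →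
      (∀ g, (ψ g).im = 0) → indFun M ψ ∈ I := by
    intro M hM ψ hψ hψr
    refine ⟨RG.ind M (hM.rg hψ hψr), ?_⟩
    rw [← indFun_mul_res M ψ hχc]
    exact RG.ind M (hM.rg (isGen_mul hψ (isGen_restrict (isGen_of_isIrr hχ) M)) fun g => by
      simp [hψr, hr])
  obtain ⟨e, he0, he⟩ := exists_idem_exp G
  have hE : Odd (2 ^ e - 1) := Nat.Even.sub_odd Nat.one_le_two_pow
    ((Nat.even_pow' he0).2 even_two) odd_one
  have hodd : ∀ g : G, Odd (orderOf (g ^ 2 ^ e)) := fun g => by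
    refine hE.of_dvd_nat (orderOf_dvd_of_pow_eq_one ?_)
    have h3 := he g
    generalize g ^ 2 ^ e = a at h3
    rw [← Nat.sub_add_cancel (Nat.one_le_two_pow (n := e)), pow_succ] at h3
    exact mul_right_cancel (h3.trans (one_mul a).symm)
  have h2el : ∀ B : Subgroup G, IsPGroup 2 B → ∀ b ∈ B, b ^ 2 ^ e = 1 := by
    intro B hB b hb
    obtain ⟨k, hk⟩ := hB ⟨b ^ 2 ^ e, B.pow_mem hb _⟩
    have h3 : orderOf (b ^ 2 ^ e) ∣ 2 ^ k := orderOf_dvd_of_pow_eq_one (congrArg Subtype.val hk)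
    exact orderOf_eq_one_iff.1
      (((Nat.coprime_two_right.2 (hodd b)).pow_right k).eq_one_of_dvd h3)
  obtain ⟨m, hm, hmJ⟩ := odd_mem_of_local J hJmul fun x => by
    obtain ⟨P, B, hB, hBN, hP, hreal⟩ := exists_sylow_pair (x ^ 2 ^ e)
    have hB0 := fun b hb => h2el B hB b ((hP b).1 hb).1
    have hc := fun b hb => ((hP b).1 hb).2
    obtain ⟨n, hn, hcnt⟩ := cnt_self rfl (he x) rfl P hB0
    have haE := he x
    have hao := hodd x
    have hxa : ∀ y, (y⁻¹ * x⁻¹ * y) ^ 2 ^ e = y⁻¹ * (x ^ 2 ^ e)⁻¹ * y := fun y => by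
      simpa using conj_pow (a := y⁻¹) (b := x⁻¹) (i := 2 ^ e)
    have hB0B : (P : Subgroup _).map (Subgroup.centralizer {x ^ 2 ^ e}).subtype ≤ B :=
      fun b hb => ((hP b).1 hb).1
    generalize (P : Subgroup _).map (Subgroup.centralizer {x ^ 2 ^ e}).subtype = B0 at *
    generalize x ^ 2 ^ e = a at *
    obtain ⟨H, lam, haH, hBH, hHle, hker, hinv⟩ := exists_hom_ker a B0 _ haE hB0 hc
    choose N hN using card_dvd_cnt hc
    have hF : ∀ g, (∑ k ∈ Finset.range lam.ker.index, (((lam ⟨a, haH⟩)⁻¹ ^ k : ℂˣ) : ℂ) •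
        indFun H (fun h => ((lam ^ k) h : ℂ))) g = N g := fun g => by
      have h3 := sum_indFun_eq_cnt lam haH hBH hker g
      rw [hN, Nat.cast_mul] at h3
      exact mul_left_cancel₀ (card_ne_zero' B0) h3
    have hNx : N x = n := Nat.eq_of_mul_eq_mul_left Nat.card_pos ((hN x).symm.trans hcnt)
    have hint : ∀ k, IsIntegral ℤ (((lam ⟨a, haH⟩)⁻¹ ^ k : ℂˣ) : ℂ) := fun k => by
      rw [← map_inv, ← map_pow]
      exact isIntegral_of_isChar (isChar_of_isIrr (isIrr_unitsHom lam)) _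
    have hgen : ∀ k, IsGeneralizedCharacter G (indFun H (fun h => ((lam ^ k) h : ℂ))) := fun k =>
      isGen_indFun _ (isGen_of_isIrr (isIrr_unitsHom _))
    by_cases hcase : ∃ g : G, g * a * g⁻¹ = a⁻¹
    · obtain ⟨t, htB, ht⟩ := hreal hcase
      obtain ⟨M, hM, haM, hBM⟩ : ∃ M : Subgroup G, RR M ∧ a ∈ M ∧ B ≤ M := by
        by_cases ha1 : a = 1
        · obtain ⟨M, hM, hBM⟩ := h1 B hB
          exact ⟨M, hM, ha1 ▸ M.one_mem, hBM⟩
        · exact h2 a B hao ha1 hB hBN ⟨t, htB, ht⟩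
      have hHM : H ≤ M := hHle.trans (sup_le ((Subgroup.zpowers_le).2 haM) (hB0B.trans hBM))
      have hnorm : ∀ s ∈ B, ∀ b ∈ B0, s * b * s⁻¹ ∈ B0 := by
        intro s hs b hb
        refine (hP _).2 ⟨B.mul_mem (B.mul_mem hs (hB0B hb)) (B.inv_mem hs), ?_⟩
        have h3 : Commute (s⁻¹ * a * s⁻¹⁻¹) b := by
          rcases hBN (B.inv_mem hs) with h | h
          · rw [h]; exact hc b hb
          · rw [h]; exact (hc b hb).inv_left
        simpa [mul_assoc] using h3.conj s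
      have ht' : t⁻¹ * a * t⁻¹⁻¹ = a⁻¹ := by
        have h3 : a = (t * a * t⁻¹)⁻¹ := by rw [ht, inv_inv]
        conv_lhs => rw [h3]
        group
      refine ⟨fun g => N g, ?_, by simpa [hNx] using hn⟩
      simp only [Int.cast_natCast, ← hF]
      refine J.sum_mem fun k _ => AddSubgroup.subset_closure ⟨_, hint k, _, ?_, rfl⟩
      haveI := Fintype.ofFinite M
      rw [← indFun_trans H M hHM]
      refine hI2 M hM _ (isGen_indFun _ (isGen_of_isIrr (isIrr_unitsHom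
        ((lam ^ k).comp (Subgroup.subgroupOfEquivOfLe hHM).toMonoidHom))))
        (conj_indFun_of_inv _ _ ⟨t, hBM htB⟩ fun z => ?_)
      by_cases hz : (z : G) ∈ H
      · obtain ⟨hh, h3⟩ := hinv t ht (hnorm t htB) ⟨z, hz⟩
        rw [ebz_of_mem _ _ (show z ∈ H.subgroupOf M from hz),
          ebz_of_mem _ _ (show (⟨t, hBM htB⟩ : M) * z * (⟨t, hBM htB⟩ : M)⁻¹ ∈ H.subgroupOf M
            from hh)]
        refine Eq.trans ?_ (apply_inv_of_isChar (isChar_of_isIrr (isIrr_unitsHom (lam ^ k)))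
          ⟨z, hz⟩)
        rw [map_inv, MonoidHom.pow_apply, MonoidHom.pow_apply, ← inv_pow, ← h3]
        rfl
      · rw [ebz_of_not_mem _ _ (show z ∉ H.subgroupOf M from hz), ebz_of_not_mem, map_zero]
        intro hh
        obtain ⟨h3, -⟩ := hinv t⁻¹ ht' (hnorm _ (B.inv_mem htB)) ⟨_, hh⟩
        exact hz (by simpa [mul_assoc] using h3)
    · push Not at hcase
      have hN0 : N x⁻¹ = 0 := by
        haveI : IsEmpty {y : G // a⁻¹ * (y⁻¹ * x⁻¹ * y) ∈ B0} := ⟨fun ⟨y, hy⟩ => by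
          have h3 := pow_of_mem_coset haE hB0 hc hy
          rw [hxa] at h3
          refine hcase y ?_
          conv_lhs => rw [← h3]
          group⟩
        have h3 := hN x⁻¹
        rw [cnt, Nat.card_of_isEmpty] at h3
        exact (mul_eq_zero.1 h3.symm).resolve_left Nat.card_pos.ne'
      refine ⟨fun g => N g + N g⁻¹, ?_, by simpa [hNx, hN0] using hn⟩
      have h3 : (fun g => (((N g : ℤ) + N g⁻¹ : ℤ) : ℂ)) = ∑ k ∈ Finset.range lam.ker.index,
          (((lam ⟨a, haH⟩)⁻¹ ^ k : ℂˣ) : ℂ) • fun g => indFun H (fun h => ((lam ^ k) h : ℂ)) g +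
            conj (indFun H (fun h => ((lam ^ k) h : ℂ)) g) := by
        ext g
        push_cast
        rw [← hF, ← hF]
        simp only [Finset.sum_apply, Pi.smul_apply, smul_eq_mul, mul_add, Finset.sum_add_distrib,
          apply_inv_of_isGen (hgen _)]
        push_cast
        rfl
      rw [h3]
      exact J.sum_mem fun k _ => AddSubgroup.subset_closure ⟨_, hint k, _, hI1 _ (hgen k), rfl⟩
  have h3 := hJ2 _ hmJ
  have h4 : ((fun _ => (m : ℂ)) * χ) = (m : ℂ) • χ := rfl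
  rw [h4, Ind.inner_smul_left, inner_self_of_isIrr hχ, mul_one] at h3
  have h5 : (2 : ℤ) ∣ m := int_dvd_of_isIntegral_div two_ne_zero (by simpa using h3)
  exact (Int.not_even_iff_odd.2 hm) (even_iff_two_dvd.2 h5)

end Cfsg.Agent.FS
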