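import Cfsg.Agent.Lib.FS.Main2
import Cfsg.Agent.Lib.FS.Cl
import Cfsg.Agent.Lib.FS.WB
import Cfsg.Agent.Lib.FS.Iso
import Cfsg.Agent.Lib.FS.Sp

/-!
# Orthogonal and symplectic groups in characteristic 2 are totally orthogonal
-/

set_option autoImplicit false

namespace Cfsg.Agent.FS

open Cfsg

universe u

theorem main : MainStmt.{u} := main_of cliff_rr cliff_re wb heis

theorem fs_surj {G H : Type u} [Group G] [Group H] [Finite G] (f : G →* H)
    (hf : Function.Surjective f) (h1 : RR G) (h2 : Re G) (χ : IrrCharacter H) :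
    ∑ᶠ g : H, (χ : H → ℂ) (g * g) = (Nat.card H : ℂ) :=
  haveI := Finite.of_surjective f hf
  fs H (rr_surj f hf h1) (re_surj f hf h2) χ

theorem fs_surj' {G H : Type u} [Group G] [Group H] [Finite G] (f : G →* H)
    (hf : Function.Surjective f) (h1 : RR G) (h2 : Re G) (χ : IrrCharacter H) :
    (Nat.card H : ℂ)⁻¹ * ∑ᶠ g : H, (χ : H → ℂ) (g * g) = 1 := by
  haveI := Finite.of_surjective f hf
  rw [fs_surj f hf h1 h2, inv_mul_cancel₀ (Char.card_ne_zero_complex H)]

end Cfsg.Agent.FS
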