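import Cfsg.Agent.Lib.FS.Defs

/-!
# Quadratic spaces in characteristic 2: basic geometry
-/

set_option autoImplicit false
set_option linter.unusedSectionVars false
set_option linter.style.haveILetI false

namespace Cfsg.Agent.FS

open Module

section two
variable {F V : Type*} [Field F] [CharP F 2] [AddCommGroup V] [Module F V]

variable (F) in
include F in
theorem vadd_self (x : V) : x + x = 0 := by
  rw [← two_smul F, CharTwo.two_eq_zero, zero_smul]

variable (F) in
include F in
theorem vneg (x : V) : -x = x := neg_eq_of_add_eq_zero_left (vadd_self F x)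

variable (F) in
include F in
theorem vsub (x y : V) : x - y = x + y := by rw [sub_eq_add_neg, vneg F]

variable (F) in
include F in
theorem veq_of_add {x y : V} (h : x + y = 0) : x = y := by
  rw [← vsub F] at h; exact sub_eq_zero.1 h

theorem two_zero : (2 : F) = 0 := CharTwo.two_eq_zero

theorem exists_sq [Finite F] (c : F) : ∃ d : F, d ^ 2 = c :=
  haveI : Fact (Nat.Prime 2) := ⟨Nat.prime_two⟩
  (Finite.injective_iff_surjective.1 (frobenius_inj F 2)) c

/-- a `2`-group acting linearly fixes a nonzero vector -/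
theorem exists_fix [Finite V] {D : Type*} [Group D] (hD : IsPGroup 2 D)
    (ψ : D →* Module.End F V) [Nontrivial V] : ∃ v : V, v ≠ 0 ∧ ∀ d, ψ d v = v := by
  haveI : Fact (Nat.Prime 2) := ⟨Nat.prime_two⟩
  letI : MulAction D V :=
    { smul := fun d v => ψ d v
      one_smul := fun v => show ψ 1 v = v by simp
      mul_smul := fun a b v => show ψ (a * b) v = ψ a (ψ b v) by simp }
  obtain ⟨v, hv0⟩ := exists_ne (0 : V)
  have hc : 2 ∣ Nat.card V := by
    have : addOrderOf v = 2 := addOrderOf_eq_prime (by rw [two_nsmul, vadd_self F]) hv0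
    exact this ▸ addOrderOf_dvd_natCard _
  obtain ⟨b, hb, hb0⟩ := hD.exists_fixed_point_of_prime_dvd_card_of_fixed_point V hc
    (a := 0) fun d => show ψ d 0 = 0 by simp
  exact ⟨b, fun e => hb0 e.symm, fun d => hb d⟩

end two

namespace QS

variable {F V : Type*} [Field F] [AddCommGroup V] [Module F V] (q : QS F V)

theorem symm (x y : V) : q.B x y = q.B y x := by
  have h1 := q.add x y
  have h2 := q.add y x
  rw [add_comm y x] at h2
  linear_combination h2 - h1

@[simp] theorem Q_zero : q.Q 0 = 0 := by simpa using q.smul 0 0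

theorem nd' (x : V) (h : ∀ y, q.B y x = 0) : x = 0 := q.nd x fun y => by rw [q.symm, h]

theorem ext_B {x x' : V} (h : ∀ y, q.B x y = q.B x' y) : x = x' :=
  sub_eq_zero.1 (q.nd _ fun y => by simp [h])

theorem exists_B_one {x : V} (hx : x ≠ 0) : ∃ y, q.B x y = 1 := by
  by_contra h
  push Not at h
  refine hx (q.nd x fun y => ?_)
  by_contra h0
  exact h ((q.B x y)⁻¹ • y) (by simp [h0])

@[simp] theorem self [CharP F 2] (x : V) : q.B x x = 0 := by
  have h1 := q.add x x
  rw [vadd_self F, q.Q_zero, CharTwo.add_self_eq_zero] at h1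
  simpa using h1.symm

variable {q}

@[simp] theorem mul_apply (g h : q.O) (x : V) : (g * h) x = g (h x) := rfl
@[simp] theorem one_apply (x : V) : (1 : q.O) x = x := rfl
@[simp] theorem apply_inv (g : q.O) (x : V) : g (g⁻¹ x) = x := (g : V ≃ₗ[F] V).apply_symm_apply x
@[simp] theorem inv_apply (g : q.O) (x : V) : g⁻¹ (g x) = x := (g : V ≃ₗ[F] V).symm_apply_apply x
@[simp] theorem act_apply (g : q.O) (x : V) : q.act g x = g x := rfl
@[simp] theorem isoQ (g : q.O) (x : V) : q.Q (g x) = q.Q x := g.2 x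

@[ext] theorem O_ext {g h : q.O} (e : ∀ x, g x = h x) : g = h := Subtype.ext (LinearEquiv.ext e)

theorem isoB_of {V' : Type*} [AddCommGroup V'] [Module F V'] {q' : QS F V'} {f : V →ₗ[F] V'}
    (hf : ∀ x, q'.Q (f x) = q.Q x) (x y : V) : q'.B (f x) (f y) = q.B x y := by
  have h1 := q'.add (f x) (f y)
  rw [← map_add, hf, hf, hf, q.add] at h1
  linear_combination -h1

@[simp] theorem isoB (g : q.O) (x y : V) : q.B (g x) (g y) = q.B x y :=
  isoB_of (f := q.act g) g.2 x y

theorem B_left (g : q.O) (x y : V) : q.B (g x) y = q.B x (g⁻¹ y) := by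
  rw [← isoB g x, apply_inv]

theorem B_right (g : q.O) (x y : V) : q.B x (g y) = q.B (g⁻¹ x) y := by
  rw [← isoB g _ y, apply_inv]

variable (q) in
/-- `act` as a homomorphism -/
def actHom : q.O →* Module.End F V where
  toFun := q.act
  map_one' := rfl
  map_mul' _ _ := rfl

@[simp] theorem actHom_apply (g : q.O) : q.actHom g = q.act g := rfl

theorem act_injective : Function.Injective q.act := fun _ _ h =>
  O_ext fun x => LinearMap.congr_fun h x

@[simp] theorem mem_stab {y : V} {g : q.O} : g ∈ q.stab y ↔ g y = y := Iff.rfl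

theorem mem_perp {W : Submodule F V} {y : V} : y ∈ q.perp W ↔ ∀ x ∈ W, q.B x y = 0 := Iff.rfl

@[simp] theorem res_Q {W : Submodule F V} (h : q.NDeg W) (x : W) : (q.res W h).Q x = q.Q x := rfl
@[simp] theorem res_B {W : Submodule F V} (h : q.NDeg W) (x y : W) :
    (q.res W h).B x y = q.B x y := rfl

/-- transport along an isometry -/
def congr {V' : Type*} [AddCommGroup V'] [Module F V'] {q' : QS F V'} (e : V ≃ₗ[F] V')
    (he : ∀ x, q'.Q (e x) = q.Q x) : q.O ≃* q'.O where
  toFun g := ⟨e.symm ≪≫ₗ (g : V ≃ₗ[F] V) ≪≫ₗ e, fun x => by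
    show q'.Q (e (g (e.symm x))) = _
    rw [he, isoQ, ← he, e.apply_symm_apply]⟩
  invFun g := ⟨e ≪≫ₗ (g : V' ≃ₗ[F] V') ≪≫ₗ e.symm, fun x => by
    show q.Q (e.symm (g (e x))) = _
    rw [← he, e.apply_symm_apply, isoQ, he]⟩
  left_inv g := O_ext fun x => by
    show e.symm (e (g (e.symm (e x)))) = _
    simp
  right_inv g := O_ext fun x => by
    show e (e.symm (g (e (e.symm x)))) = _
    simp
  map_mul' g h := O_ext fun x => by
    show e (g (h (e.symm x))) = e (g (e.symm (e (h (e.symm x)))))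
    simp

@[simp] theorem congr_apply {V' : Type*} [AddCommGroup V'] [Module F V'] {q' : QS F V'}
    (e : V ≃ₗ[F] V') (he : ∀ x, q'.Q (e x) = q.Q x) (g : q.O) (x : V) :
    congr e he g (e x) = e (g x) := by
  show e (g (e.symm (e x))) = _
  simp

variable [Finite V]

/-- an isometry from a linear map -/
noncomputable def mkO (f : V →ₗ[F] V) (hf : ∀ x, q.Q (f x) = q.Q x) : q.O :=
  ⟨LinearEquiv.ofInjectiveEndo f ((injective_iff_map_eq_zero f).2 fun x hx =>
    q.nd x fun y => by rw [← isoB_of hf, hx]; simp), hf⟩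

@[simp] theorem mkO_apply (f : V →ₗ[F] V) (hf : ∀ x, q.Q (f x) = q.Q x) (x : V) :
    mkO f hf x = f x := rfl

variable (q) in
theorem exists_dual (f : V →ₗ[F] F) : ∃ y, ∀ x, q.B y x = f x := by
  have h1 : Function.Injective q.B := (injective_iff_map_eq_zero _).2 fun x hx =>
    q.nd x fun y => by simp [hx]
  obtain ⟨y, hy⟩ := (LinearMap.injective_iff_surjective_of_finrank_eq_finrank
    (Subspace.dual_finrank_eq (K := F) (V := V)).symm).1 h1 f
  exact ⟨y, fun x => by rw [hy]⟩

theorem isCompl_perp {W : Submodule F V} (h : q.NDeg W) : IsCompl W (q.perp W) := by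
  refine ⟨Submodule.disjoint_def.2 fun x hx hx' => h x hx fun y hy => by
    rw [q.symm]; exact hx' y hy, codisjoint_iff.2 (eq_top_iff.2 fun x _ => ?_)⟩
  obtain ⟨y, hy⟩ := (q.res W h).exists_dual ((q.B x).domRestrict W)
  refine Submodule.mem_sup.2 ⟨y, y.2, x - y, fun z hz => ?_, by simp⟩
  have := hy ⟨z, hz⟩
  simp only [res_B, LinearMap.domRestrict_apply] at this
  rw [map_sub, q.symm z, q.symm z, this, sub_self]

theorem exists_add_perp {W : Submodule F V} (h : q.NDeg W) (x : V) :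
    ∃ y ∈ W, ∃ z ∈ q.perp W, y + z = x :=
  Submodule.mem_sup.1 ((isCompl_perp h).sup_eq_top ▸ Submodule.mem_top)

theorem ndeg_perp {W : Submodule F V} (h : q.NDeg W) : q.NDeg (q.perp W) := fun x hx hx' =>
  q.nd x fun y => by
    obtain ⟨a, ha, b, hb, rfl⟩ := exists_add_perp h y
    rw [map_add, hx' b hb, q.symm, hx a ha, add_zero]

theorem finrank_add_perp {W : Submodule F V} (h : q.NDeg W) :
    finrank F W + finrank F (q.perp W) = finrank F V :=
  Submodule.finrank_add_eq_of_isCompl (isCompl_perp h)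

theorem inv_mem_of_mem {W : Submodule F V} {g : q.O} (hg : ∀ x ∈ W, g x ∈ W) {x : V}
    (hx : x ∈ W) : g⁻¹ x ∈ W := by
  obtain ⟨y, hy⟩ := Finite.injective_iff_surjective.1
    (show Function.Injective (fun y : W => (⟨g y, hg y y.2⟩ : W)) from fun a b e =>
      Subtype.ext ((g : V ≃ₗ[F] V).injective (congrArg Subtype.val e))) ⟨x, hx⟩
  obtain rfl : g y = x := congrArg Subtype.val hy
  rw [inv_apply]
  exact y.2

theorem perp_inv {W : Submodule F V} {g : q.O} (hg : ∀ x ∈ W, g x ∈ W) :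
    ∀ x ∈ q.perp W, g x ∈ q.perp W := fun x hx y hy => by
  rw [B_right]
  exact hx _ (inv_mem_of_mem hg hy)

/-- restriction of an isometry to an invariant nondegenerate subspace -/
noncomputable def resO {W : Submodule F V} (h : q.NDeg W) (g : q.O) (hg : ∀ x ∈ W, g x ∈ W) :
    (q.res W h).O := mkO ((q.act g).restrict hg) fun x => g.2 x

@[simp] theorem resO_apply {W : Submodule F V} (h : q.NDeg W) (g : q.O) (hg : ∀ x ∈ W, g x ∈ W)
    (x : W) : (resO h g hg x : V) = g x := rfl

/-- `O(W) × O(W^⊥) → O(V)` -/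
noncomputable def sumHom {W : Submodule F V} (h : q.NDeg W) :
    (q.res W h).O × (q.res _ (ndeg_perp h)).O →* q.O where
  toFun p := ⟨(Submodule.prodEquivOfIsCompl _ _ (isCompl_perp h)).symm ≪≫ₗ
      ((p.1 : W ≃ₗ[F] W).prodCongr (p.2 : q.perp W ≃ₗ[F] q.perp W)) ≪≫ₗ
      Submodule.prodEquivOfIsCompl _ _ (isCompl_perp h), fun x => by
    obtain ⟨⟨a, b⟩, rfl⟩ := (Submodule.prodEquivOfIsCompl _ _ (isCompl_perp h)).surjective x
    simp only [LinearEquiv.trans_apply, LinearEquiv.symm_apply_apply, LinearEquiv.prodCongr_apply]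
    simp only [Submodule.coe_prodEquivOfIsCompl', q.add]
    rw [(p.2 b).2 _ (p.1 a).2, b.2 _ a.2]
    exact congrArg₂ (fun s t => s + t + 0) (p.1.2 a) (p.2.2 b)⟩
  map_one' := O_ext fun x => by
    obtain ⟨⟨a, b⟩, rfl⟩ := (Submodule.prodEquivOfIsCompl _ _ (isCompl_perp h)).surjective x
    simp
  map_mul' p p' := O_ext fun x => by
    obtain ⟨⟨a, b⟩, rfl⟩ := (Submodule.prodEquivOfIsCompl _ _ (isCompl_perp h)).surjective x
    simp only [LinearEquiv.trans_apply, LinearEquiv.symm_apply_apply, LinearEquiv.prodCongr_apply,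
      mul_apply, Prod.fst_mul, Prod.snd_mul]

theorem sumHom_add {W : Submodule F V} (h : q.NDeg W)
    (p : (q.res W h).O × (q.res _ (ndeg_perp h)).O) (a : W) (b : q.perp W) :
    sumHom h p (a + b) = p.1 a + p.2 b := by
  have := (Submodule.prodEquivOfIsCompl _ _ (isCompl_perp h)).symm_apply_apply (a, b)
  show Submodule.prodEquivOfIsCompl _ _ (isCompl_perp h) (LinearEquiv.prodCongr _ _
    ((Submodule.prodEquivOfIsCompl _ _ (isCompl_perp h)).symm
      (Submodule.prodEquivOfIsCompl _ _ (isCompl_perp h) (a, b)))) = _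
  rw [this]
  rfl

theorem sumHom_left {W : Submodule F V} (h : q.NDeg W)
    (p : (q.res W h).O × (q.res _ (ndeg_perp h)).O) {a : V} (ha : a ∈ W) :
    sumHom h p a = p.1 ⟨a, ha⟩ := by simpa using sumHom_add h p ⟨a, ha⟩ 0

theorem sumHom_right {W : Submodule F V} (h : q.NDeg W)
    (p : (q.res W h).O × (q.res _ (ndeg_perp h)).O) {b : V} (hb : b ∈ q.perp W) :
    sumHom h p b = p.2 ⟨b, hb⟩ := by simpa using sumHom_add h p 0 ⟨b, hb⟩

theorem sumHom_resO {W : Submodule F V} (h : q.NDeg W) (g : q.O) (hg : ∀ x ∈ W, g x ∈ W) :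
    sumHom h (resO h g hg, resO (ndeg_perp h) g (perp_inv hg)) = g := O_ext fun x => by
  obtain ⟨a, ha, b, hb, rfl⟩ := exists_add_perp h x
  rw [map_add, map_add, sumHom_left h _ ha, sumHom_right h _ hb]
  rfl

theorem finrank_lt_of_ne {W : Submodule F V} (h : q.NDeg W) (h0 : W ≠ ⊥) (h1 : W ≠ ⊤) :
    finrank F W < finrank F V ∧ finrank F (q.perp W) < finrank F V := by
  have h2 := finrank_add_perp h
  have h3 := Submodule.finrank_lt h1
  have h4 : finrank F W ≠ 0 := fun e => h0 (Submodule.finrank_eq_zero.1 e)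
  omega

/-- Fitting decomposition of a self-adjoint map -/
theorem fitting (c : Module.End F V) (hc : ∀ x y, q.B (c x) y = q.B x (c y)) :
    ∃ n : ℕ, n ≠ 0 ∧ q.NDeg (LinearMap.ker (c ^ n)) := by
  obtain ⟨n, hn⟩ := Filter.eventually_atTop.1 c.eventually_isCompl_ker_pow_range_pow
  have hp : ∀ (k : ℕ) x y, q.B ((c ^ k) x) y = q.B x ((c ^ k) y) := by
    intro k
    induction k with
    | zero => simp
    | succ k ih =>
      intro x y
      conv_lhs => rw [pow_succ]
      rw [pow_succ', Module.End.mul_apply, Module.End.mul_apply, ih, hc]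
  refine ⟨n + 1, n.succ_ne_zero, fun x hx h => q.nd x fun y => ?_⟩
  obtain ⟨a, ha, _, ⟨b, rfl⟩, rfl⟩ := Submodule.mem_sup.1
    ((hn (n + 1) n.le_succ).sup_eq_top ▸ Submodule.mem_top (x := y))
  rw [map_add, h a ha, ← hp, LinearMap.mem_ker.1 hx]
  simp

variable [CharP F 2]

/-- `g + g⁻¹` -/
def bb (g : q.O) : Module.End F V := q.act g + q.act g⁻¹

theorem bb_apply (g : q.O) (x : V) : bb g x = g x + g⁻¹ x := rfl

theorem bb_adj (g : q.O) (x y : V) : q.B (bb g x) y = q.B x (bb g y) := by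
  simp only [bb_apply, map_add, LinearMap.add_apply, B_left g, B_left g⁻¹, inv_inv, add_comm]

theorem bb_comm {a b : q.O} (h : b * a * b⁻¹ = a ∨ b * a * b⁻¹ = a⁻¹) :
    Commute (q.act b) (bb a) := by
  have h1 : ∀ a a' : q.O, b * a * b⁻¹ = a' → q.act b * q.act a = q.act a' * q.act b := by
    rintro a _ rfl
    rw [← actHom_apply, ← actHom_apply, ← actHom_apply, ← map_mul, ← map_mul]
    simp
  have h2 : ∀ a a' : q.O, b * a * b⁻¹ = a' → b * a⁻¹ * b⁻¹ = a'⁻¹ := by
    rintro a _ rfl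
    group
  rw [Commute, SemiconjBy, bb, mul_add, add_mul]
  rcases h with h | h
  · rw [h1 _ _ h, h1 _ _ (h2 _ _ h)]
  · rw [h1 _ _ h, h1 _ _ (h2 _ _ h), inv_inv, add_comm]

/-- if `g + g⁻¹` is nilpotent then `g` is a `2`-element -/
theorem two_of_bb {g : q.O} {n : ℕ} (h : bb g ^ n = 0) : ∃ k : ℕ, g ^ 2 ^ k = 1 := by
  rcases subsingleton_or_nontrivial V with h0 | h0
  · exact ⟨0, O_ext fun x => Subsingleton.elim _ _⟩
  haveI : Fact (Nat.Prime 2) := ⟨Nat.prime_two⟩
  haveI : CharP (Module.End F V) 2 := charP_of_injective_algebraMap (algebraMap F _).injective 2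
  have hc : Commute (q.act g) (q.act g⁻¹) := ((Commute.refl g).inv_right).map q.actHom
  have h1 : bb g ^ 2 ^ n = 0 := pow_eq_zero_of_le (Nat.lt_two_pow_self).le h
  rw [bb, add_pow_char_pow_of_commute _ _ hc, ← actHom_apply, ← actHom_apply, ← map_pow,
    ← map_pow] at h1
  have h2 : g ^ 2 ^ n = g⁻¹ ^ 2 ^ n := act_injective (veq_of_add F h1)
  refine ⟨n + 1, ?_⟩
  rw [pow_succ, pow_mul, pow_two]
  nth_rewrite 1 [h2]
  rw [inv_pow, inv_mul_cancel]

theorem exists_fix_O [Nontrivial V] {B : Subgroup q.O} (hB : IsPGroup 2 B) :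
    ∃ v : V, v ≠ 0 ∧ ∀ b ∈ B, b v = v := by
  obtain ⟨v, h0, hv⟩ := exists_fix hB (q.actHom.comp B.subtype)
  exact ⟨v, h0, fun b hb => hv ⟨b, hb⟩⟩

end QS

end Cfsg.Agent.FS
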