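import Cfsg.Agent.Lib.FS.Fam

/-!
# The stabilizer of a totally singular plane
-/

set_option autoImplicit false
set_option linter.unusedSectionVars false
set_option linter.style.haveILetI false

namespace Cfsg.Agent.FS

open Module Multiplicative QS Cfsg.Agent.Char

universe u

/-- the alternating form on the plane -/
def om {F : Type*} [Field F] (x y : F × F) : F := x.1 * y.2 + x.2 * y.1

namespace QS
variable {F V : Type*} [Field F] [CharP F 2] [AddCommGroup V] [Module F V] (q : QS F V)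

/-- the Heisenberg group -/
@[ext] structure Heis (q : QS F V) where
  a : V
  b : V
  z : F

instance : Mul q.Heis := ⟨fun m n => ⟨m.a + n.a, m.b + n.b, m.z + n.z + q.B m.a n.b⟩⟩
instance : One q.Heis := ⟨⟨0, 0, 0⟩⟩
instance : Inv q.Heis := ⟨fun m => ⟨m.a, m.b, m.z + q.B m.a m.b⟩⟩

variable {q}
@[simp] theorem Heis.mul_a (m n : q.Heis) : (m * n).a = m.a + n.a := rfl
@[simp] theorem Heis.mul_b (m n : q.Heis) : (m * n).b = m.b + n.b := rfl
@[simp] theorem Heis.mul_z (m n : q.Heis) : (m * n).z = m.z + n.z + q.B m.a n.b := rfl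
@[simp] theorem Heis.one_a : (1 : q.Heis).a = 0 := rfl
@[simp] theorem Heis.one_b : (1 : q.Heis).b = 0 := rfl
@[simp] theorem Heis.one_z : (1 : q.Heis).z = 0 := rfl
@[simp] theorem Heis.inv_a (m : q.Heis) : m⁻¹.a = m.a := rfl
@[simp] theorem Heis.inv_b (m : q.Heis) : m⁻¹.b = m.b := rfl
@[simp] theorem Heis.inv_z (m : q.Heis) : m⁻¹.z = m.z + q.B m.a m.b := rfl

instance : Group q.Heis := Group.ofLeftAxioms
  (fun a b c => by ext <;> simp [add_assoc]; ring) (fun a => by ext <;> simp)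
  (fun a => by ext <;> simp [vadd_self F]; grind)

variable (q)

/-- coordinates -/
def Heis.equiv : q.Heis ≃ V × V × F :=
  ⟨fun n => (n.a, n.b, n.z), fun p => ⟨p.1, p.2.1, p.2.2⟩, fun _ => rfl, fun _ => rfl⟩

instance [Finite V] [Finite F] : Finite q.Heis := Finite.of_equiv _ (Heis.equiv q).symm

/-- the centre -/
def Heis.Z : Subgroup q.Heis where
  carrier := {n | n.a = 0 ∧ n.b = 0}
  one_mem' := ⟨rfl, rfl⟩
  mul_mem' ha hb := ⟨by simp [ha.1, hb.1], by simp [ha.2, hb.2]⟩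
  inv_mem' ha := ha

theorem Heis.card_Z : Nat.card (Heis.Z q) = Nat.card F :=
  Nat.card_congr ⟨fun n => n.1.z, fun z => ⟨⟨0, 0, z⟩, rfl, rfl⟩,
    fun n => Subtype.ext (Heis.ext n.2.1.symm n.2.2.symm rfl), fun _ => rfl⟩

theorem Heis.isConj {n : q.Heis} (hn : n ∉ Heis.Z q) (z : Heis.Z q) : IsConj n (z * n) := by
  obtain ⟨z, h1, h2⟩ := z
  by_cases ha : n.a = 0
  · obtain ⟨y, hy⟩ := q.exists_B_one (x := n.b) fun hb => hn ⟨ha, hb⟩
    refine isConj_iff.2 ⟨⟨z.z • y, 0, 0⟩, ?_⟩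
    ext <;> simp [h1, h2, ha, vadd_self F, q.symm y, hy, add_comm]
  · obtain ⟨y, hy⟩ := q.exists_B_one ha
    refine isConj_iff.2 ⟨⟨0, z.z • y, 0⟩, ?_⟩
    ext
    · simp [h1]
    · simp only [Heis.mul_b, Heis.inv_b, h2, zero_add]
      rw [add_right_comm, vadd_self F, zero_add]
    · simp [h1, hy, add_comm]

variable [Finite F] [Finite V]

/-- the unipotent radical -/
noncomputable def uni : q.Heis →* q.hyp.hyp.O where
  toFun n := mkO
    { toFun := fun x => (x.1 + q.B n.a x.2.1.2.1 + x.2.2 * q.Q n.a + x.2.1.2.2 * n.z,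
        (x.2.1.1 + q.B n.b x.2.1.2.1 + x.2.1.2.2 * q.Q n.b + x.2.2 * (n.z + q.B n.a n.b),
          x.2.1.2.1 + x.2.2 • n.a + x.2.1.2.2 • n.b, x.2.1.2.2), x.2.2)
      map_add' := fun x y => by ext <;> simp [add_smul] <;> [ring; ring; abel]
      map_smul' := fun t x => by ext <;> simp [smul_smul] <;> ring }
    fun x => by
      simp only [LinearMap.coe_mk, AddHom.coe_mk, hyp_Q, q.add, q.smul, map_smul, smul_eq_mul,
        map_add, LinearMap.add_apply, LinearMap.smul_apply, q.symm x.2.1.2.1]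
      grind
  map_one' := O_ext fun x => by simp
  map_mul' m n := O_ext fun x => by
    simp only [mkO_apply, LinearMap.coe_mk, AddHom.coe_mk, mul_apply, Heis.mul_a, Heis.mul_b,
      Heis.mul_z, q.add, map_add, LinearMap.add_apply, map_smul, smul_eq_mul, smul_add,
      q.symm m.b n.a]
    refine Prod.ext ?_ (Prod.ext (Prod.ext ?_ (Prod.ext ?_ rfl)) rfl) <;> simp only
    · ring
    · grind
    · abel

@[simp] theorem uni_apply (n : q.Heis) (x : F × (F × V × F) × F) :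
    q.uni n x = (x.1 + q.B n.a x.2.1.2.1 + x.2.2 * q.Q n.a + x.2.1.2.2 * n.z,
      (x.2.1.1 + q.B n.b x.2.1.2.1 + x.2.1.2.2 * q.Q n.b + x.2.2 * (n.z + q.B n.a n.b),
        x.2.1.2.1 + x.2.2 • n.a + x.2.1.2.2 • n.b, x.2.1.2.2), x.2.2) := rfl

theorem uni_injective : Function.Injective q.uni := fun m n h => by
  have h1 := congrArg (fun g : q.hyp.hyp.O => g (0, (0, 0, 1), 0)) h
  have h2 := congrArg (fun g : q.hyp.hyp.O => g (0, (0, 0, 0), 1)) h
  simp only [uni_apply, Prod.ext_iff] at h1 h2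
  exact Heis.ext (by simpa using h2.2.1.2.1) (by simpa using h1.2.1.2.1) (by simpa using h1.1)

/-- the totally singular plane -/
def pl : F × F →ₗ[F] F × (F × V × F) × F where
  toFun t := (t.1, (t.2, 0, 0), 0)
  map_add' x y := by simp
  map_smul' c x := by simp

variable {D : Type*} [Group D] (σ : D →* (F × F) ≃ₗ[F] F × F)
  (hσ : ∀ d x y, om (σ d x) (σ d y) = om x y)

/-- the Levi complement -/
noncomputable def lev2 : D × q.O →* q.hyp.hyp.O where
  toFun l := mkO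
    { toFun := fun x => ((σ l.1 (x.1, x.2.1.1)).1,
        ((σ l.1 (x.1, x.2.1.1)).2, l.2 x.2.1.2.1, (σ l.1 (x.2.1.2.2, x.2.2)).1),
        (σ l.1 (x.2.1.2.2, x.2.2)).2)
      map_add' := fun x y => by
        simp only [Prod.fst_add, Prod.snd_add, ← Prod.mk_add_mk, map_add]
      map_smul' := fun t x => by
        simp only [Prod.smul_fst, Prod.smul_snd, ← Prod.smul_mk, map_smul, RingHom.id_apply] }
    fun x => by
      have := hσ l.1 (x.1, x.2.1.1) (x.2.1.2.2, x.2.2)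
      simp only [LinearMap.coe_mk, AddHom.coe_mk, hyp_Q, isoQ, om] at this ⊢
      linear_combination this
  map_one' := O_ext fun x => by simp
  map_mul' a b := O_ext fun x => by simp

theorem lev2_apply (l : D × q.O) (x : F × (F × V × F) × F) :
    q.lev2 σ hσ l x = ((σ l.1 (x.1, x.2.1.1)).1,
      ((σ l.1 (x.1, x.2.1.1)).2, l.2 x.2.1.2.1, (σ l.1 (x.2.1.2.2, x.2.2)).1),
      (σ l.1 (x.2.1.2.2, x.2.2)).2) := rfl

theorem plane_apply (s : (F × F) ≃ₗ[F] F × F) (a b : F) :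
    s (a, b) = (a * (s (1, 0)).1 + b * (s (0, 1)).1, a * (s (1, 0)).2 + b * (s (0, 1)).2) := by
  have : (a, b) = a • ((1 : F), (0 : F)) + b • ((0 : F), (1 : F)) := by simp
  rw [this, map_add, map_smul, map_smul]
  rfl

/-- the action of the Levi complement on the radical -/
def hact (l : D × q.O) (n : q.Heis) : q.Heis :=
  ⟨(σ l.1 (1, 0)).1 • l.2 n.a + (σ l.1 (0, 1)).1 • l.2 n.b,
    (σ l.1 (1, 0)).2 • l.2 n.a + (σ l.1 (0, 1)).2 • l.2 n.b,
    n.z + (σ l.1 (1, 0)).1 * (σ l.1 (1, 0)).2 * q.Q n.a +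
      (σ l.1 (0, 1)).1 * (σ l.1 (0, 1)).2 * q.Q n.b +
      (σ l.1 (0, 1)).1 * (σ l.1 (1, 0)).2 * q.B n.a n.b⟩

theorem lev2_uni (l : D × q.O) (n : q.Heis) :
    q.lev2 σ hσ l * q.uni n * (q.lev2 σ hσ l)⁻¹ = q.uni (q.hact σ l n) := by
  rw [mul_inv_eq_iff_eq_mul]
  refine O_ext fun ⟨x1, ⟨x2, w, y2⟩, y1⟩ => ?_
  have hd := hσ l.1 (1, 0) (0, 1)
  simp only [mul_apply, lev2_apply, uni_apply, hact]
  rw [plane_apply (σ l.1) x1 x2, plane_apply (σ l.1) y2 y1, plane_apply (σ l.1) (_ + _) (_ + _)]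
  simp only [om] at hd
  generalize (σ l.1 (1, 0)).1 = p at hd ⊢
  generalize (σ l.1 (1, 0)).2 = r at hd ⊢
  generalize (σ l.1 (0, 1)).1 = t at hd ⊢
  generalize (σ l.1 (0, 1)).2 = s at hd ⊢
  simp only [map_add, map_smul, q.add, q.smul, isoQ, isoB, LinearMap.add_apply,
    LinearMap.smul_apply, smul_eq_mul, q.self, q.symm n.b n.a]
  refine Prod.ext ?_ (Prod.ext (Prod.ext ?_ (Prod.ext ?_ rfl)) rfl) <;> simp only
  · grind
  · grind
  · match_scalars <;> grind

theorem exists_uni_lev2 {d : D} {g : q.hyp.hyp.O} (hg : ∀ t, g (pl t) = pl (σ d t)) :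
    ∃ n h, g = q.uni n * q.lev2 σ hσ (d, h) := by
  set g' := g * (q.lev2 σ hσ (d, 1))⁻¹ with hg'
  have h1 : ∀ t, g' (pl t) = pl t := fun t => by
    obtain ⟨t, rfl⟩ := (σ d).surjective t
    have : pl (σ d t) = q.lev2 σ hσ (d, 1) (pl t) := by
      simp [lev2_apply, pl, show ((0 : F), (0 : F)) = 0 from rfl]
    rw [hg', mul_apply, this, inv_apply, hg, this]
  obtain ⟨c, k, hk⟩ := exists_sieg_lev (μ := 1) (g := g') (by
    rw [Units.val_one, one_smul]; exact h1 (1, 0))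
  have h2 := h1 (0, 1)
  rw [hk] at h2
  simp only [mul_apply, lev_apply, sieg_apply, pl, LinearMap.coe_mk, AddHom.coe_mk,
    Prod.mk.injEq] at h2
  have h3 : k (1, 0, 0) = (1, 0, 0) := by simpa using h2.2.1
  have h4 : c.toAdd.2.2 = 0 := by simpa [h3] using h2.1
  obtain ⟨c', h, hh⟩ := exists_sieg_lev (μ := 1) (g := k) (by simpa using h3)
  refine ⟨⟨c.toAdd.2.1, c'.toAdd, c.toAdd.1 + q.B c.toAdd.2.1 c'.toAdd⟩, h, ?_⟩
  rw [hg', mul_inv_eq_iff_eq_mul] at hk
  rw [hk, hh, show (d, h) = (1, h) * (d, 1) by simp, map_mul, ← mul_assoc]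
  congr 1
  refine O_ext fun ⟨x1, ⟨x2, w, y2⟩, y1⟩ => ?_
  simp only [mul_apply, lev_apply, sieg_apply, uni_apply, lev2_apply, hyp_B, hyp_Q, h4, map_one,
    LinearEquiv.coe_one, id, map_add, map_smul, inv_one, Units.val_one, one_mul, smul_eq_mul]
  refine Prod.ext ?_ (Prod.ext (Prod.ext ?_ (Prod.ext ?_ ?_)) rfl)
  · simp only; ring
  · simp only [Prod.fst_add, Prod.smul_fst, smul_eq_mul]; grind
  · simp only [Prod.fst_add, Prod.snd_add, Prod.smul_fst, Prod.smul_snd]; abel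
  · simp [h4]

end QS

variable {F V : Type u} [Field F] [Finite F] [CharP F 2] [AddCommGroup V] [Module F V] [Finite V]
  (q : QS F V)

theorem heis_lin {D : Type u} [Group D] (σ : D →* (F × F) ≃ₗ[F] F × F) (lam : q.Heis →* ℂˣ)
    (L' : Subgroup (D × q.O)) (hZ : ∀ z ∈ Heis.Z q, lam z = 1)
    (hL' : ∀ l, l ∈ L' ↔ ∀ n, lam (q.hact σ l n) = lam n) : ∃ φ, L' = q.G3 σ φ := by
  obtain ⟨ψ, c₀, hψ⟩ := exists_psi F
  let j1 : Multiplicative V →* q.Heis :=
    { toFun := fun a => ⟨a.toAdd, 0, 0⟩, map_one' := rfl, map_mul' := fun _ _ => by ext <;> simp }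
  let j2 : Multiplicative V →* q.Heis :=
    { toFun := fun a => ⟨0, a.toAdd, 0⟩, map_one' := rfl, map_mul' := fun _ _ => by ext <;> simp }
  obtain ⟨y1, h1⟩ := exists_psi_eq q hψ (lam.comp j1)
  obtain ⟨y2, h2⟩ := exists_psi_eq q hψ (lam.comp j2)
  have h3 : ∀ n, lam n = ψ (ofAdd (q.B y1 n.a + q.B y2 n.b)) := fun n => by
    have : n = (⟨0, 0, n.z⟩ : q.Heis) * ⟨0, n.b, 0⟩ * ⟨n.a, 0, 0⟩ := by ext <;> simp
    rw [ofAdd_add, map_mul, ← h1, ← h2]
    conv_lhs => rw [this, map_mul, map_mul, hZ _ ⟨rfl, rfl⟩, one_mul, mul_comm]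
    rfl
  let φ : F × F →ₗ[F] V := (LinearMap.toSpanSingleton F V y1).coprod
    (LinearMap.toSpanSingleton F V y2)
  have h4 : ∀ l n, lam (q.hact σ l n) = ψ (ofAdd (q.B (l.2⁻¹ (φ (σ l.1 (1, 0)))) n.a +
      q.B (l.2⁻¹ (φ (σ l.1 (0, 1)))) n.b)) := fun l n => by
    rw [h3, ← B_right, ← B_right]
    congr 2
    simp [hact, φ]
    ring
  have : L' = q.G3 σ φ := by
    ext l
    rw [hL', mem_G3]
    constructor
    · intro H
      have a1 : l.2⁻¹ (φ (σ l.1 (1, 0))) = y1 := psi_inj q hψ fun w => by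
        simpa [h4, h3] using H ⟨w, 0, 0⟩
      have a2 : l.2⁻¹ (φ (σ l.1 (0, 1))) = y2 := psi_inj q hψ fun w => by
        simpa [h4, h3] using H ⟨0, w, 0⟩
      rw [inv_apply_eq] at a1 a2
      rintro ⟨a, b⟩
      have : (a, b) = a • ((1 : F), (0 : F)) + b • ((0 : F), (1 : F)) := by simp
      conv_rhs => rw [this, map_add, map_add, map_smul, map_smul, map_smul, map_smul, a1, a2]
      simp [φ]
    · intro H n
      rw [h4, h3, ← H, ← H, inv_apply, inv_apply]
      simp [φ]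
  exact ⟨φ, this⟩

set_option maxHeartbeats 1000000 in
theorem heis_model (heis : HeisStmt.{u}) {D : Type u} [Group D] [Finite D]
    (σ : D →* (F × F) ≃ₗ[F] F × F) (hσ : ∀ d x y, om (σ d x) (σ d y) = om x y)
    (S : Subgroup D) (hS : Odd S.index) (hS' : ∀ d ∈ S, σ d (1, 0) = (1, 0))
    (hL : RR (D × q.O)) (h : ∀ φ, RR (q.G3 σ φ)) : RR (q.hyp.hyp.G3 σ pl) := by
  let ι : q.Heis →* q.hyp.hyp.G3 σ pl :=
    ((1 : _ →* D).prod q.uni).codRestrict _ fun n t => by simp [pl]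
  let s : D × q.O →* q.hyp.hyp.G3 σ pl :=
    ((MonoidHom.fst D q.O).prod (q.lev2 σ hσ)).codRestrict _ fun l t => by
      simp [lev2_apply, pl, show ((0 : F), (0 : F)) = 0 from rfl]
  have hι : ∀ n, (ι n).1 = (1, q.uni n) := fun _ => rfl
  have hconj : ∀ l n, s l * ι n * (s l)⁻¹ = ι (q.hact σ l n) := fun l n =>
    Subtype.ext (Prod.ext (show l.1 * 1 * l.1⁻¹ = 1 by simp) (q.lev2_uni σ hσ l n))
  have hsur : ∀ g, ∃ n l, g = ι n * s l := fun g => by
    obtain ⟨n, k, hk⟩ := q.exists_uni_lev2 σ hσ g.2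
    exact ⟨n, (g.1.1, k), Subtype.ext (Prod.ext (one_mul _).symm hk)⟩
  refine heis _ q.Heis (D × q.O) ι s (q.hact σ) (Heis.Z q)
    (fun a b e => q.uni_injective (congrArg (fun x => x.1.2) e)) hconj hsur (fun z hz g => ?_)
    (fun n => ⟨vadd_self F _, vadd_self F _⟩) (fun z hz => ?_) hL (fun lam L' hZ hL' => ?_)
    fun lam hlam => ?_
  · obtain ⟨n, l, rfl⟩ := hsur g
    have h1 : q.hact σ l z = z := by ext <;> simp [hact, hz.1, hz.2]
    have h2 := hconj l z
    rw [h1, mul_inv_eq_iff_eq_mul] at h2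
    rw [mul_assoc, h2, ← mul_assoc, ← mul_assoc, ← map_mul, ← map_mul]
    congr 2
    ext <;> simp [hz.1, hz.2, add_comm]
  · ext <;> simp [hz.1, hz.2, CharTwo.add_self_eq_zero]
  · obtain ⟨φ, rfl⟩ := heis_lin q σ lam L' hZ hL'
    exact h φ
  · let π : q.hyp.hyp.G3 σ pl →* D :=
      (MonoidHom.fst D q.hyp.hyp.O).comp (q.hyp.hyp.G3 σ pl).subtype
    have hπ : Function.Surjective π := fun d => ⟨s (d, 1), rfl⟩
    let X := {x : F × (F × V × F) × F // q.hyp.hyp.Q x = 0 ∧ x.2.2 = 0 ∧ x.2.1.2.2 = 1}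
    have hX : ∀ (m : S.comap π) (x : X), q.hyp.hyp.Q (m.1.1.2 x.1) = 0 ∧ (m.1.1.2 x.1).2.2 = 0 ∧
        (m.1.1.2 x.1).2.1.2.2 = 1 := fun m x => by
      have a1 := isoB m.1.1.2 x.1 (pl (1, 0))
      have a2 := isoB m.1.1.2 x.1 (pl (0, 1))
      have a3 := hσ m.1.1.1 (1, 0) (0, 1)
      have a4 : σ m.1.1.1 (1, 0) = (1, 0) := hS' _ m.2
      rw [m.1.2] at a1 a2
      rw [a4] at a1 a3
      simp only [om, one_mul, zero_mul, add_zero] at a3
      have a5 : (m.1.1.2 x.1).2.2 = 0 := by simpa [pl, x.2.2.1] using a1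
      exact ⟨by rw [isoQ, x.2.1], a5, by simpa [pl, a5, a3, x.2.2.1, x.2.2.2] using a2⟩
    letI : MulAction (S.comap π) X :=
      { smul := fun m x => ⟨m.1.1.2 x.1, hX m x⟩
        one_smul := fun _ => rfl
        mul_smul := fun _ _ _ => rfl }
    have hm : ∀ n, ι n ∈ S.comap π := fun n => S.one_mem
    refine ⟨S.comap π, hm, X, inferInstance, inferInstance,
      by rwa [Subgroup.index_comap_of_surjective _ hπ], ?_, fun z hz hz1 x e => hz1 ?_,
      fun n hn => ?_⟩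
    · have : Nat.card X = Nat.card (V × F) := Nat.card_congr
        ⟨fun x => (x.1.2.1.2.1, x.1.1), fun p => ⟨(p.2, (q.Q p.1, p.1, 1), 0), by
          simp [CharTwo.add_self_eq_zero], rfl, rfl⟩, fun ⟨⟨x1, ⟨x2, w, y2⟩, y1⟩, a, b, c⟩ => by
          simp only at b c
          subst b c
          have : x2 = q.Q w := by simp only [hyp_Q] at a; grind
          subst this
          rfl, fun _ => rfl⟩
      rw [this, Heis.card_Z, Nat.card_congr (Heis.equiv q), Nat.card_prod, Nat.card_prod,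
        Nat.card_prod]
      ring
    · have := congrArg (fun x : X => x.1.1) e
      change (q.uni z x.1).1 = x.1.1 at this
      refine Heis.ext hz.1 hz.2 ?_
      simpa [hz.1, x.2.2.2] using this
    · have := Fintype.ofFinite (Heis.Z q)
      have hc : ∀ z : Heis.Z q, (Nat.card (MulAction.fixedBy X (⟨ι (z * n), hm _⟩ : S.comap π)) : ℂ) =
          Nat.card (MulAction.fixedBy X (⟨ι n, hm _⟩ : S.comap π)) := fun z =>
        (isClass_apply_of_isConj (isClass_of_isChar (isChar_fixedBy X))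
          ((ι.codRestrict _ hm).map_isConj (Heis.isConj q hn z))).symm
      rw [finsum_eq_sum_of_fintype]
      simp only [hc]
      rw [← Finset.sum_mul]
      have := sum_hom_units_eq_zero ((Units.coeHom ℂ).comp lam) fun e => hlam
        (MonoidHom.ext fun z => Units.ext (DFunLike.congr_fun e z))
      rw [show ∑ z : Heis.Z q, (lam z : ℂ) = 0 from this, zero_mul]

end Cfsg.Agent.FS
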