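import Cfsg.Agent.Lib.FS.Geo

/-!
# Hyperbolic splitting, Siegel transformations, additive characters
-/

set_option autoImplicit false
set_option linter.unusedSectionVars false
set_option linter.style.haveILetI false

namespace Cfsg.Agent.FS

open Module Multiplicative

namespace QS

variable {F V : Type*} [Field F] [CharP F 2] [AddCommGroup V] [Module F V] (q : QS F V)

/-- orthogonal sum with a hyperbolic plane -/
def hyp : QS F (F × V × F) where
  Q x := x.1 * x.2.2 + q.Q x.2.1
  B := LinearMap.mk₂ F (fun x y => x.1 * y.2.2 + x.2.2 * y.1 + q.B x.2.1 y.2.1)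
    (fun _ _ _ => by simp; ring) (fun _ _ _ => by simp; ring)
    (fun _ _ _ => by simp; ring) (fun _ _ _ => by simp; ring)
  add x y := by simp [q.add]; ring
  smul c x := by simp [q.smul]; ring
  nd x h := by
    have h1 := h (0, 0, 1)
    have h2 := h (1, 0, 0)
    simp only [LinearMap.mk₂_apply, mul_one, mul_zero, map_zero, add_zero, zero_add] at h1 h2
    refine Prod.ext h1 (Prod.ext (q.nd _ fun w => ?_) h2)
    simpa using h (0, w, 0)

@[simp] theorem hyp_Q (x : F × V × F) : q.hyp.Q x = x.1 * x.2.2 + q.Q x.2.1 := rfl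
@[simp] theorem hyp_B (x y : F × V × F) :
    q.hyp.B x y = x.1 * y.2.2 + x.2.2 * y.1 + q.B x.2.1 y.2.1 := rfl

variable [Finite F] [Finite V]

/-- Siegel transformation -/
noncomputable def siegF (c : V) : q.hyp.O :=
  mkO { toFun := fun x => (x.1 + q.B c x.2.1 + x.2.2 * q.Q c, x.2.1 + x.2.2 • c, x.2.2)
        map_add' := fun x y => by ext <;> simp [add_smul] <;> [ring; abel]
        map_smul' := fun t x => by ext <;> simp [smul_smul]; ring }
    fun x => by
      simp only [LinearMap.coe_mk, AddHom.coe_mk, hyp_Q, q.add, q.smul, map_smul, smul_eq_mul,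
        q.symm x.2.1 c]
      grind

theorem siegF_apply (c : V) (x : F × V × F) :
    q.siegF c x = (x.1 + q.B c x.2.1 + x.2.2 * q.Q c, x.2.1 + x.2.2 • c, x.2.2) := rfl

/-- Siegel transformations as a homomorphism -/
noncomputable def sieg : Multiplicative V →* q.hyp.O where
  toFun c := q.siegF c.toAdd
  map_one' := O_ext fun x => by simp [siegF_apply]
  map_mul' c d := O_ext fun x => by
    simp only [siegF_apply, mul_apply, toAdd_mul, q.add, map_add, LinearMap.add_apply, map_smul,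
      smul_eq_mul, smul_add]
    refine Prod.ext ?_ (Prod.ext ?_ rfl)
    · simp only; ring
    · simp only; abel

@[simp] theorem sieg_apply (c : Multiplicative V) (x : F × V × F) :
    q.sieg c x = (x.1 + q.B c.toAdd x.2.1 + x.2.2 * q.Q c.toAdd, x.2.1 + x.2.2 • c.toAdd, x.2.2) :=
  rfl

theorem sieg_injective : Function.Injective q.sieg := fun c d h => by
  have := congrArg (fun g : q.hyp.O => (g (0, 0, 1)).2.1) h
  simpa using this

/-- Levi complement -/
noncomputable def lev : Fˣ × q.O →* q.hyp.O where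
  toFun p := mkO
    { toFun := fun x => ((p.1 : F) * x.1, p.2 x.2.1, ((p.1⁻¹ : Fˣ) : F) * x.2.2)
      map_add' := fun x y => by ext <;> simp [mul_add]
      map_smul' := fun t x => by ext <;> simp <;> ring }
    fun x => by
      simp only [LinearMap.coe_mk, AddHom.coe_mk, hyp_Q, isoQ]
      linear_combination x.1 * x.2.2 * p.1.mul_inv
  map_one' := O_ext fun x => by simp
  map_mul' a b := O_ext fun x => by
    simp only [mkO_apply, LinearMap.coe_mk, AddHom.coe_mk, mul_apply, Prod.fst_mul, Prod.snd_mul,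
      Units.val_mul, mul_inv_rev]
    refine Prod.ext ?_ (Prod.ext rfl ?_) <;> simp only <;> ring

@[simp] theorem lev_apply (p : Fˣ × q.O) (x : F × V × F) :
    q.lev p x = ((p.1 : F) * x.1, p.2 x.2.1, ((p.1⁻¹ : Fˣ) : F) * x.2.2) := rfl

theorem lev_sieg (p : Fˣ × q.O) (c : Multiplicative V) :
    q.lev p * q.sieg c * (q.lev p)⁻¹ = q.sieg (ofAdd ((p.1 : F) • p.2 c.toAdd)) := by
  rw [mul_inv_eq_iff_eq_mul]
  refine O_ext fun x => ?_
  simp only [mul_apply, lev_apply, sieg_apply, toAdd_ofAdd, map_add, map_smul, q.smul, isoQ,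
    LinearMap.smul_apply, isoB, smul_eq_mul, smul_smul]
  refine Prod.ext ?_ (Prod.ext ?_ rfl)
  · simp only
    linear_combination (-x.2.2 * q.Q c.toAdd * p.1) * p.1.mul_inv
  · simp only
    congr 2
    linear_combination (-x.2.2) * p.1.mul_inv

variable {q}

theorem inv_apply_eq {g : q.O} {x y : V} : g⁻¹ x = y ↔ x = g y :=
  (g : V ≃ₗ[F] V).symm_apply_eq

theorem exists_lev {g : q.hyp.O} (h1 : g (1, 0, 0) = (1, 0, 0)) (h2 : g (0, 0, 1) = (0, 0, 1)) :
    ∃ h, g = q.lev (1, h) := by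
  have h3 : ∀ w, g (0, w, 0) = (0, (g (0, w, 0)).2.1, 0) := fun w => by
    have a := isoB g (0, w, 0) (1, 0, 0)
    have b := isoB g (0, w, 0) (0, 0, 1)
    rw [h1] at a
    rw [h2] at b
    exact Prod.ext (by simpa using b) (Prod.ext rfl (by simpa using a))
  refine ⟨mkO (LinearMap.fst F V F ∘ₗ LinearMap.snd F F _ ∘ₗ q.hyp.act g ∘ₗ
    LinearMap.inr F F _ ∘ₗ LinearMap.inl F V F) fun w => ?_, O_ext fun x => ?_⟩
  · have := isoQ g (0, w, 0)
    rw [h3] at this
    simpa using this
  · have : x = x.1 • (1, 0, 0) + (0, x.2.1, 0) + x.2.2 • (0, 0, 1) := by simp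
    conv_lhs => rw [this, map_add, map_add, map_smul, map_smul, h1, h2, h3]
    simp

theorem exists_sieg_lev {g : q.hyp.O} {μ : Fˣ} (h1 : g (1, 0, 0) = (μ : F) • (1, 0, 0)) :
    ∃ c h, g = q.sieg c * q.lev (μ, h) := by
  set g' := g * (q.lev (μ, 1))⁻¹ with hg'
  have h2 : g' (1, 0, 0) = (1, 0, 0) := by
    have : (1, 0, 0) = q.lev (μ, 1) ((μ⁻¹ : Fˣ) • (1, 0, 0)) := by simp [Units.smul_def]
    rw [hg', mul_apply, this, inv_apply, Units.smul_def, map_smul, h1]
    simp
  have a := isoB g' (0, 0, 1) (1, 0, 0)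
  have b := isoQ g' (0, 0, 1)
  rw [h2] at a
  simp only [hyp_B, hyp_Q, mul_one, mul_zero, map_zero, add_zero, zero_add, Q_zero] at a b
  obtain ⟨h, hh⟩ := exists_lev (g := (q.sieg (ofAdd (g' (0, 0, 1)).2.1))⁻¹ * g') (by
    rw [mul_apply, h2, inv_apply_eq]
    simp) (by
    rw [mul_apply, inv_apply_eq]
    refine Prod.ext ?_ (Prod.ext (by simp) (by simpa using a))
    rw [a] at b
    simp only [sieg_apply, toAdd_ofAdd, map_zero, add_zero, one_mul, zero_add]
    grind)
  refine ⟨ofAdd (g' (0, 0, 1)).2.1, h, ?_⟩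
  rw [inv_mul_eq_iff_eq_mul, mul_inv_eq_iff_eq_mul] at hh
  rw [hh, mul_assoc, ← map_mul]
  simp

theorem exists_sep {v x : V} (h : ∀ c : F, c • x ≠ v) : ∃ y, q.B v y = 1 ∧ q.B x y = 0 := by
  obtain ⟨f, h1, h2⟩ := Submodule.exists_dual_map_eq_bot_of_notMem (p := F ∙ x) (x := v)
    (fun hv => by
      obtain ⟨c, hc⟩ := Submodule.mem_span_singleton.1 hv
      exact h c hc) inferInstance
  have h3 : f x = 0 := by
    have : f x ∈ (F ∙ x).map f := ⟨x, Submodule.mem_span_singleton_self x, rfl⟩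
    rwa [h2] at this
  obtain ⟨y, hy⟩ := q.exists_dual f
  exact ⟨(f v)⁻¹ • y, by simp [q.symm v, hy, h1], by simp [q.symm x, hy, h3]⟩

/-- splitting off a hyperbolic plane -/
theorem exists_split {v x : V} (hv : q.Q v = 0) (hx : q.B v x = 0) (h : ∀ c : F, c • x ≠ v) :
    ∃ (W : Submodule F V) (hW : q.NDeg W) (e : (F × W × F) ≃ₗ[F] V),
      (∀ z, q.Q (e z) = (q.res W hW).hyp.Q z) ∧ e (1, 0, 0) = v ∧ (∀ w : W, e (0, w, 0) = w) ∧
      x ∈ W ∧ finrank F W + 2 = finrank F V := by
  obtain ⟨y, h1, h2⟩ := exists_sep (q := q) h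
  set u := y + q.Q y • v with hu
  have h3 : q.B v u = 1 := by simp [hu, h1]
  have h4 : q.B u x = 0 := by simp [hu, q.symm y, h2, hx]
  have h5 : q.Q u = 0 := by
    simp only [hu, q.add, q.smul, hv, map_smul, q.symm y v, h1, smul_eq_mul]
    grind
  have h6 : q.B u v = 1 := by rw [q.symm, h3]
  let W : Submodule F V := LinearMap.ker (q.B v) ⊓ LinearMap.ker (q.B u)
  have hm : ∀ z, z - q.B u z • v - q.B v z • u ∈ W := fun z =>
    ⟨by simp [h3], by simp [h6]⟩
  have hW : q.NDeg W := fun w hw H => q.nd w fun z => by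
    have := H _ (hm z)
    have a : q.B w v = 0 := by rw [q.symm]; exact hw.1
    have b : q.B w u = 0 := by rw [q.symm]; exact hw.2
    simpa [a, b] using this
  let e : (F × W × F) ≃ₗ[F] V :=
    { toFun := fun z => z.1 • v + z.2.1 + z.2.2 • u
      invFun := fun z => (q.B u z, ⟨_, hm z⟩, q.B v z)
      map_add' := fun a b => by simp [add_smul]; abel
      map_smul' := fun c a => by simp [smul_smul]
      left_inv := fun z => by
        have a : q.B v z.2.1 = 0 := z.2.1.2.1
        have b : q.B u z.2.1 = 0 := z.2.1.2.2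
        refine Prod.ext (by simp [h6, b]) (Prod.ext (Subtype.ext ?_) (by simp [h3, a]))
        simp [h3, h6, a, b]
        abel
      right_inv := fun z => by simp only; abel }
  refine ⟨W, hW, e, fun z => ?_, by simp [e], by simp [e], ⟨hx, h4⟩, ?_⟩
  · have a : q.B v z.2.1 = 0 := z.2.1.2.1
    have b : q.B z.2.1 u = 0 := by rw [q.symm]; exact z.2.1.2.2
    simp [e, q.add, q.smul, hv, h5, h3, a, b]
    ring
  · rw [← e.finrank_eq]
    simp only [finrank_prod, finrank_self]
    ring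

end QS

section psi
variable {F V : Type*} [Field F] [Finite F] [AddCommGroup V] [Module F V] [Finite V]

variable (F) in
theorem exists_psi : ∃ ψ : Multiplicative F →* ℂˣ, ∃ c : F, ψ (ofAdd c) ≠ 1 := by
  obtain ⟨ψ, h⟩ := CommGroup.exists_apply_ne_one_of_hasEnoughRootsOfUnity (Multiplicative F) ℂ
    (a := ofAdd 1) (by simp)
  exact ⟨ψ, 1, h⟩

variable (q : QS F V) {ψ : Multiplicative F →* ℂˣ} {c₀ : F} (hψ : ψ (ofAdd c₀) ≠ 1)
include hψ

theorem psi_lin {f : V →ₗ[F] F} {w : V} (h : ∀ t : F, ψ (ofAdd (f (t • w))) = 1) : f w = 0 := by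
  by_contra h0
  exact hψ (by simpa [h0] using h (c₀ * (f w)⁻¹))

theorem psi_inj {y y' : V} (h : ∀ w, ψ (ofAdd (q.B y w)) = ψ (ofAdd (q.B y' w))) : y = y' :=
  sub_eq_zero.1 (q.nd _ fun w => psi_lin hψ fun t => by
    rw [map_sub, LinearMap.sub_apply, ofAdd_sub, map_div, h, div_self'])

theorem exists_psi_eq (lam : Multiplicative V →* ℂˣ) :
    ∃ y, ∀ w, lam (ofAdd w) = ψ (ofAdd (q.B y w)) := by
  let f : V → Multiplicative V →* ℂˣ := fun y =>
    ψ.comp (AddMonoidHom.toMultiplicative (q.B y).toAddMonoidHom)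
  have h1 : Function.Injective f := fun y y' h => psi_inj q hψ fun w =>
    DFunLike.congr_fun h (ofAdd w)
  haveI : Finite (Multiplicative V →* ℂˣ) := Nat.finite_of_card_ne_zero (by
    rw [CommGroup.card_monoidHom_of_hasEnoughRootsOfUnity]; exact Nat.card_pos.ne')
  obtain ⟨y, rfl⟩ := (h1.bijective_of_nat_card_le (by
    rw [CommGroup.card_monoidHom_of_hasEnoughRootsOfUnity]; rfl)).2 lam
  exact ⟨y, fun _ => rfl⟩

end psi

end Cfsg.Agent.FS
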