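import Cfsg.Agent.Lib.FS.Real

/-!
# Closure properties of `RR` and `Re`; the indicator
-/

set_option autoImplicit false
set_option linter.style.haveILetI false

namespace Cfsg.Agent.FS

open Cfsg Cfsg.Agent.Char Cfsg.Agent.Ind Module Matrix
open scoped ComplexConjugate ComplexOrder

universe u v

section closure
variable {G : Type u} [Group G] {H : Type v} [Group H]

theorem RO.descend [Finite G] {χ : H → ℂ} (f : G →* H) (hf : Function.Surjective f)
    (h : RO (fun g => χ (f g))) : RO χ := by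
  obtain ⟨n, ρ, hρ⟩ := h
  have h1 : ∀ g, f g = 1 → ρ g = 1 := by
    intro g hg
    have h2 : (baseRep Complex.ofRealHom ρ).character g = finrank ℂ (Fin n → ℂ) := by
      rw [← Representation.char_one (baseRep Complex.ofRealHom ρ), character_baseRep,
        character_baseRep, ← congrFun hρ, ← congrFun hρ, hg, map_one]
    rw [character_eq_finrank_iff] at h2
    have h3 := toMatrix'_baseRep Complex.ofRealHom ρ g
    rw [h2, LinearMap.toMatrix'_id] at h3
    apply LinearMap.toMatrix'.injective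
    rw [Module.End.one_eq_id, LinearMap.toMatrix'_id]
    apply Matrix.map_injective Complex.ofRealHom.injective
    show _ = (1 : Matrix _ _ ℝ).map Complex.ofRealHom
    rw [Matrix.map_one _ (map_zero _) (map_one _), h3]
  have h2 : ∀ a b, f a = f b → ρ a = ρ b := by
    intro a b hab
    have := h1 (a * b⁻¹) (by simp [hab])
    calc ρ a = ρ (a * b⁻¹) * ρ b := by rw [← map_mul]; simp
      _ = ρ b := by rw [this, one_mul]
  choose s hs using hf
  let σ : Representation ℝ H (Fin n → ℝ) :=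
    { toFun := fun x => ρ (s x)
      map_one' := h1 _ (hs 1)
      map_mul' := fun a b => by rw [← map_mul]; exact h2 _ _ (by simp [hs]) }
  refine ⟨n, σ, funext fun x => ?_⟩
  have := congrFun hρ (s x)
  rw [hs] at this
  exact this

theorem rr_surj [Finite G] (f : G →* H) (hf : Function.Surjective f) (h : RR G) : RR H :=
  fun _ hχ hr => RO.descend f hf (h _ (isIrr_comp_of_surjective hχ f hf) fun _ => hr _)

theorem re_surj (f : G →* H) (hf : Function.Surjective f) (h : Re G) : Re H := fun x => by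
  obtain ⟨g, rfl⟩ := hf x
  rw [← map_inv]
  exact f.map_isConj (h g)

theorem rr_one [Subsingleton G] : RR G := fun χ hχ _ => by
  have := apply_one_eq_one_of_comm hχ fun a b => Subsingleton.elim _ _
  have h2 : χ = fun _ => 1 := funext fun g => by rw [Subsingleton.elim g 1, this]
  rw [h2]
  exact ro_one

theorem re_one [Subsingleton G] : Re G := fun g => by rw [Subsingleton.elim g⁻¹ g]

theorem rr_prod [Finite G] [Finite H] (h : RR G) (h' : RR H) : RR (G × H) := by
  intro θ hθ hr
  obtain ⟨φ, ψ, hφ, hψ, rfl⟩ := (Cfsg.Agent.S0188.result θ).1 hθ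
  obtain ⟨a, ha, ha'⟩ := exists_pos_nat_of_isIrr hφ
  obtain ⟨b, hb, hb'⟩ := exists_pos_nat_of_isIrr hψ
  refine ((h φ hφ fun g => ?_).comp (MonoidHom.fst G H)).mul
    ((h' ψ hψ fun g => ?_).comp (MonoidHom.snd G H))
  · simpa [hb', hb.ne'] using hr (g, 1)
  · simpa [ha', ha.ne'] using hr (1, g)

theorem re_prod (h : Re G) (h' : Re H) : Re (G × H) := fun g => by
  obtain ⟨a, ha⟩ := isConj_iff.1 (h g.1)
  obtain ⟨b, hb⟩ := isConj_iff.1 (h' g.2)
  exact isConj_iff.2 ⟨(a, b), Prod.ext ha hb⟩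

theorem Re.im [Finite G] (h : Re G) {χ : G → ℂ} (hχ : IsCharacter G χ) (g : G) :
    (χ g).im = 0 := by
  rw [← Complex.conj_eq_iff_im, ← apply_inv_of_isChar hχ]
  exact (isClass_apply_of_isConj (isClass_of_isChar hχ) (h g)).symm

theorem isConj_inv_of_im [Finite G] {g : G}
    (h : ∀ χ : G → ℂ, IsIrrCharacter G χ → (χ g).im = 0) : IsConj g g⁻¹ :=
  (isConj_iff_irr _ _).2 fun χ => by
    rw [irr_apply_inv, Complex.conj_eq_iff_im.2 (h _ χ.2)]

theorem isConj_inv_of_mem {M : Subgroup G} (h : Re M) {g : G} (hg : g ∈ M) : IsConj g g⁻¹ :=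
  M.subtype.map_isConj (h ⟨g, hg⟩)

theorem re_red (h1 : ∀ B : Subgroup G, IsPGroup 2 B → ∃ M : Subgroup G, Re M ∧ B ≤ M)
    (h2 : ∀ (a : G) (B : Subgroup G), (∀ k : ℕ, a ^ 2 ^ k ≠ 1) →
      (∀ b ∈ B, b * a * b⁻¹ = a ∨ b * a * b⁻¹ = a⁻¹) → ∃ M : Subgroup G, Re M ∧ a ∈ M ∧ B ≤ M) :
    Re G := by
  intro g
  by_cases hg : ∃ k : ℕ, g ^ 2 ^ k = 1
  · obtain ⟨k, hk⟩ := hg
    obtain ⟨M, hM, hgM⟩ := h1 (Subgroup.zpowers g) (by
      rintro ⟨_, m, rfl⟩
      refine ⟨k, Subtype.ext ?_⟩
      show (g ^ m) ^ 2 ^ k = 1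
      rw [← zpow_natCast, ← _root_.zpow_mul, mul_comm, _root_.zpow_mul, zpow_natCast, hk,
        _root_.one_zpow])
    exact isConj_inv_of_mem hM (hgM (Subgroup.mem_zpowers g))
  · push Not at hg
    obtain ⟨M, hM, hgM, -⟩ := h2 g ⊥ hg (by simp)
    exact isConj_inv_of_mem hM hgM

theorem good_re (h : Cliff.{u} Re) : Good.{u} Re :=
  ⟨fun _ _ _ => re_one, re_surj, re_prod, h, re_red⟩

theorem good_rr (h : Cliff.{u} RR) (wb : WBStmt.{u}) : Good.{u} RR :=
  ⟨fun _ _ _ => rr_one, rr_surj, rr_prod, h, fun h1 h2 => wb _ h1 fun a B ho ha _ hB _ =>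
    h2 a B (fun k hk => ha (by
      have h3 := orderOf_dvd_of_pow_eq_one hk
      have h4 : (orderOf a).Coprime (2 ^ k) :=
        (Nat.coprime_two_right.2 ho).pow_right k
      exact orderOf_eq_one_iff.1 (Nat.Coprime.eq_one_of_dvd h4 h3))) hB⟩

end closure

theorem four : FourStmt.{u} := by
  intro G _ _ h4 χ hχ hr
  classical
  have := Fintype.ofFinite G
  obtain ⟨d, hd0, hd⟩ := exists_pos_nat_of_isIrr hχ
  have key : ∀ T : Subgroup G, (∀ t : T, t ≠ 1 → χ t = 0) →
      classInner (indFun T fun _ => 1) χ = d / Nat.card T := by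
    intro T hT
    rw [frobenius T _ (isClass_of_isIrr hχ), classInner, Finset.sum_eq_single 1]
    · simp [hd, div_eq_inv_mul]
    · intro t _ ht
      simp [hT t ht]
    · simp
  rcases Nat.even_or_odd d with he | ho
  · have hdv : d ∣ Nat.card G := by
      have := deg_dvd_card (⟨χ, hχ⟩ : IrrCharacter G)
      have h2 := deg_spec (⟨χ, hχ⟩ : IrrCharacter G)
      have h3 : deg (⟨χ, hχ⟩ : IrrCharacter G) = d := by exact_mod_cast h2.symm.trans hd
      rwa [h3] at this
    obtain ⟨t, ht⟩ := hdv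
    obtain ⟨e, he⟩ := he
    have ht2 : ¬ 2 ∣ t := by
      rintro ⟨s, rfl⟩
      exact h4 ⟨e * s, by rw [ht, he]; ring⟩
    have he2 : Odd (e : ℤ) := by
      rw [Int.odd_coe_nat, ← Nat.not_even_iff_odd]
      rintro ⟨s, rfl⟩
      exact h4 ⟨s * t, by rw [ht, he]; ring⟩
    haveI : Fact (Nat.Prime 2) := ⟨Nat.prime_two⟩
    obtain ⟨τ, hτ⟩ := exists_prime_orderOf_dvd_card' (G := G) 2 ⟨e * t, by rw [ht, he]; ring⟩
    have hc : Nat.card (Subgroup.zpowers τ) = 2 := by rw [Nat.card_zpowers, hτ]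
    refine ro_of_odd_inner (RO.rg (ro_one.ind _ (Subgroup.zpowers τ))) hχ hr he2 ?_
    rw [key, hc, he]
    · push_cast; ring
    · intro x hx
      refine eq_zero_of_defect_zero hχ Nat.prime_two hd ht ht2 ?_
      have h1 := orderOf_dvd_natCard x
      rw [hc] at h1
      rcases (Nat.dvd_prime Nat.prime_two).1 h1 with h2 | h2
      · exact absurd (orderOf_eq_one_iff.1 h2) hx
      · rw [Subgroup.orderOf_coe, h2]
  · refine ro_of_odd_inner (m := d) (RO.rg (ro_one.ind _ ⊥)) hχ hr (by exact_mod_cast ho) ?_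
    rw [key]
    · simp
    · intro x hx
      exact absurd (Subsingleton.elim _ _) hx

theorem idx : IdxStmt.{u} := by
  intro G _ _ H hH hR hRe θ hθ hr
  classical
  have := Fintype.ofFinite G
  obtain ⟨a, ha0, ha⟩ := exists_pos_nat_of_isIrr hθ
  have h1 : indFun H θ 1 = (H.index * a : ℕ) := by rw [indFun_one, ha]; simp
  obtain ⟨χ, hχ, h2⟩ := exists_constituent (cf_indFun H θ) (by
    rw [h1]; exact_mod_cast mul_ne_zero H.index_ne_zero_of_finite ha0.ne')
  obtain ⟨b, hb0, hb⟩ := exists_pos_nat_of_isIrr hχ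
  have hind := isCharacter_indFun H (isChar_of_isIrr hθ)
  obtain ⟨e, he⟩ := exists_nat_inner hind (isChar_of_isIrr hχ)
  have hres := isChar_restrict (isChar_of_isIrr hχ) H
  have he' : classInner (fun x : H => χ x) θ = e := by
    rw [inner_comm_of_isChar hres (isChar_of_isIrr hθ), ← frobenius H θ (isClass_of_isIrr hχ), he]
  have h3 := mul_deg_le hind hχ he h1 hb
  have h4 := mul_deg_le hres hθ he' (a := b) hb ha
  have h5 : H.index ≤ 2 := Nat.le_of_dvd two_pos hH
  have he0 : e ≠ 0 := by rintro rfl; exact h2 (by simpa using he)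
  have he1 : e = 1 := by
    by_contra h
    have : 2 ≤ e := by omega
    nlinarith
  subst he1
  exact ro_of_odd_inner (m := 1) (RO.rg ((hR χ hχ (hRe.im (isChar_of_isIrr hχ))).comp H.subtype))
    hθ hr odd_one (by simpa using he')

theorem fsInd_of_ro {G : Type u} [Group G] [Fintype G] {χ : G → ℂ} (hχ : IsIrrCharacter G χ)
    (h : RO χ) : ∑ g : G, χ (g * g) = Nat.card G := by
  classical
  have hr := h.conj
  obtain ⟨n, ρ, hρ⟩ := h
  set σ := baseRep Complex.ofRealHom ρ with hσ
  have hc : σ.character = χ := by rw [hρ]; exact funext (character_baseRep _ ρ)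
  haveI : σ.IsIrreducible := (isIrreducible_iff_isIrr σ).2 (hc ▸ hχ)
  let M : G → Matrix (Fin n) (Fin n) ℂ := fun g => LinearMap.toMatrix' (σ g)
  have hM : ∀ g h, M (g * h) = M g * M h := fun g h => by
    simp only [M, map_mul, LinearMap.toMatrix'_mul]
  have hM1 : M 1 = 1 := by simp [M, Module.End.one_eq_id]
  have hMt : ∀ g, (M g)ᵀ = (M g)ᴴ := fun g => by
    ext i j
    simp [M, hσ, toMatrix'_baseRep]
  have htr : ∀ g, χ g = (M g).trace := fun g => by
    rw [← hc, Representation.character, ← Matrix.trace_toLin'_eq, Matrix.toLin'_toMatrix']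
  let T : Matrix (Fin n) (Fin n) ℂ → Matrix (Fin n) (Fin n) ℂ := fun X => ∑ g, M g * X * (M g)ᵀ
  have hT : ∀ X h, M h * T X * (M h)ᵀ = T X := fun X h => by
    simp only [T, Finset.mul_sum, Finset.sum_mul]
    refine Fintype.sum_equiv (Equiv.mulLeft h) _ _ fun g => ?_
    simp [hM, Matrix.mul_assoc]
  have hTt : ∀ X, (T X)ᵀ = T Xᵀ := fun X => by
    simp [T, Matrix.transpose_sum, Matrix.mul_assoc]
  have hS : IsUnit (T 1) := by
    refine Matrix.PosDef.isUnit ?_
    simp only [T, Matrix.mul_one, hMt]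
    rw [← Finset.add_sum_erase _ _ (Finset.mem_univ 1), hM1, Matrix.conjTranspose_one, mul_one]
    exact Matrix.PosDef.one.add_posSemidef
      (Matrix.posSemidef_sum _ fun g _ => Matrix.posSemidef_self_mul_conjTranspose _)
  obtain ⟨S, hS⟩ := hS
  have hsym : ∀ X, (T X)ᵀ = T X := by
    intro X
    set A := (T X)ᵀ - T X with hA
    have hA1 : ∀ h, M h * A * (M h)ᵀ = A := fun h => by
      rw [hA, hTt, mul_sub, sub_mul, hT, hT]
    have hA2 : Aᵀ = -A := by simp [hA]
    have h1 : ∀ h, (M h)ᵀ * (S⁻¹).val * M h = (S⁻¹).val := by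
      intro h
      have h2 : S.val * (M h)ᵀ = M h⁻¹ * S.val := by
        rw [hS]
        conv_rhs => rw [← hT 1 h, ← mul_assoc, ← mul_assoc, ← hM, inv_mul_cancel, hM1, one_mul]
      rw [← Units.mul_right_inj S, ← mul_assoc, ← mul_assoc, h2, Units.mul_inv_cancel_right,
        ← hM, inv_mul_cancel, hM1, Units.mul_inv]
    obtain ⟨c, hc⟩ := exists_eq_smul_of_comm σ (Matrix.toLin' (A * (S⁻¹).val))
      (fun h => by
        apply LinearMap.toMatrix'.injective
        rw [LinearMap.toMatrix'_mul, LinearMap.toMatrix'_mul, LinearMap.toMatrix'_toLin']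
        show _ * M h = M h * _
        conv_lhs => rw [← hA1 h]
        conv_rhs => rw [← h1 h]
        simp only [mul_assoc])
    have h3 : A = c • S.val := by
      have := congrArg LinearMap.toMatrix' hc
      rw [LinearMap.toMatrix'_toLin', map_smul, Module.End.one_eq_id, LinearMap.toMatrix'_id,
        Units.mul_inv_eq_iff_eq_mul] at this
      simpa using this
    have h4 : Aᵀ = A := by rw [h3, Matrix.transpose_smul, hS, hTt, Matrix.transpose_one]
    have h5 : (2 : ℂ) • A = 0 := by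
      rw [two_smul]
      nth_rewrite 1 [← h4]
      rw [hA2, neg_add_cancel]
    exact sub_eq_zero.1 ((smul_eq_zero.1 h5).resolve_left two_ne_zero)
  have h6 : ∀ a b i j, T (Matrix.single a b 1) i j = ∑ g, M g i a * M g j b := by
    intro a b i j
    simp only [T, Matrix.sum_apply]
    refine Finset.sum_congr rfl fun g _ => ?_
    simp [Matrix.mul_apply, Matrix.single_apply, ite_and]
  have h7 : ∀ i j, ∑ g, M g i j * M g j i = ∑ g, M g j j * M g i i := fun i j => by
    rw [← h6, ← h6]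
    exact congrFun (congrFun (hsym _).symm i) j
  rw [← sum_mul_conj_of_isIrr hχ]
  simp only [hr]
  simp only [htr, hM, Matrix.trace, Matrix.diag_apply, Matrix.mul_apply, Finset.sum_mul_sum]
  rw [Finset.sum_comm, Finset.sum_comm (f := fun g i => ∑ j, M g i i * M g j j)]
  refine Finset.sum_congr rfl fun i _ => ?_
  rw [Finset.sum_comm, Finset.sum_comm (f := fun g j => M g i i * M g j j)]
  refine Finset.sum_congr rfl fun j _ => ?_
  rw [h7]
  exact Finset.sum_congr rfl fun g _ => mul_comm _ _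

theorem fs : FsStmt.{u} := by
  intro G _ _ h1 h2 χ
  have := Fintype.ofFinite G
  rw [finsum_eq_sum_of_fintype]
  exact fsInd_of_ro χ.2 (h1 _ χ.2 (h2.im (isChar_irr χ)))

end Cfsg.Agent.FS
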