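import Cfsg.Agent.Lib.FS.Heis
import Cfsg.Agent.Lib.FS.Real2

/-!
# The main induction
-/

set_option autoImplicit false
set_option linter.unusedSectionVars false
set_option linter.style.haveILetI false

namespace Cfsg.Agent.FS

open Module QS

universe u

section plane
variable {F : Type u} [Field F] [CharP F 2]

theorem exists_om_equiv {t : F × F} (ht : t ≠ 0) :
    ∃ e : (F × F) ≃ₗ[F] F × F, e (1, 0) = t ∧ ∀ x y, om (e x) (e y) = om x y := by
  obtain ⟨s, hs⟩ : ∃ s, om t s = 1 := by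
    by_cases h : t.1 = 0
    · have h2 : t.2 ≠ 0 := fun e => ht (Prod.ext h e)
      exact ⟨(t.2⁻¹, 0), by simp [om, h2]⟩
    · exact ⟨(0, t.1⁻¹), by simp [om, h]⟩
  simp only [om] at hs
  refine ⟨{ toFun := fun x => (x.1 * t.1 + x.2 * s.1, x.1 * t.2 + x.2 * s.2)
            invFun := fun y => (y.1 * s.2 + y.2 * s.1, y.1 * t.2 + y.2 * t.1)
            map_add' := fun a b => by ext <;> simp <;> ring
            map_smul' := fun c a => by ext <;> simp <;> ring
            left_inv := fun x => by ext <;> simp only <;> grind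
            right_inv := fun x => by ext <;> simp only <;> grind }, by simp, fun x y => ?_⟩
  simp only [om, LinearEquiv.coe_mk, LinearMap.coe_mk, AddHom.coe_mk]
  grind

theorem plane_map {W : Type*} [AddCommGroup W] [Module F W] (φ : F × F →ₗ[F] W) (t : F × F) :
    φ t = t.1 • φ (1, 0) + t.2 • φ (0, 1) := by
  rw [← map_smul, ← map_smul, ← map_add]
  simp

variable {D : Type u} [Group D]

/-- faithful action on the plane of determinant one -/
structure Adm (σ : D →* (F × F) ≃ₗ[F] F × F) : Prop where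
  inj : Function.Injective σ
  om : ∀ d x y, om (σ d x) (σ d y) = om x y
  four : ¬ 4 ∣ Nat.card D

theorem Adm.rr {σ : D →* (F × F) ≃ₗ[F] F × F} [Finite D] (h : Adm σ) {E : Type u} [Group E]
    (f : E →* D) (hf : Function.Injective f) : RR E :=
  haveI := Finite.of_injective f hf
  FS.four E fun e => h.four (e.trans (Subgroup.card_dvd_of_injective f hf))

variable {V : Type u} [AddCommGroup V] [Module F V] (q : QS F V)

/-- change of basis in the plane -/
theorem wlog_plane {σ : D →* (F × F) ≃ₗ[F] F × F} (h : Adm σ) (φ : F × F →ₗ[F] V) {t : F × F}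
    (ht : t ≠ 0) : ∃ (σ' : D →* (F × F) ≃ₗ[F] F × F) (e : (F × F) ≃ₗ[F] F × F), Adm σ' ∧
      e (1, 0) = t ∧ (∀ d, σ d t = t → σ' d (1, 0) = (1, 0)) ∧
      q.G3 σ φ = q.G3 σ' (φ ∘ₗ e.toLinearMap) := by
  obtain ⟨e, h1, h2⟩ := exists_om_equiv ht
  have h3 : ∀ d x, e ((MulAut.conj e⁻¹).toMonoidHom.comp σ d x) = σ d (e x) := fun d x =>
    e.apply_symm_apply _
  refine ⟨(MulAut.conj e⁻¹).toMonoidHom.comp σ, e, ⟨(MulAut.conj e⁻¹).injective.comp h.inj,
    fun d x y => by rw [← h2, h3, h3, h.om, h2], h.four⟩, h1, fun d hd => e.injective ?_, ?_⟩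
  · rw [h3, h1, hd]
  · ext p
    simp only [mem_G3, LinearMap.comp_apply, LinearEquiv.coe_coe, h3]
    exact e.surjective.forall

end plane

variable {F V : Type u} [Field F] [Finite F] [CharP F 2] [AddCommGroup V] [Module F V] [Finite V]
  {q : QS F V}

variable (q) in
/-- the family of plane stabilizers -/
def Fam3 : Prop :=
  ∀ (D : Type u) [Group D] [Finite D] (σ : D →* (F × F) ≃ₗ[F] F × F), Adm σ →
    ∀ φ : F × F →ₗ[F] V, RR (q.G3 σ φ)

/-- the induction hypothesis -/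
def IH3 (n : ℕ) : Prop :=
  ∀ (F V : Type u) [Field F] [Finite F] [CharP F 2] [AddCommGroup V] [Module F V] [Finite V]
    (q : QS F V), finrank F V < n → Fam3 q

section g3
variable {D : Type u} [Group D] [Finite D] {σ : D →* (F × F) ≃ₗ[F] F × F} (hσ : Adm σ)
  {φ : F × F →ₗ[F] V} (hP : Good.{u} RR)
include hσ hP

theorem g3_nd (ih : IH.{u} RR (finrank F V)) (h : q.B (φ (1, 0)) (φ (0, 1)) ≠ 0) :
    RR (q.G3 σ φ) := by
  have hW := ndeg_pair h
  have hm : ∀ t, φ t ∈ Submodule.span F {φ (1, 0), φ (0, 1)} := fun t =>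
    Submodule.mem_span_pair.2 ⟨_, _, (plane_map φ t).symm⟩
  have hs : ∀ w ∈ Submodule.span F {φ (1, 0), φ (0, 1)}, ∃ t, φ t = w := fun w hw => by
    obtain ⟨a, b, rfl⟩ := Submodule.mem_span_pair.1 hw
    exact ⟨(a, b), plane_map φ _⟩
  let E := (q.res _ hW).G3 σ (φ.codRestrict _ hm)
  have hE : RR E := hσ.rr ((MonoidHom.fst _ _).comp E.subtype)
    ((injective_iff_map_eq_one _).2 fun p hp => Subtype.ext (Prod.ext hp (O_ext fun w => by
      obtain ⟨t, ht⟩ := hs w w.2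
      have h1 := p.2 t
      rw [show p.1.1 = 1 from hp, map_one] at h1
      rw [show w = φ.codRestrict _ hm t from Subtype.ext ht.symm]
      exact h1)))
  refine hP.range (L := D × q.O) (G := E × (q.res _ (ndeg_perp hW)).O)
    (MonoidHom.mk' (fun p => (p.1.1.1, sumHom hW (p.1.1.2, p.2))) fun a b =>
      Prod.ext rfl (map_mul (sumHom hW) (a.1.1.2, a.2) (b.1.1.2, b.2))) _
    (fun g t => ?_) (fun g hg => ?_) (hP.prod hE (ih F _ _ (finrank_perp_lt hW fun e => h ?_)).o)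
  · simp only [MonoidHom.mk'_apply]
    rw [sumHom_left hW _ (hm t)]
    exact congrArg Subtype.val (g.1.2 t)
  · have h1 : ∀ x ∈ Submodule.span F {φ (1, 0), φ (0, 1)},
        g.2 x ∈ Submodule.span F {φ (1, 0), φ (0, 1)} := fun x hx => by
      obtain ⟨t, rfl⟩ := hs x hx
      rw [hg]
      exact hm _
    exact ⟨(⟨(g.1, resO hW g.2 h1), fun t => Subtype.ext (hg t)⟩, _),
      Prod.ext rfl (sumHom_resO hW g.2 h1)⟩
  · have := hm (1, 0)
    rw [e] at this
    simp [show φ (1, 0) = 0 from this]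

theorem g3_ts (heis : HeisStmt.{u}) (ih : IH.{u} RR (finrank F V)) (ih3 : IH3.{u} (finrank F V))
    (hi : Function.Injective φ) (h : ∀ t, q.Q (φ t) = 0) : RR (q.G3 σ φ) := by
  haveI : Fact (Nat.Prime 2) := ⟨Nat.prime_two⟩
  obtain ⟨S⟩ : Nonempty (Sylow 2 D) := inferInstance
  obtain ⟨t, ht, hf⟩ := exists_fix S.isPGroup'
    (LinearEquiv.automorphismGroup.toLinearMapMonoidHom.comp (σ.comp S.1.subtype))
  obtain ⟨σ', e, hσ', -, h2, h3⟩ := wlog_plane q hσ φ ht
  rw [h3]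
  have hi' : Function.Injective (φ ∘ₗ e.toLinearMap) := hi.comp e.injective
  have h' : ∀ t, q.Q ((φ ∘ₗ e.toLinearMap) t) = 0 := fun t => h _
  generalize φ ∘ₗ e.toLinearMap = φ' at hi' h'
  have hB : q.B (φ' (1, 0)) (φ' (0, 1)) = 0 := by
    have := q.add (φ' (1, 0)) (φ' (0, 1))
    rw [← map_add, h', h', h'] at this
    simpa using this.symm
  obtain ⟨W, hW, e1, he1, a1, a2, hx, d1⟩ := exists_split (h' (1, 0)) hB fun c hc => by
    rw [← map_smul] at hc
    simpa using hi' hc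
  obtain ⟨W', hW', e2, he2, b1, -, -, d2⟩ := exists_split (q := q.res W hW) (v := ⟨_, hx⟩) (x := 0)
    (h' (0, 1)) (by simp) fun c hc => by
      have : φ' (0, 1) = φ' 0 := by simpa using (congrArg Subtype.val hc).symm
      simpa using hi' this
  have := G3_congr (q := ((q.res W hW).res W' hW').hyp.hyp) (q' := q)
    ((LinearEquiv.refl F F).prodCongr (e2.prodCongr (LinearEquiv.refl F F)) ≪≫ₗ e1)
    (fun x => by rw [LinearEquiv.trans_apply, he1, hyp_Q, hyp_Q, ← he2]; rfl) hP σ' pl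
    (heis_model _ heis σ' hσ'.om S ?_ (fun d hd => h2 d (hf ⟨d, hd⟩))
      (rr_prod (hσ.rr (MonoidHom.id D) Function.injective_id) (ih F _ _ (by omega)).o)
      (ih3 F _ _ (by omega) D σ' hσ'))
  · refine (show φ' = _ from LinearMap.ext fun t => ?_) ▸ this
    rw [plane_map φ' t, plane_map (_ ∘ₗ _) t]
    congr 2
    · rw [← a1]
      show _ = e1 (1, e2 0, 0)
      rw [map_zero]
    · show _ = e1 (0, e2 (1, 0, 0), 0)
      rw [b1, a2]
  · exact Nat.odd_iff.2 (Nat.two_dvd_ne_zero.1 S.not_dvd_index)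

theorem g3_r1 (hF : Fam RR q) (h : φ (1, 0) = 0) (h0 : φ (0, 1) ≠ 0) : RR (q.G3 σ φ) := by
  let D₁ : Subgroup D :=
    { carrier := {d | (σ d (1, 0)).2 = 0}
      one_mem' := by simp
      mul_mem' := fun {a b} ha hb => by
        show (σ (a * b) (1, 0)).2 = 0
        rw [map_mul, LinearEquiv.mul_apply, plane_apply, ha, hb]
        simp
      inv_mem' := fun {a} ha => by
        have h1 := hσ.om a (σ a⁻¹ (1, 0)) (1, 0)
        rw [← LinearEquiv.mul_apply, ← map_mul, mul_inv_cancel, map_one] at h1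
        simp only [om, LinearEquiv.coe_one, id] at h1
        rw [ha] at h1
        simpa using h1.symm }
  let μ : D₁ →* F :=
    { toFun := fun d => (σ d (0, 1)).2
      map_one' := by simp
      map_mul' := fun a b => by
        rw [Subgroup.coe_mul, map_mul, LinearEquiv.mul_apply, plane_apply, a.2]
        simp [mul_comm] }
  refine hP.range ((D₁.subtype.prodMap (MonoidHom.id _)).comp
    (q.G1 μ.toHomUnits (φ (0, 1))).subtype) _ (fun g t => ?_) (fun g hg => ?_)
    (hF.g1 _ _ _ fun D' => hσ.rr (D₁.subtype.comp D'.subtype)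
      (D₁.subtype_injective.comp D'.subtype_injective))
  · show g.1.2 (φ t) = φ (σ g.1.1 t)
    obtain ⟨a, b⟩ := t
    rw [plane_map φ (a, b), plane_map φ (σ _ (a, b)), h, smul_zero, smul_zero, zero_add, zero_add,
      map_smul, g.2, plane_apply, g.1.1.2, smul_smul]
    simp [μ]
  · have h1 := hg (1, 0)
    have h2 := hg (0, 1)
    rw [h, map_zero, plane_map φ, h, smul_zero, zero_add] at h1
    rw [plane_map φ (σ _ _), h, smul_zero, zero_add] at h2
    exact ⟨⟨(⟨g.1, (smul_eq_zero.1 h1.symm).resolve_right h0⟩, g.2), h2⟩, rfl⟩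

theorem g3_mixed (hF : Fam RR q) (hi : Function.Injective φ) (h1 : q.Q (φ (1, 0)) = 0)
    (h2 : q.Q (φ (0, 1)) ≠ 0) (h3 : q.B (φ (1, 0)) (φ (0, 1)) = 0) : RR (q.G3 σ φ) := by
  let S : AddSubgroup F :=
    { carrier := {c | ∃ d, σ d (1, 0) = (1, 0) ∧ σ d (0, 1) = (c, 1)}
      zero_mem' := ⟨1, by simp, by simp⟩
      add_mem' := by
        rintro a b ⟨d, h1, h2⟩ ⟨d', h1', h2'⟩
        refine ⟨d * d', by simp [h1, h1'], ?_⟩
        rw [map_mul, LinearEquiv.mul_apply, h2', plane_apply, h1, h2]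
        simp [add_comm]
      neg_mem' := fun h => by rwa [CharTwo.neg_eq] }
  have hm : ∀ g : q.G3 σ φ, g.1.2 ∈ q.G2 S (φ (1, 0)) (φ (0, 1)) := fun g => by
    have a1 := isoQ g.1.2 (φ (1, 0))
    have a2 := isoQ g.1.2 (φ (0, 1))
    have a3 := hσ.om g.1.1 (1, 0) (0, 1)
    rw [g.2, plane_map φ (σ _ _)] at a1 a2
    simp only [q.add, q.smul, h1, h3, map_smul, LinearMap.smul_apply, smul_zero, mul_zero,
      zero_add, add_zero] at a1 a2
    have b1 : (σ g.1.1 (1, 0)).2 = 0 := by simpa [h2] using a1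
    have b2 : (σ g.1.1 (0, 1)).2 ^ 2 = 1 := mul_right_cancel₀ h2 (by simpa using a2)
    have b3 : (σ g.1.1 (0, 1)).2 = 1 := by grind
    have b4 : σ g.1.1 (1, 0) = (1, 0) := Prod.ext (by simpa [om, b1, b3] using a3) b1
    refine ⟨by rw [g.2, b4], (σ g.1.1 (0, 1)).1, ⟨g.1.1, b4, Prod.ext rfl b3⟩, ?_⟩
    rw [g.2, plane_map φ (σ _ _), b3, one_smul, add_comm]
  refine hP.equiv (MulEquiv.ofBijective (((MonoidHom.snd _ _).comp
    (q.G3 σ φ).subtype).codRestrict _ hm) ⟨(injective_iff_map_eq_one _).2 fun g hg => ?_, ?_⟩).symm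
    (hF.g2 S _ _ h1 (fun e => by simpa using hi (e.trans (map_zero φ).symm)) h2 h3)
  · have a1 : g.1.2 = 1 := congrArg Subtype.val hg
    refine Subtype.ext (Prod.ext (hσ.inj (LinearEquiv.ext fun t => hi ?_)) a1)
    rw [← g.2, a1]
    simp
  · rintro ⟨g, a1, s, ⟨d, a2, a3⟩, a4⟩
    refine ⟨⟨(d, g), fun ⟨x, y⟩ => ?_⟩, rfl⟩
    rw [plane_apply, a2, a3, plane_map φ (x, y), plane_map φ (_ + _, _), map_add, map_smul,
      map_smul]
    simp only [a1, a4]
    module

end g3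

theorem step_fam3 (hP : Good.{u} RR) (heis : HeisStmt.{u}) (ih : IH.{u} RR (finrank F V))
    (ih3 : IH3.{u} (finrank F V)) (hF : Fam RR q) : Fam3 q := by
  intro D _ _ σ hσ φ
  by_cases hi : Function.Injective φ
  · by_cases h1 : q.B (φ (1, 0)) (φ (0, 1)) = 0
    swap
    · exact g3_nd hσ hP ih h1
    by_cases h2 : ∀ t, q.Q (φ t) = 0
    · exact g3_ts hσ hP heis ih ih3 hi h2
    have hB : ∀ s t, q.B (φ s) (φ t) = 0 := fun s t => by
      rw [plane_map φ s, plane_map φ t]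
      simp [h1, q.symm (φ (0, 1))]
    obtain ⟨t, ht, ht'⟩ : ∃ t, t ≠ 0 ∧ q.Q (φ t) = 0 := by
      by_cases h3 : q.Q (φ (1, 0)) = 0
      · exact ⟨(1, 0), by simp, h3⟩
      · obtain ⟨c, hc⟩ := exists_sing h3 h1
        exact ⟨(c, 1), by simp, by rw [plane_map φ, one_smul, add_comm, hc]⟩
    obtain ⟨σ', e, hσ', h3, -, h4⟩ := wlog_plane q hσ φ ht
    rw [h4]
    have h5 : q.Q ((φ ∘ₗ e.toLinearMap) (1, 0)) = 0 := by simpa [h3] using ht'
    refine g3_mixed hσ' hP hF (hi.comp e.injective) h5 (fun h6 => h2 fun s => ?_) (hB _ _)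
    obtain ⟨s, rfl⟩ := e.surjective s
    show q.Q ((φ ∘ₗ e.toLinearMap) s) = 0
    rw [plane_map, q.add, q.smul, q.smul, h5, h6]
    simp [hB]
  · obtain ⟨t, ht, ht0⟩ : ∃ t, φ t = 0 ∧ t ≠ 0 := by
      simpa [injective_iff_map_eq_zero] using hi
    obtain ⟨σ', e, hσ', h3, -, h4⟩ := wlog_plane q hσ φ ht0
    rw [h4]
    have h5 : (φ ∘ₗ e.toLinearMap) (1, 0) = 0 := by simpa [h3] using ht
    by_cases h6 : (φ ∘ₗ e.toLinearMap) (0, 1) = 0
    · rw [show q.G3 σ' (φ ∘ₗ e.toLinearMap) = ⊤ from eq_top_iff.2 fun g _ s => by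
        rw [plane_map, plane_map _ (σ' _ _), h5, h6]; simp]
      exact hP.top (rr_prod (hσ.rr (MonoidHom.id D) Function.injective_id) hF.o)
    · exact g3_r1 hσ' hP hF h5 h6

end Cfsg.Agent.FS
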