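import Cfsg.Agent.Lib.FS.Main
import Cfsg.Agent.Lib.FS.Cyc
import Cfsg.Agent.Lib.FS.FE

/-!
# The main induction, concluded
-/

set_option autoImplicit false
set_option linter.unusedSectionVars false
set_option linter.style.haveILetI false

namespace Cfsg.Agent.FS

open Module QS

universe u

theorem isPGroup_zpowers {G : Type*} [Group G] {g : G} {k : ℕ} (hk : g ^ 2 ^ k = 1) :
    IsPGroup 2 (Subgroup.zpowers g) := by
  rintro ⟨_, m, rfl⟩
  refine ⟨k, Subtype.ext ?_⟩
  show (g ^ m) ^ 2 ^ k = 1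
  rw [← zpow_natCast, ← zpow_mul, mul_comm, zpow_mul, zpow_natCast, hk, one_zpow]

/-- a dihedral group -/
theorem exists_dihedral {G : Type*} [Group G] [Finite G] {α τ : G} (hτ : τ * τ = 1)
    (h : τ * α * τ = α⁻¹) (ho : Odd (orderOf α)) :
    ∃ D : Subgroup G, α ∈ D ∧ τ ∈ D ∧ ¬ 4 ∣ Nat.card D ∧
      ∀ K : Subgroup G, α ∈ K → τ ∈ K → D ≤ K := by
  have hi : τ⁻¹ = τ := inv_eq_of_mul_eq_one_right hτ
  have h1 : ∀ d ∈ Subgroup.zpowers α, τ * d * τ ∈ Subgroup.zpowers α := by
    rintro _ ⟨m, rfl⟩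
    have : τ * α ^ m * τ = α⁻¹ ^ m := by
      rw [← h]; nth_rewrite 2 [← hi]; nth_rewrite 4 [← hi]; exact conj_zpow.symm
    simp only [this]
    exact zpow_mem (inv_mem (Subgroup.mem_zpowers α)) m
  have h2 : ∀ x, x * τ * τ = x := fun x => by rw [mul_assoc, hτ, mul_one]
  let D : Subgroup G :=
    { carrier := {d | d * τ ∈ Subgroup.zpowers α ∨ d ∈ Subgroup.zpowers α}
      one_mem' := Or.inr (one_mem _)
      mul_mem' := by
        rintro a b (ha | ha) (hb | hb)
        · right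
          have := mul_mem ha (h1 _ hb)
          rwa [← mul_assoc, ← mul_assoc, ← mul_assoc, h2, h2] at this
        · left
          have := mul_mem ha (h1 _ hb)
          rwa [← mul_assoc, ← mul_assoc, h2] at this
        · left
          rw [mul_assoc]
          exact mul_mem ha hb
        · exact Or.inr (mul_mem ha hb)
      inv_mem' := by
        rintro a (ha | ha)
        · left
          have := h1 _ (inv_mem ha)
          rwa [mul_inv_rev, hi, ← mul_assoc, hτ, one_mul] at this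
        · exact Or.inr (inv_mem ha) }
  have hτD : τ ∈ D := Or.inl (hτ ▸ one_mem _)
  have hle : Subgroup.zpowers α ≤ D := fun x hx => Or.inr hx
  refine ⟨D, hle (Subgroup.mem_zpowers α), hτD, fun h4 => ?_, fun K ha ht d hd => ?_⟩
  · have h3 : ((Subgroup.zpowers α).subgroupOf D).index ∣ 2 :=
      Subgroup.index_dvd_two_iff.2 ⟨⟨τ, hτD⟩, fun b => b.2⟩
    rw [← ((Subgroup.zpowers α).subgroupOf D).card_mul_index,
      Nat.card_congr (Subgroup.subgroupOfEquivOfLe hle).toEquiv, Nat.card_zpowers] at h4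
    have h5 := h4.trans (mul_dvd_mul_left _ h3)
    obtain ⟨k, hk⟩ := ho
    omega
  · rcases hd with hd | hd
    · rw [← h2 d]
      exact mul_mem (Subgroup.zpowers_le.2 ha hd) ht
    · exact Subgroup.zpowers_le.2 ha hd

variable {F V : Type u} [Field F] [Finite F] [CharP F 2] [AddCommGroup V] [Module F V] [Finite V]
  {q : QS F V}

theorem step_o_re (hP : Good.{u} Re) (ih : IH.{u} Re (finrank F V)) : Re q.O := by
  intro g
  by_cases hg : ∃ k : ℕ, g ^ 2 ^ k = 1
  · obtain ⟨k, hk⟩ := hg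
    obtain ⟨M, hM, h⟩ := step_two hP ih _ (isPGroup_zpowers hk)
    exact isConj_inv_of_mem hM (h (Subgroup.mem_zpowers g))
  by_cases hW : ∀ W : Submodule F V, (∀ x ∈ W, g x ∈ W) → q.NDeg W → W = ⊥ ∨ W = ⊤
  · obtain ⟨s, hs, -⟩ := cyc F V q g hW (by simpa using hg)
    exact isConj_iff.2 ⟨s, hs⟩
  · push Not at hW
    obtain ⟨W, h1, hW, h2, h3⟩ := hW
    obtain ⟨d1, d2⟩ := finrank_lt_of_ne hW h2 h3
    exact isConj_inv_of_mem (hP.split_sstab hW (ih F _ _ d1).o (ih F _ _ d2).o) h1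

theorem step_scalar (hP : Good.{u} RR) (heis : HeisStmt.{u}) (ih : IH.{u} RR (finrank F V))
    (ih3 : IH3.{u} (finrank F V)) {a : q.O} {B : Subgroup q.O} (ho : Odd (orderOf a)) (ha : a ≠ 1)
    (hB : IsPGroup 2 B) (h : ∀ b ∈ B, b * a * b⁻¹ = a ∨ b * a * b⁻¹ = a⁻¹)
    (h' : ∃ b ∈ B, b * a * b⁻¹ = a⁻¹) {t : F} (ht : t ≠ 0) (hq : ∀ x, a (a x) = t • a x + x) :
    ∃ M : Subgroup q.O, RR M ∧ a ∈ M ∧ B ≤ M := by
  haveI : Nontrivial V := by
    by_contra hV
    rw [not_nontrivial_iff_subsingleton] at hV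
    exact ha (O_ext fun x => Subsingleton.elim _ _)
  obtain ⟨v, hv0, hv⟩ := exists_fix_O hB
  have hinv : ∀ x, a⁻¹ x = a x + t • x := fun x => by
    rw [inv_apply_eq, map_add, map_smul, hq, add_right_comm, vadd_self F, zero_add]
  have hb : ∀ b ∈ B, ∀ a', b * a * b⁻¹ = a' → b (a v) = a' v := by
    rintro b hb _ rfl
    rw [mul_apply, mul_apply, hv _ (inv_mem hb)]
  let φ : F × F →ₗ[F] V := (LinearMap.toSpanSingleton F V v).coprod
    (LinearMap.toSpanSingleton F V (a v))
  have hφ : ∀ s, φ s = s.1 • v + s.2 • a v := fun s => by simp [φ]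
  have hi : Function.Injective φ := (injective_iff_map_eq_zero _).2 fun s hs => by
    obtain ⟨b, hbB, hb'⟩ := h'
    have h1 := congrArg b hs
    rw [hφ, map_add, map_smul, map_smul, hv b hbB, hb b hbB _ hb', hinv, smul_add, ← add_assoc,
      ← hφ, hs, zero_add, map_zero, smul_smul] at h1
    have h2 : s.2 = 0 := by simpa [hv0, ht] using h1
    rw [hφ, h2, zero_smul, add_zero] at hs
    exact Prod.ext ((smul_eq_zero.1 hs).resolve_right hv0) h2
  let α : (F × F) ≃ₗ[F] F × F :=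
    { toFun := fun x => (x.2, x.1 + t * x.2)
      invFun := fun x => (x.2 + t * x.1, x.1)
      map_add' := fun a b => by ext <;> simp; ring
      map_smul' := fun c a => by ext <;> simp; ring
      left_inv := fun x => by ext <;> simp only; grind
      right_inv := fun x => by ext <;> simp only; grind }
  let τ : (F × F) ≃ₗ[F] F × F :=
    { toFun := fun x => (x.1 + t * x.2, x.2)
      invFun := fun x => (x.1 + t * x.2, x.2)
      map_add' := fun a b => by ext <;> simp; ring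
      map_smul' := fun c a => by ext <;> simp; ring
      left_inv := fun x => by ext <;> simp only; grind
      right_inv := fun x => by ext <;> simp only; grind }
  have hα : ∀ s, a (φ s) = φ (α s) := fun s => by
    simp only [hφ, map_add, map_smul, hq, α, LinearEquiv.coe_mk, LinearMap.coe_mk, AddHom.coe_mk]
    module
  have hαo : Odd (orderOf α) := by
    refine Odd.of_dvd_nat ho (orderOf_dvd_of_pow_eq_one (LinearEquiv.ext fun s => hi ?_))
    have : ∀ (n : ℕ) s, (a ^ n) (φ s) = φ ((α ^ n) s) := fun n => by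
      induction n with
      | zero => simp
      | succ n ih => intro s; rw [pow_succ, pow_succ, mul_apply, LinearEquiv.mul_apply, hα, ih]
    rw [← this, pow_orderOf_eq_one]
    rfl
  obtain ⟨D, hαD, hτD, h4, hD⟩ := exists_dihedral (α := α) (τ := τ)
    (LinearEquiv.ext fun x => τ.left_inv x) (LinearEquiv.ext fun x => by
      show τ (α (τ x)) = α.symm x
      simp only [α, τ, LinearEquiv.coe_mk, LinearMap.coe_mk, AddHom.coe_mk,
        LinearEquiv.coe_symm_mk]
      ext <;> simp only <;> grind) hαo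
  let K : Subgroup ((F × F) ≃ₗ[F] F × F) :=
    { carrier := {d | ∀ x y, om (d x) (d y) = om x y}
      one_mem' := fun _ _ => rfl
      mul_mem' := fun ha hb x y => (ha _ _).trans (hb x y)
      inv_mem' := fun {d} hd x y => by
        rw [← hd, ← LinearEquiv.mul_apply, ← LinearEquiv.mul_apply, mul_inv_cancel]; rfl }
  have hA : Adm D.subtype := ⟨D.subtype_injective, fun d => hD K (fun x y => by
    simp only [om, α, LinearEquiv.coe_mk, LinearMap.coe_mk, AddHom.coe_mk]; grind) (fun x y => by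
    simp only [om, τ, LinearEquiv.coe_mk, LinearMap.coe_mk, AddHom.coe_mk]; grind) d.2, h4⟩
  have hBv : q.B v (a v) = t * q.Q v := by
    have h1 := isoQ a⁻¹ v
    rw [hinv, q.add, q.smul, isoQ, map_smul, q.symm (a v), smul_eq_mul] at h1
    apply mul_left_cancel₀ ht
    grind
  have hG : RR (q.G3 D.subtype φ) := by
    by_cases hQ : q.Q v = 0
    · refine g3_ts hA hP heis ih ih3 hi fun s => ?_
      simp [hφ, q.add, q.smul, hQ, hBv]
    · exact g3_nd hA hP ih (by simp [hφ, hBv, ht, hQ])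
  refine ⟨((MonoidHom.snd _ _).comp (q.G3 D.subtype φ).subtype).range,
    hP.range _ _ (fun g => ⟨g, rfl⟩) (fun _ h => h) hG, ⟨⟨(⟨α, hαD⟩, a), hα⟩, rfl⟩,
    fun b hbB => ?_⟩
  rcases h b hbB with h1 | h1
  · exact ⟨⟨(1, b), fun s => by simp [hφ, hv b hbB, hb b hbB _ h1]⟩, rfl⟩
  · refine ⟨⟨(⟨τ, hτD⟩, b), fun s => ?_⟩, rfl⟩
    simp only [hφ, map_add, map_smul, hv b hbB, hb b hbB _ h1, hinv, Subgroup.coe_subtype, τ,
      LinearEquiv.coe_mk, LinearMap.coe_mk, AddHom.coe_mk]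
    module

theorem step_o_rr (hP : Good.{u} RR) (wb : WBStmt.{u}) (heis : HeisStmt.{u})
    (ih : IH.{u} RR (finrank F V)) (ih3 : IH3.{u} (finrank F V)) : RR q.O := by
  refine wb _ (step_two hP ih) fun a B ho ha hB h h' => ?_
  by_cases hW : ∀ W : Submodule F V, (∀ x ∈ W, a x ∈ W) → (∀ b ∈ B, ∀ x ∈ W, b x ∈ W) →
      q.NDeg W → W = ⊥ ∨ W = ⊤
  · rcases fe F V q a B ho ha h hW with ⟨t, ht, hq⟩ | ⟨K, _, _, _, _, q', f, hd, h1, h2⟩
    · exact step_scalar hP heis ih ih3 ho ha hB h h' ht hq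
    · exact ⟨f.range, hP.range f _ (fun g => ⟨g, rfl⟩) (fun _ h => h) (ih K V q' hd).o, h1, h2⟩
  · push Not at hW
    obtain ⟨W, h1, h1', hW, h2, h3⟩ := hW
    obtain ⟨d1, d2⟩ := finrank_lt_of_ne hW h2 h3
    exact ⟨_, hP.split_sstab hW (ih F _ _ d1).o (ih F _ _ d2).o, h1, h1'⟩

theorem ih_re (hP : Good.{u} Re) (n : ℕ) : IH.{u} Re n := by
  induction n with
  | zero => intro F V _ _ _ _ _ _ q h; omega
  | succ n ih =>
    intro F V _ _ _ _ _ _ q h
    have ih' : IH.{u} Re (finrank F V) := fun F' V' _ _ _ _ _ _ q' h' => ih F' V' q' (by omega)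
    exact step_fam hP ih' (step_o_re hP ih')

theorem ih_rr (hP : Good.{u} RR) (wb : WBStmt.{u}) (heis : HeisStmt.{u}) (n : ℕ) :
    IH.{u} RR n ∧ IH3.{u} n := by
  induction n with
  | zero => exact ⟨fun F V _ _ _ _ _ _ q h => by omega, fun F V _ _ _ _ _ _ q h => by omega⟩
  | succ n ih =>
    have key : ∀ (F V : Type u) [Field F] [Finite F] [CharP F 2] [AddCommGroup V] [Module F V]
        [Finite V] (q : QS F V), finrank F V < n + 1 → Fam RR q ∧ Fam3 q := by
      intro F V _ _ _ _ _ _ q h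
      have ih1 : IH.{u} RR (finrank F V) :=
        fun F' V' _ _ _ _ _ _ q' h' => ih.1 F' V' q' (by omega)
      have ih3 : IH3.{u} (finrank F V) := fun F' V' _ _ _ _ _ _ q' h' => ih.2 F' V' q' (by omega)
      have h1 := step_fam hP ih1 (step_o_rr (q := q) hP wb heis ih1 ih3)
      exact ⟨h1, step_fam3 hP heis ih1 ih3 h1⟩
    exact ⟨fun F V _ _ _ _ _ _ q h => (key F V q h).1, fun F V _ _ _ _ _ _ q h => (key F V q h).2⟩

theorem main_of (c1 : Cliff.{u} RR) (c2 : Cliff.{u} Re) (wb : WBStmt.{u}) (heis : HeisStmt.{u}) :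
    MainStmt.{u} := by
  intro F V _ _ _ _ _ _ q
  have h1 := (ih_rr (good_rr c1 wb) wb heis _).1 F V q (Nat.lt_succ_self _)
  have h2 := ih_re (good_re c2) _ F V q (Nat.lt_succ_self _)
  exact ⟨h1.o, h2.o, fun x _ => ⟨h1.st x, h2.st x⟩⟩

end Cfsg.Agent.FS
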