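import Cfsg.Agent.Lib.FS.Defs
import Cfsg.Agent.Lib.Ind.DefectZero
import Cfsg.Agent.S0188

/-!
# Characters of real representations
-/

set_option autoImplicit false

namespace Cfsg.Agent.FS

open Cfsg Cfsg.Agent.Char Cfsg.Agent.Ind Module
open scoped ComplexConjugate

universe u v

section ro
variable {G : Type u} [Group G]

theorem ro_rep {V : Type*} [AddCommGroup V] [Module ℝ V] [FiniteDimensional ℝ V]
    (ρ : Representation ℝ G V) : RO (fun g => ((ρ.character g : ℝ) : ℂ)) :=
  realOver_rep Complex.ofRealHom ρ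

theorem RO.comp {H : Type v} [Group H] {χ : G → ℂ} (h : RO χ) (f : H →* G) :
    RO (fun x => χ (f x)) := by
  obtain ⟨n, ρ, rfl⟩ := h
  exact ⟨n, ρ.comp f, rfl⟩

theorem RO.mul {χ ψ : G → ℂ} (h : RO χ) (h' : RO ψ) : RO (χ * ψ) := by
  obtain ⟨n, ρ, rfl⟩ := h
  obtain ⟨m, σ, rfl⟩ := h'
  have := ro_rep (ρ.tprod σ)
  rw [Representation.char_tensor] at this
  simpa [Pi.mul_def] using this

theorem RO.im {χ : G → ℂ} (h : RO χ) (g : G) : (χ g).im = 0 := by
  obtain ⟨n, ρ, rfl⟩ := h
  simp

theorem RO.conj {χ : G → ℂ} (h : RO χ) (g : G) : conj (χ g) = χ g :=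
  Complex.conj_eq_iff_im.2 (h.im g)

theorem ro_sign (lam : G →* ℂˣ) (h : ∀ g, lam g * lam g = 1) : RO (fun g => (lam g : ℂ)) :=
  realOver_hom _ lam fun g => by
    have h1 : (lam g : ℂ) * lam g = 1 := by simpa using congrArg Units.val (h g)
    rcases mul_self_eq_one_iff.1 h1 with h2 | h2
    · exact ⟨1, by simp [h2]⟩
    · exact ⟨-1, by simp [h2]⟩

theorem ro_one : RO (fun _ : G => (1 : ℂ)) := ro_sign (1 : G →* ℂˣ) (by simp)

theorem trace_restrict {n : ℕ} (f : (Fin n → ℂ) →ₗ[ℂ] (Fin n → ℂ)) :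
    ((LinearMap.trace ℝ _ (f.restrictScalars ℝ) : ℝ) : ℂ) =
      LinearMap.trace ℂ _ f + conj (LinearMap.trace ℂ _ f) := by
  classical
  rw [LinearMap.trace_eq_matrix_trace ℝ (Complex.basisOneI.smulTower (Pi.basisFun ℂ (Fin n))),
    LinearMap.trace_eq_matrix_trace ℂ (Pi.basisFun ℂ (Fin n)), Complex.add_conj]
  congr 1
  simp only [Matrix.trace, Matrix.diag_apply, LinearMap.toMatrix_apply, Fintype.sum_prod_type,
    Basis.smulTower_repr, Basis.smulTower_apply, LinearMap.restrictScalars_apply, map_smul,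
    Fin.sum_univ_two, Complex.re_sum, two_mul]
  simp

theorem ro_add_conj {η : G → ℂ} (h : IsCharacter G η) : RO (fun g => η g + conj (η g)) := by
  obtain ⟨n, ρ, rfl⟩ := h
  let σ : Representation ℝ G (Fin n → ℂ) :=
    { toFun := fun g => (ρ g).restrictScalars ℝ
      map_one' := by rw [map_one]; rfl
      map_mul' := fun a b => by rw [map_mul]; rfl }
  have := ro_rep σ
  convert this using 2 with g
  exact (trace_restrict (ρ g)).symm

/-- the trace of a real representation on the range of an equivariant idempotent -/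
theorem ro_trace_idem {V : Type*} [AddCommGroup V] [Module ℝ V] [FiniteDimensional ℝ V]
    (ρ : Representation ℝ G V) (P : Module.End ℝ V) (hP : P * P = P)
    (hc : ∀ g, P * ρ g = ρ g * P) :
    RO (fun g => ((LinearMap.trace ℝ V (P * ρ g) : ℝ) : ℂ)) := by
  let U : Subrepresentation ρ := ⟨LinearMap.range P, by
    rintro g _ ⟨v, rfl⟩
    exact ⟨ρ g v, LinearMap.congr_fun (hc g) v⟩⟩
  have : ∀ g, LinearMap.trace ℝ V (P * ρ g) = U.toRepresentation.character g := by
    intro g
    have h1 : P * ρ g = (LinearMap.range P).subtype ∘ₗ (P.rangeRestrict ∘ₗ ρ g) := rfl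
    rw [h1, LinearMap.trace_comp_comm', Representation.character]
    congr 1
    ext ⟨_, v, rfl⟩
    show P (ρ g (P v)) = ρ g (P v)
    have h2 := LinearMap.congr_fun (hc g) (P v)
    have h3 := LinearMap.congr_fun hP v
    simp only [Module.End.mul_apply] at h2 h3
    rw [h2, h3]
  simp only [this]
  exact ro_rep _

variable (G) in
/-- virtual characters of real representations -/
def RG : AddSubgroup (G → ℂ) := AddSubgroup.closure {χ | RO χ}

theorem RO.rg {χ : G → ℂ} (h : RO χ) : χ ∈ RG G := AddSubgroup.subset_closure h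

theorem RG.induction {P : (G → ℂ) → Prop} (h0 : ∀ χ, RO χ → P χ)
    (hsub : ∀ a b, P a → P b → P (a - b)) {f : G → ℂ} (hf : f ∈ RG G) : P f := by
  have hz : P 0 := h0 _ (realOver_zero _)
  induction hf using AddSubgroup.closure_induction with
  | mem f hf => exact h0 f hf
  | zero => exact hz
  | add a b _ _ ha hb => simpa using hsub a (0 - b) ha (hsub 0 b hz hb)
  | neg a _ ha => simpa using hsub 0 a hz ha

theorem RG.exists_sub {f : G → ℂ} (hf : f ∈ RG G) : ∃ a b, RO a ∧ RO b ∧ f = a - b :=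
  RG.induction (P := fun f => ∃ a b, RO a ∧ RO b ∧ f = a - b)
    (fun χ h => ⟨χ, 0, h, realOver_zero _, by simp⟩)
    (by
      rintro _ _ ⟨a, b, ha, hb, rfl⟩ ⟨c, d, hc, hd, rfl⟩
      exact ⟨a + d, b + c, ha.add _ hd, hb.add _ hc, by ring⟩) hf

theorem RG.isGen {f : G → ℂ} (hf : f ∈ RG G) : IsGeneralizedCharacter G f := by
  obtain ⟨a, b, ha, hb, rfl⟩ := RG.exists_sub hf
  exact ⟨a, b, ha.isChar, hb.isChar, rfl⟩

theorem RG.im {f : G → ℂ} (hf : f ∈ RG G) (g : G) : (f g).im = 0 := by
  obtain ⟨a, b, ha, hb, rfl⟩ := RG.exists_sub hf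
  simp [ha.im, hb.im]

theorem RG.mul {f f' : G → ℂ} (hf : f ∈ RG G) (hf' : f' ∈ RG G) : f * f' ∈ RG G := by
  obtain ⟨a, b, ha, hb, rfl⟩ := RG.exists_sub hf
  obtain ⟨c, d, hc, hd, rfl⟩ := RG.exists_sub hf'
  have : (a - b) * (c - d) = (a * c - a * d) - (b * c - b * d) := by ring
  rw [this]
  exact sub_mem (sub_mem (ha.mul hc).rg (ha.mul hd).rg) (sub_mem (hb.mul hc).rg (hb.mul hd).rg)

theorem RG.comp {H : Type v} [Group H] {f : G → ℂ} (hf : f ∈ RG G) (φ : H →* G) :
    (fun x => f (φ x)) ∈ RG H := by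
  obtain ⟨a, b, ha, hb, rfl⟩ := RG.exists_sub hf
  exact sub_mem (ha.comp φ).rg (hb.comp φ).rg

theorem RG.ind [Fintype G] (H : Subgroup G) {f : H → ℂ} (hf : f ∈ RG H) :
    indFun H f ∈ RG G := by
  obtain ⟨a, b, ha, hb, rfl⟩ := RG.exists_sub hf
  rw [indFun_sub]
  exact sub_mem (RO.rg (ha.ind _ H)) (RO.rg (hb.ind _ H))

theorem rg_add_conj {η : G → ℂ} (h : IsGeneralizedCharacter G η) :
    (fun g => η g + conj (η g)) ∈ RG G := by
  obtain ⟨a, b, ha, hb, rfl⟩ := h
  convert sub_mem (ro_add_conj ha).rg (ro_add_conj hb).rg using 1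
  ext g; simp; ring

theorem RG.ro [Finite G] {χ : G → ℂ} (hχ : IsIrrCharacter G χ) (h : χ ∈ RG G) : RO χ := by
  refine realOver_of_mem_closure _ hχ ?_
  exact RG.induction (P := fun f => f ∈ AddSubgroup.closure {ψ : G → ℂ | IrrOver _ ψ})
    (fun _ h => h.mem_closure _) (fun _ _ => sub_mem) h

/-- The odd multiplicity lemma. -/
theorem ro_of_odd_inner [Fintype G] {φ χ : G → ℂ} (hφ : φ ∈ RG G) (hχ : IsIrrCharacter G χ)
    (hr : ∀ g, (χ g).im = 0) {m : ℤ} (hm : Odd m) (h : classInner φ χ = m) : RO χ := by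
  have hφ' : φ ∈ AddSubgroup.closure {ψ : G → ℂ | IrrOver Complex.ofRealHom ψ} :=
    RG.induction (P := fun f => f ∈ AddSubgroup.closure {ψ : G → ℂ | IrrOver _ ψ})
      (fun _ h => h.mem_closure _) (fun _ _ => sub_mem) hφ
  have h1 : ∃ ψ, IrrOver Complex.ofRealHom ψ ∧ ∃ a : ℕ, Odd a ∧ classInner ψ χ = a := by
    by_contra hcon
    push Not at hcon
    have : ∀ f ∈ AddSubgroup.closure {ψ : G → ℂ | IrrOver Complex.ofRealHom ψ},
        ∃ k : ℤ, classInner f χ = 2 * k := by
      intro f hf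
      induction hf using AddSubgroup.closure_induction with
      | mem f hf =>
        obtain ⟨a, ha⟩ := exists_nat_inner (IrrOver.realOver _ hf).isChar (isChar_of_isIrr hχ)
        rcases Nat.even_or_odd a with ⟨k, hk⟩ | ho
        · exact ⟨k, by rw [ha, hk]; push_cast; ring⟩
        · exact absurd ha (hcon f hf a ho)
      | zero => exact ⟨0, by simp [Char.inner_zero_left]⟩
      | add a b _ _ ha hb =>
        obtain ⟨k, hk⟩ := ha
        obtain ⟨l, hl⟩ := hb
        exact ⟨k + l, by rw [Char.inner_add_left, hk, hl]; push_cast; ring⟩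
      | neg a _ ha =>
        obtain ⟨k, hk⟩ := ha
        exact ⟨-k, by rw [Char.inner_neg_left, hk]; push_cast; ring⟩
    obtain ⟨k, hk⟩ := this φ hφ'
    rw [h] at hk
    have : m = 2 * k := by exact_mod_cast hk
    obtain ⟨j, hj⟩ := hm
    omega
  obtain ⟨ψ, hψ, a, hao, ha⟩ := h1
  have hψc := hψ.realOver.isChar
  have h3 : ∀ f ∈ AddSubgroup.closure {ψ : G → ℂ | IrrOver Complex.ofRealHom ψ},
      ∃ k : ℤ, classInner f ψ = k * classInner ψ ψ := by
    intro f hf
    induction hf using AddSubgroup.closure_induction with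
    | mem f hf =>
      by_cases e : f = ψ
      · exact ⟨1, by simp [e]⟩
      · exact ⟨0, by simp [IrrOver.inner_eq_zero _ hf hψ e]⟩
    | zero => exact ⟨0, by simp [Char.inner_zero_left]⟩
    | add a b _ _ ha hb =>
      obtain ⟨k, hk⟩ := ha
      obtain ⟨l, hl⟩ := hb
      exact ⟨k + l, by rw [Char.inner_add_left, hk, hl]; push_cast; ring⟩
    | neg a _ ha =>
      obtain ⟨k, hk⟩ := ha
      exact ⟨-k, by rw [Char.inner_neg_left, hk]; push_cast; ring⟩
  have h2χ : RO (χ + χ) := by
    convert ro_add_conj (isChar_of_isIrr hχ) using 1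
    ext g
    simp [Complex.conj_eq_iff_im.2 (hr g)]
  have ha' : classInner χ ψ = a := by rw [← Ind.inner_conj_symm, ha]; simp
  -- `ψ` has no constituent other than `χ`
  have hrest := isChar_sub_nat_smul hψc hχ ha le_rfl
  obtain ⟨c, hc⟩ := exists_nat_inner hrest hrest
  have hN : classInner ψ ψ = (c + a ^ 2 : ℕ) := by
    rw [Char.inner_sub_left, Char.inner_sub_right, Char.inner_sub_right, Char.inner_smul_left,
      Char.inner_smul_right, Char.inner_smul_left, Char.inner_smul_right, ha, ha',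
      inner_self_of_isIrr hχ] at hc
    simp only [map_natCast] at hc
    push_cast
    linear_combination hc
  obtain ⟨k, hk⟩ := h3 _ (h2χ.mem_closure _)
  rw [Char.inner_add_left, ha', hN] at hk
  have hk' : (a : ℤ) + a = k * (c + a ^ 2) := by exact_mod_cast hk
  have ha1 : (1 : ℤ) ≤ a := by exact_mod_cast hao.pos
  have hc0 : (0 : ℤ) ≤ c := Nat.cast_nonneg c
  have hk1 : 1 ≤ k := by
    by_contra hlt
    have : k * (c + a ^ 2) ≤ 0 := mul_nonpos_of_nonpos_of_nonneg (by omega) (by positivity)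
    omega
  have ha2 : a = 1 := by
    have h4 : (c : ℤ) + a ^ 2 ≤ a + a := by nlinarith
    have h5 : (a : ℤ) ≤ 2 := by nlinarith
    obtain ⟨j, hj⟩ := hao
    omega
  subst ha2
  rcases Nat.eq_zero_or_pos c with rfl | hc1
  · rw [← eq_of_inner_ne_zero (isIrr_of_isChar_of_inner_self hψc (by simpa using hN)) hχ
      (by rw [ha]; simp)]
    exact hψ.realOver
  -- `ψ = χ + η`
  exfalso
  have hc2 : c = 1 := by
    have : (c : ℤ) ≤ 1 := by push_cast at hk'; nlinarith
    omega
  subst hc2
  have hη : IsIrrCharacter G (ψ - ((1 : ℕ) : ℂ) • χ) :=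
    isIrr_of_isChar_of_inner_self hrest (by simpa using hc)
  have hk2 : k = 1 := by push_cast at hk'; omega
  subst hk2
  -- the difference `2χ - ψ` is orthogonal to `ψ`, hence has no common constituent with it
  have key : ∀ f ∈ AddSubgroup.closure {ψ : G → ℂ | IrrOver Complex.ofRealHom ψ},
      classInner f χ = classInner f (ψ - ((1 : ℕ) : ℂ) • χ) := by
    intro f hf
    induction hf using AddSubgroup.closure_induction with
    | mem f hf =>
      by_cases e : f = ψ
      · subst e
        rw [Char.inner_sub_right, Char.inner_smul_right, hN, ha]; norm_num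
      · have h0 := IrrOver.inner_eq_zero _ hf hψ e
        obtain ⟨x, hx⟩ := exists_nat_inner (IrrOver.realOver _ hf).isChar (isChar_of_isIrr hχ)
        obtain ⟨y, hy⟩ := exists_nat_inner (IrrOver.realOver _ hf).isChar hrest
        have h5 := hy
        rw [Char.inner_sub_right, Char.inner_smul_right, h0, hx] at h5
        have h6 : (x : ℂ) + y = 0 := by rw [← h5]; simp
        have h7 : x + y = 0 := by exact_mod_cast h6
        rw [hx, hy]
        congr 1; omega
    | zero => simp [Char.inner_zero_left]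
    | add a b _ _ ha hb => rw [Char.inner_add_left, Char.inner_add_left, ha, hb]
    | neg a _ ha => rw [Char.inner_neg_left, Char.inner_neg_left, ha]
  have := key _ (h2χ.mem_closure _)
  rw [Char.inner_add_left, Char.inner_add_left, inner_self_of_isIrr hχ, Char.inner_sub_right,
    Char.inner_smul_right, ha', inner_self_of_isIrr hχ] at this
  norm_num at this

theorem RR.rg [Finite G] (h : RR G) {φ : G → ℂ} (hφ : IsGeneralizedCharacter G φ)
    (hr : ∀ g, (φ g).im = 0) : φ ∈ RG G := by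
  classical
  have := Fintype.ofFinite G
  obtain ⟨n, hn⟩ := isGen_iff_exists_int.1 hφ
  have hc : ∀ χ : IrrCharacter G, n (irrConj χ) = n χ := by
    intro χ
    have h1 := inner_sum_smul_irr (fun χ => (n χ : ℂ)) χ
    have h2 := inner_sum_smul_irr (fun χ => (n χ : ℂ)) (irrConj χ)
    rw [← hn] at h1 h2
    have h3 : (fun g => conj (φ g)) = φ := funext fun g => Complex.conj_eq_iff_im.2 (hr g)
    have h4 := inner_conj_conj φ (χ : G → ℂ)
    rw [h3, ← inner_comm_of_isGen hφ (isGen_of_isIrr χ.2), h1] at h4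
    have h5 : classInner φ (irrConj χ : G → ℂ) = n χ := h4
    exact_mod_cast h2.symm.trans h5
  have hinv : ∀ χ : IrrCharacter G, irrConj (irrConj χ) = χ := fun χ =>
    Subtype.ext (funext fun g => Complex.conj_conj _)
  rw [hn, ← QuotientAddGroup.eq_zero_iff, ← QuotientAddGroup.mk'_apply, map_sum,
    ← Finset.sum_filter_add_sum_filter_not Finset.univ (fun χ => irrConj χ = χ),
    Finset.sum_eq_zero, zero_add]
  · refine Finset.sum_involution (fun χ _ => irrConj χ) ?_ ?_ ?_ ?_
    · intro χ _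
      rw [← map_add, QuotientAddGroup.mk'_apply, QuotientAddGroup.eq_zero_iff, hc, ← smul_add,
        Int.cast_smul_eq_zsmul]
      exact zsmul_mem (ro_add_conj (isChar_irr χ)).rg _
    · intro χ hχ _
      exact (Finset.mem_filter.1 hχ).2
    · intro χ hχ
      refine Finset.mem_filter.2 ⟨Finset.mem_univ _, fun e => (Finset.mem_filter.1 hχ).2 ?_⟩
      rw [hinv] at e
      exact e.symm
    · intro χ _
      exact hinv χ
  · intro χ hχ
    rw [QuotientAddGroup.mk'_apply, QuotientAddGroup.eq_zero_iff, Int.cast_smul_eq_zsmul]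
    refine zsmul_mem (h _ χ.2 fun g => Complex.conj_eq_iff_im.1 ?_).rg _
    exact congrFun (congrArg Subtype.val (Finset.mem_filter.1 hχ).2) g

end ro

end Cfsg.Agent.FS
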