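import Cfsg.Agent.Lib.FS.Hyp

/-!
# The families `G1`, `G2` and the Siegel step
-/

set_option autoImplicit false
set_option linter.unusedSectionVars false
set_option linter.style.haveILetI false

namespace Cfsg.Agent.FS

open Module Multiplicative QS

universe u

namespace Good
variable {P : ∀ (G : Type u) [Group G], Prop} (hP : Good P)
include hP

theorem range {G L : Type u} [Group G] [Finite G] [Group L] (f : G →* L) (L' : Subgroup L)
    (h1 : ∀ g, f g ∈ L') (h2 : ∀ l ∈ L', ∃ g, f g = l) (h : P G) : P L' :=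
  hP.surj (f.codRestrict L' h1) (fun l => by
    obtain ⟨g, hg⟩ := h2 l l.2
    exact ⟨g, Subtype.ext hg⟩) h

theorem elem {G : Type u} [Group G] [Finite G] (h : ∀ g : G, g * g = 1) : P G := by
  letI : CommGroup G := { ‹Group G› with
    mul_comm := fun a b => by
      have h1 : ∀ g : G, g⁻¹ = g := fun g => inv_eq_of_mul_eq_one_right (h g)
      rw [← h1 (a * b), mul_inv_rev, h1, h1] }
  exact hP.cliff G G PUnit (MonoidHom.id G) 1 (fun _ n => n) h Function.injective_id (by simp)
    (fun g => ⟨g, 1, by simp⟩) fun _ L' _ => hP.one _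

theorem equiv {G H : Type u} [Group G] [Finite G] [Group H] (e : G ≃* H) (h : P G) : P H :=
  hP.surj e.toMonoidHom e.surjective h

theorem top {G : Type u} [Group G] [Finite G] (h : P G) : P (⊤ : Subgroup G) :=
  hP.equiv Subgroup.topEquiv.symm h

theorem of_top {G : Type u} [Group G] [Finite G] (h : P (⊤ : Subgroup G)) : P G :=
  hP.equiv Subgroup.topEquiv h

end Good

namespace QS
variable {F V : Type*} [Field F] [AddCommGroup V] [Module F V] (q : QS F V)

/-- pairs `(d, g)` with `g y = μ(d) y` -/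
def G1 {D : Type*} [Group D] (μ : D →* Fˣ) (y : V) : Subgroup (D × q.O) where
  carrier := {p | p.2 y = (μ p.1 : F) • y}
  one_mem' := by simp
  mul_mem' {a b} ha hb := by
    simp only [Set.mem_ofPred_eq, Prod.snd_mul, mul_apply, Prod.fst_mul, map_mul,
      Units.val_mul] at ha hb ⊢
    rw [hb, map_smul, ha, smul_smul, mul_comm]
  inv_mem' {a} ha := by
    simp only [Set.mem_ofPred_eq, Prod.snd_inv, Prod.fst_inv, map_inv] at ha ⊢
    rw [← (a.2 : V ≃ₗ[F] V).injective.eq_iff, apply_inv, map_smul, ha, smul_smul]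
    simp

@[simp] theorem mem_G1 {D : Type*} [Group D] {μ : D →* Fˣ} {y : V} {p : D × q.O} :
    p ∈ q.G1 μ y ↔ p.2 y = (μ p.1 : F) • y := Iff.rfl

/-- elements fixing `v` and moving `x` by multiples of `v` from `S` -/
def G2 (S : AddSubgroup F) (v x : V) : Subgroup q.O where
  carrier := {g | g v = v ∧ ∃ s ∈ S, g x = x + s • v}
  one_mem' := ⟨rfl, 0, S.zero_mem, by simp⟩
  mul_mem' := by
    rintro a b ⟨ha, s, hs, ha'⟩ ⟨hb, t, ht, hb'⟩
    refine ⟨by rw [mul_apply, hb, ha], s + t, S.add_mem hs ht, ?_⟩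
    rw [mul_apply, hb', map_add, map_smul, ha, ha', add_smul, add_assoc]
  inv_mem' := by
    rintro a ⟨ha, s, hs, ha'⟩
    refine ⟨(q.stab v).inv_mem ha, -s, S.neg_mem hs, ?_⟩
    rw [← (a : V ≃ₗ[F] V).injective.eq_iff, apply_inv, map_add, map_smul, ha, ha']
    simp

theorem mem_G2 {S : AddSubgroup F} {v x : V} {g : q.O} :
    g ∈ q.G2 S v x ↔ g v = v ∧ ∃ s ∈ S, g x = x + s • v := Iff.rfl

/-- pairs `(d, g)` with `g ∘ φ = φ ∘ σ(d)` -/
def G3 {D T : Type*} [Group D] [AddCommGroup T] [Module F T] (σ : D →* T ≃ₗ[F] T)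
    (φ : T →ₗ[F] V) : Subgroup (D × q.O) where
  carrier := {p | ∀ t, p.2 (φ t) = φ (σ p.1 t)}
  one_mem' := by simp
  mul_mem' {a b} ha hb t := by
    simp only [Prod.snd_mul, mul_apply, Prod.fst_mul, map_mul, LinearEquiv.mul_apply]
    rw [hb, ha]
  inv_mem' {a} ha t := by
    rw [← (a.2 : V ≃ₗ[F] V).injective.eq_iff, ha, Prod.snd_inv, apply_inv, Prod.fst_inv, map_inv,
      ← LinearEquiv.mul_apply, mul_inv_cancel, LinearEquiv.coe_one, id]

theorem mem_G3 {D T : Type*} [Group D] [AddCommGroup T] [Module F T] {σ : D →* T ≃ₗ[F] T}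
    {φ : T →ₗ[F] V} {p : D × q.O} : p ∈ q.G3 σ φ ↔ ∀ t, p.2 (φ t) = φ (σ p.1 t) := Iff.rfl

end QS

section step
variable {P : ∀ (G : Type u) [Group G], Prop}
variable {F V : Type u} [Field F] [Finite F] [CharP F 2] [AddCommGroup V] [Module F V] [Finite V]
  (q : QS F V)

variable (F) in
include F in
theorem sq_mult (n : Multiplicative V) : n * n = 1 := by
  have := vadd_self F n.toAdd
  exact congrArg ofAdd this

theorem step1_model (hP : Cliff P) {D : Type u} [Group D] [Finite D] (μ : D →* Fˣ)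
    (h : ∀ y, P (q.G1 μ y)) : P (q.hyp.G1 μ (1, 0, 0)) := by
  obtain ⟨ψ, c₀, hψ⟩ := exists_psi F
  refine hP _ (Multiplicative V) (D × q.O)
    (((1 : _ →* D).prod q.sieg).codRestrict _ fun n => by simp)
    (((MonoidHom.fst D q.O).prod (q.lev.comp (μ.prodMap (MonoidHom.id _)))).codRestrict _
      fun l => by simp)
    (fun l n => ofAdd ((μ l.1 : F) • l.2 n.toAdd)) (sq_mult F) (fun a b e => ?_)
    (fun l n => Subtype.ext (Prod.ext (show l.1 * 1 * l.1⁻¹ = 1 by simp)
      (q.lev_sieg (μ l.1, l.2) n))) (fun g => ?_)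
    fun lam L' hL => ?_
  · exact q.sieg_injective (congrArg (fun x => x.1.2) e)
  · obtain ⟨c, k, hk⟩ := exists_sieg_lev g.2
    exact ⟨c, (g.1.1, k), Subtype.ext (Prod.ext (one_mul _).symm hk)⟩
  · obtain ⟨y, hy⟩ := exists_psi_eq q hψ lam
    have : L' = q.G1 μ y := by
      ext l
      rw [hL, mem_G1]
      constructor
      · intro H
        have : (μ l.1 : F) • l.2⁻¹ y = y := psi_inj q hψ fun w => by
          have := H (ofAdd w)
          rw [hy, hy, toAdd_ofAdd, map_smul, B_right] at this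
          rw [map_smul, LinearMap.smul_apply, this]
        conv_lhs => rw [← this, map_smul, apply_inv]
      · intro H n
        rw [hy, ← ofAdd_toAdd n, hy, toAdd_ofAdd, ← isoB l.2 y n.toAdd, H]
        simp
    rw [this]
    exact h y

theorem step2_model (hP : Good P) (S : AddSubgroup F) {x : V} (hx : x ≠ 0)
    (h : ∀ S' y, P (q.G2 S' x y)) : P (q.hyp.G2 S (1, 0, 0) (0, x, 0)) := by
  obtain ⟨ψ, c₀, hψ⟩ := exists_psi F
  let N : Subgroup (Multiplicative V) := (S.comap (q.B x).toAddMonoidHom).toSubgroup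
  have hN : ∀ n : Multiplicative V, n ∈ N ↔ q.B x n.toAdd ∈ S := fun _ => Iff.rfl
  have hact : ∀ (l : q.stab x) (n : N), ofAdd (l.1 n.1.toAdd) ∈ N := fun l n => by
    rw [hN, toAdd_ofAdd, B_right, (q.stab x).inv_mem l.2]
    exact n.2
  refine hP.cliff _ N (q.stab x)
    ((q.sieg.comp N.subtype).codRestrict _ fun n => ⟨by simp, _, (hN _).1 n.2, by
      simp [q.symm x]⟩)
    ((q.lev.comp ((1 : _ →* Fˣ).prod (q.stab x).subtype)).codRestrict _
      fun l => ⟨by simp, 0, S.zero_mem, by simpa using mem_stab.1 l.2⟩)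
    (fun l n => ⟨_, hact l n⟩) (fun n => Subtype.ext (sq_mult F _)) (fun a b e => ?_)
    (fun l n => Subtype.ext ((q.lev_sieg (1, l.1) n).trans (by
      rw [Units.val_one, one_smul]; rfl))) (fun g => ?_)
    fun lam L' hL => ?_
  · exact Subtype.ext (q.sieg_injective (congrArg (fun x => x.1) e))
  · obtain ⟨h1, s, hs, h2⟩ := g.2
    obtain ⟨c, k, hk⟩ := exists_sieg_lev (μ := 1) (g := g.1) (by simpa using h1)
    rw [hk] at h2
    simp only [mul_apply, lev_apply, sieg_apply, Prod.ext_iff] at h2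
    have h3 : k x = x := by simpa using h2.2.1
    have h4 : q.B x c.toAdd = s := by simpa [h3, q.symm x] using h2.1
    exact ⟨⟨c, (hN _).2 (h4 ▸ hs)⟩, ⟨k, h3⟩, Subtype.ext hk⟩
  · obtain ⟨lam', rfl⟩ := MonoidHom.domRestrict_surjective ℂ N lam
    obtain ⟨y, hy⟩ := exists_psi_eq q hψ lam'
    let S' : AddSubgroup F :=
      { carrier := {s | ∀ t ∈ S, ψ (ofAdd (s * t)) = 1}
        zero_mem' := by simp
        add_mem' := fun ha hb t ht => by rw [add_mul, ofAdd_add, map_mul, ha t ht, hb t ht, one_mul]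
        neg_mem' := fun ha t ht => by rw [neg_mul, ofAdd_neg, map_inv, ha t ht, inv_one] }
    have key : ∀ l : q.stab x, l ∈ L' ↔ l.1⁻¹ ∈ q.G2 S' x y := by
      intro l
      rw [hL]
      have e : ∀ n : N, (lam' (ofAdd (l.1 n.1.toAdd)) = lam' n ↔
          ψ (ofAdd (q.B (l.1⁻¹ y - y) n.1.toAdd)) = 1) := fun n => by
        rw [hy, ← ofAdd_toAdd n.1, hy, toAdd_ofAdd, B_right, map_sub, LinearMap.sub_apply,
          ofAdd_sub, map_div, div_eq_one]
      constructor
      · intro H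
        replace H : ∀ c, q.B x c ∈ S → ψ (ofAdd (q.B (l.1⁻¹ y - y) c)) = 1 := fun c hc =>
          (e ⟨ofAdd c, hc⟩).1 (H _)
        obtain ⟨x', hx'⟩ := q.exists_B_one hx
        refine ⟨(q.stab x).inv_mem l.2, q.B (l.1⁻¹ y - y) x', fun t ht => ?_, ?_⟩
        · have := H (t • x') (by simpa [hx'] using ht)
          rwa [map_smul, smul_eq_mul, mul_comm] at this
        · rw [← sub_eq_iff_eq_add']
          refine q.ext_B fun c => ?_
          have := psi_lin hψ (f := q.B (l.1⁻¹ y - y)) (w := c - q.B x c • x') fun t =>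
            H _ (by simp [hx'])
          rw [map_sub, map_smul, sub_eq_zero] at this
          rw [this, map_smul, LinearMap.smul_apply, smul_eq_mul, smul_eq_mul, mul_comm]
      · rintro ⟨-, s, hs, H⟩ n
        refine (e n).2 ?_
        rw [H, add_sub_cancel_left, map_smul, LinearMap.smul_apply, smul_eq_mul]
        exact hs _ n.2
    refine hP.range (Subgroup.inclusion (H := q.G2 S' x y) (K := q.stab x) fun g hg => hg.1) L'
      (fun g => (key _).2 (inv_mem g.2)) (fun l hl => ?_) (h S' y)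
    exact ⟨⟨l.1, inv_mem_iff.1 ((key l).1 hl)⟩, rfl⟩

variable {q} {V' : Type u} [AddCommGroup V'] [Module F V'] [Finite V'] {q' : QS F V'}
  (e : V ≃ₗ[F] V') (he : ∀ x, q'.Q (e x) = q.Q x)
include he

theorem G1_congr (hP : Good P) {D : Type u} [Group D] [Finite D] (μ : D →* Fˣ) (y : V)
    (h : P (q.G1 μ y)) : P (q'.G1 μ (e y)) := by
  refine hP.range (((MonoidHom.id D).prodMap (congr e he).toMonoidHom).comp (q.G1 μ y).subtype) _
    (fun g => ?_) (fun l hl => ?_) h
  · show congr e he g.1.2 (e y) = _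
    rw [congr_apply, g.2, map_smul]
    rfl
  · obtain ⟨g, hg⟩ := (congr e he).surjective l.2
    refine ⟨⟨(l.1, g), e.injective ?_⟩, Prod.ext rfl hg⟩
    rw [← congr_apply e he, hg, hl, map_smul]

theorem G2_congr (hP : Good P) (S : AddSubgroup F) (v x : V)
    (h : P (q.G2 S v x)) : P (q'.G2 S (e v) (e x)) := by
  refine hP.range ((congr e he).toMonoidHom.comp (q.G2 S v x).subtype) _
    (fun g => ?_) (fun l hl => ?_) h
  · obtain ⟨h1, s, hs, h2⟩ := g.2
    refine ⟨?_, s, hs, ?_⟩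
    · show congr e he g.1 (e v) = _
      rw [congr_apply, h1]
    · show congr e he g.1 (e x) = _
      rw [congr_apply, h2, map_add, map_smul]
  · obtain ⟨g, rfl⟩ := (congr e he).surjective l
    obtain ⟨h1, s, hs, h2⟩ := hl
    refine ⟨⟨g, e.injective ?_, s, hs, e.injective ?_⟩, rfl⟩
    · rw [← congr_apply e he, h1]
    · rw [← congr_apply e he, h2, map_add, map_smul]

theorem G3_congr (hP : Good P) {D T : Type u} [Group D] [Finite D] [AddCommGroup T] [Module F T]
    (σ : D →* T ≃ₗ[F] T) (φ : T →ₗ[F] V) (h : P (q.G3 σ φ)) :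
    P (q'.G3 σ (e.toLinearMap ∘ₗ φ)) := by
  refine hP.range (((MonoidHom.id D).prodMap (congr e he).toMonoidHom).comp (q.G3 σ φ).subtype) _
    (fun g t => ?_) (fun l hl => ?_) h
  · show congr e he g.1.2 (e (φ t)) = _
    rw [congr_apply, g.2]
    rfl
  · obtain ⟨g, hg⟩ := (congr e he).surjective l.2
    refine ⟨⟨(l.1, g), fun t => e.injective ?_⟩, Prod.ext rfl hg⟩
    rw [← congr_apply e he, hg]
    exact hl t

end step

end Cfsg.Agent.FS
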